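import Cfsg.Agent.Lib.Linear.SUFour.OrthFull

/-!
# The orthogonal type subfield groups of `SU_4(q)`: images of rational singular points

Without irrational root elements the image `a + c b` of a rational singular point spans, with its
conjugate, neither a totally singular plane, nor an elliptic plane, nor one with a hyperbolic
perpendicular plane.
-/

set_option autoImplicit false

namespace Cfsg.Lib.Linear.SUFour.Orth

open scoped Matrix
open Cfsg.Lib.Linear Cfsg.Lib.Linear.Rat0 Cfsg.Lib.Linear.SubU Module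

variable {ι : Type} [Fintype ι] [DecidableEq ι] {F : Type*} [Field F] {σ : F →+* F}
  {F₀ : Subfield F} {J : Matrix ι ι F₀} {L : Subgroup (GL ι F)}

/-- The discriminant of the plane of two rational vectors, up to sign. -/
def disc (J : Matrix ι ι F₀) (a b : ι → F₀) : F₀ := g0 J a b * g0 J a b - q0 J a * q0 J b

theorem isSquare_mul_of_not {K : Type*} [Field K] [Finite K] (h2 : (2 : K) ≠ 0) {a b : K}
    (ha : ¬IsSquare a) (hb : ¬IsSquare b) : IsSquare (a * b) := by
  classical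
  letI := Fintype.ofFinite K
  have hch : ringChar K ≠ 2 := fun h => h2 (by
    haveI := ringChar.charP K
    have := CharP.cast_eq_zero K (ringChar K)
    rw [h] at this
    exact_mod_cast this)
  have ha0 : a ≠ 0 := fun e => ha (e ▸ IsSquare.zero)
  have hb0 : b ≠ 0 := fun e => hb (e ▸ IsSquare.zero)
  rw [← quadraticChar_one_iff_isSquare (mul_ne_zero ha0 hb0), map_mul,
    (quadraticChar_neg_one_iff_not_isSquare).mpr ha, (quadraticChar_neg_one_iff_not_isSquare).mpr hb]
  norm_num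

variable (C : Ctx σ F₀ J)

include C in
/-- A plane with non-zero discriminant and a perpendicular one are independent. -/
theorem indep_planes {a b z w : ι → F₀} (hd : disc J a b ≠ 0) (hd' : disc J z w ≠ 0)
    (haz : g0 J a z = 0) (haw : g0 J a w = 0) (hbz : g0 J b z = 0) (hbw : g0 J b w = 0) :
    ∀ s t u v : F₀, s • a + t • b + u • z + v • w = 0 → s = 0 ∧ t = 0 ∧ u = 0 ∧ v = 0 := by
  intro s t u v h
  have h1 := congrArg (g0 J · a) h
  have h2 := congrArg (g0 J · b) h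
  have h3 := congrArg (g0 J · z) h
  have h4 := congrArg (g0 J · w) h
  simp only [g0_add, g0_smul, g0_zero_left, C.g0_symm b a, C.g0_symm z a, C.g0_symm w a,
    C.g0_symm z b, C.g0_symm w b, C.g0_symm w z, haz, haw, hbz, hbw, mul_zero, add_zero,
    zero_add] at h1 h2 h3 h4
  rw [show g0 J a a = q0 J a from rfl] at h1
  rw [show g0 J b b = q0 J b from rfl] at h2
  rw [show g0 J z z = q0 J z from rfl] at h3
  rw [show g0 J w w = q0 J w from rfl] at h4
  refine ⟨(mul_eq_zero.mp ?_).resolve_right hd, (mul_eq_zero.mp ?_).resolve_right hd,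
    (mul_eq_zero.mp ?_).resolve_right hd', (mul_eq_zero.mp ?_).resolve_right hd'⟩
  · rw [disc]; linear_combination g0 J a b * h2 - q0 J b * h1
  · rw [disc]; linear_combination g0 J a b * h1 - q0 J a * h2
  · rw [disc]; linear_combination g0 J z w * h4 - q0 J w * h3
  · rw [disc]; linear_combination g0 J z w * h3 - q0 J z * h4

variable (hN : ratIso σ F₀ J ≤ L) (hLG : L ≤ spIso σ F₀ J) (hI : ¬Irr σ F₀ J L)

include C hN hLG hI in
/-- A map between rational singular points is rational on the perpendicular space, up to them. -/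
theorem stab_rat {g : GL ι F} (hg : g ∈ L) {z r d : ι → F₀} {μ : F} (hz : q0 J z = 0) (hμ : μ ≠ 0)
    (hr : r ≠ 0) (hgz : (g : Matrix ι ι F) *ᵥ rv F₀ z = μ • rv F₀ r) (hd : g0 J d z = 0) :
    ∃ (a : ι → F₀) (ν : F), σ μ • ((g : Matrix ι ι F) *ᵥ rv F₀ d) = rv F₀ a + ν • rv F₀ r := by
  have hrq : q0 J r = 0 := by
    have h0 : frm σ F₀ J (μ • rv F₀ r) (μ • rv F₀ r) = 0 := by
      rw [← hgz, (mem_spIso.mp (hLG hg)).1, iso_rv C hz]
    rw [frm_smul_left, frm_smul_right, C.frm_rv] at h0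
    refine Subtype.ext ?_
    have hμ' : σ μ ≠ 0 := fun e => hμ (by rw [← C.inv μ, e, map_zero])
    exact ((mul_eq_zero.mp ((mul_eq_zero.mp h0).resolve_left hμ)).resolve_left hμ')
  have h1 := InR.conj hLG hg (rat_gen C hN hz hd)
  rw [hgz] at h1
  have h2 := h1.centre_smul C (iso_rv C hrq) hμ
  by_contra hne
  push Not at hne
  exact hI ⟨r, _, _, hrq, hr, h2, hne⟩

include C in
/-- A vector perpendicular to everything perpendicular to a rational point is a multiple of it. -/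
theorem eq_smul_of_perp {x : ι → F₀} (hx0 : x ≠ 0) {v : ι → F}
    (h : ∀ d, g0 J d x = 0 → frm σ F₀ J (rv F₀ d) v = 0) : ∃ μ : F, v = μ • rv F₀ x := by
  obtain ⟨y, -, hxy⟩ := C.exists_dual (k := 0) ![] (x := x) (by simpa using hx0)
  refine ⟨σ (frm σ F₀ J (rv F₀ y) v), sub_eq_zero.mp (eq_zero_of_perp' C fun e => ?_)⟩
  have he := h (e - g0 J e x • y) (by rw [g0_sub, g0_smul, C.g0_symm y x, hxy, mul_one, sub_self])
  rw [rv_sub, rv_smul, frm_sub_left, frm_smul_left] at he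
  rw [frm_sub_right, frm_smul_right, C.inv, C.frm_rv]
  linear_combination he

variable {c : F} (hc : σ c = -c) (hc0 : c ≠ 0) {δ : F₀} (hδ : c * c = δ)

include C hc hc0 hδ in
theorem not_square (r : F₀) : r * r ≠ δ := fun e => by
  have h : ((r : F) - c) * ((r : F) + c) = 0 := by
    have h' : (r : F) * r = δ := congrArg Subtype.val e
    linear_combination h' - hδ
  rcases mul_eq_zero.mp h with h | h
  · exact anti_notMem C hc hc0 (sub_eq_zero.mp h ▸ r.2)
  · exact anti_notMem C hc hc0 (eq_neg_of_add_eq_zero_right h ▸ F₀.neg_mem r.2)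

include C hc hc0 hδ in
theorem delta_ne_zero : δ ≠ 0 := fun e => not_square C hc hc0 hδ 0 (by rw [e, mul_zero])

variable {h : GL ι F} (hh : h ∈ L) {x : ι → F₀} (hx : q0 J x = 0) (hx0 : x ≠ 0) {a b : ι → F₀}
  (hu : (h : Matrix ι ι F) *ᵥ rv F₀ x = rv F₀ a + c • rv F₀ b)

include C hc hδ hLG hh hx hu in
theorem qa_eq : q0 J a = δ * q0 J b := by
  have h0 : frm σ F₀ J (rv F₀ a + c • rv F₀ b) (rv F₀ a + c • rv F₀ b) = 0 := by
    rw [← hu, (mem_spIso.mp (hLG hh)).1, iso_rv C hx]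
  rw [frm_split C hc, C.g0_symm b a, sub_self, mul_zero, add_zero, hδ] at h0
  refine Subtype.ext ?_
  rw [MulMemClass.coe_mul]
  exact sub_eq_zero.mp h0

include C hN hLG hI hh hx hx0 in
/-- An element fixing the image point induces a rational map. -/
theorem image_rel {g : GL ι F} (hg : g ∈ L) {k : F} (hk : k ≠ 0)
    (hgu : (g : Matrix ι ι F) *ᵥ ((h : Matrix ι ι F) *ᵥ rv F₀ x) =
      k • ((h : Matrix ι ι F) *ᵥ rv F₀ x))
    {d : ι → F₀} (hd : g0 J d x = 0) :
    ∃ (r : ι → F₀) (ν : F), g0 J r x = 0 ∧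
      σ k • ((g : Matrix ι ι F) *ᵥ ((h : Matrix ι ι F) *ᵥ rv F₀ d)) =
        (h : Matrix ι ι F) *ᵥ rv F₀ r + ν • ((h : Matrix ι ι F) *ᵥ rv F₀ x) := by
  have hgL : h⁻¹ * g * h ∈ L := L.mul_mem (L.mul_mem (L.inv_mem hh) hg) hh
  have hval : ∀ v, ((h⁻¹ * g * h : GL ι F) : Matrix ι ι F) *ᵥ v =
      ((h⁻¹ : GL ι F) : Matrix ι ι F) *ᵥ ((g : Matrix ι ι F) *ᵥ ((h : Matrix ι ι F) *ᵥ v)) :=
    fun v => by rw [Units.val_mul, Units.val_mul, ← Matrix.mulVec_mulVec, ← Matrix.mulVec_mulVec]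
  have hcan : ∀ v, ((h⁻¹ : GL ι F) : Matrix ι ι F) *ᵥ ((h : Matrix ι ι F) *ᵥ v) = v := fun v => by
    rw [Matrix.mulVec_mulVec, ← Units.val_mul, inv_mul_cancel, Units.val_one, Matrix.one_mulVec]
  have hcan' : ∀ v, (h : Matrix ι ι F) *ᵥ (((h⁻¹ : GL ι F) : Matrix ι ι F) *ᵥ v) = v := fun v => by
    rw [Matrix.mulVec_mulVec, ← Units.val_mul, mul_inv_cancel, Units.val_one, Matrix.one_mulVec]
  have hgx : ((h⁻¹ * g * h : GL ι F) : Matrix ι ι F) *ᵥ rv F₀ x = k • rv F₀ x := by
    rw [hval, hgu, Matrix.mulVec_smul, hcan]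
  obtain ⟨r, ν, e⟩ := stab_rat C hN hLG hI hgL hx hk hx0 hgx hd
  refine ⟨r, ν, ?_, ?_⟩
  · have h1 : frm σ F₀ J (((h⁻¹ * g * h : GL ι F) : Matrix ι ι F) *ᵥ rv F₀ d) (k • rv F₀ x) = 0 := by
      rw [← hgx, (mem_spIso.mp (hLG hgL)).1, perp_rv C hd]
    have h2 := congrArg (frm σ F₀ J · (rv F₀ x)) e
    simp only [frm_smul_left, frm_add_left, C.frm_rv, show g0 J x x = 0 from hx,
      ZeroMemClass.coe_zero, mul_zero, add_zero] at h2
    rw [frm_smul_right] at h1
    exact Subtype.ext (h2.symm.trans h1)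
  · have h1 := congrArg ((h : Matrix ι ι F) *ᵥ ·) e
    simp only [Matrix.mulVec_smul, Matrix.mulVec_add, hval, hcan'] at h1
    exact h1

include C hN hLG hI hc hc0 hδ hh hx hx0 hu in
/-- The plane is not totally singular. -/
theorem ts_false [Finite F] (h5 : 5 ≤ Nat.card F₀) (hab : a ∉ Submodule.span F₀ {b}) (hb0 : b ≠ 0)
    (hqb : q0 J b = 0) (hG : g0 J a b = 0) : False := by
  have hqa : q0 J a = 0 := by rw [qa_eq C hLG hc hδ hh hx hu, hqb, mul_zero]
  have hba : b ∉ Submodule.span F₀ {a} := fun hm => by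
    obtain ⟨t, ht⟩ := Submodule.mem_span_singleton.mp hm
    refine hab (Submodule.mem_span_singleton.mpr ⟨t⁻¹, ?_⟩)
    rw [← ht, smul_smul, inv_mul_cancel₀ (fun e => hb0 (by rw [← ht, e, zero_smul])), one_smul]
  have hG' : g0 J b a = 0 := by rw [C.g0_symm, hG]
  obtain ⟨a', ha'q, ha's, haa⟩ := C.exists_sing ![b] hqa (fun i => by fin_cases i; exact hG)
    (by rw [Matrix.range_cons, Matrix.range_empty, Set.union_empty]; exact hab)
  obtain ⟨b', hb'q, hb's, hbb⟩ := C.exists_sing ![a] hqb (fun i => by fin_cases i; exact hG')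
    (by rw [Matrix.range_cons, Matrix.range_empty, Set.union_empty]; exact hba)
  have ha'b : g0 J a' b = 0 := ha's 0
  have hb'a : g0 J b' a = 0 := hb's 0
  have h2 := C.two'
  have hns := not_square C hc hc0 hδ
  -- a point `k = s + c t` of norm one
  obtain ⟨s, t, hs, ht, hst⟩ : ∃ s t : F₀, s ≠ 0 ∧ t ≠ 0 ∧ s * s - δ * (t * t) = 1 := by
    obtain ⟨m, hm0, hm⟩ : ∃ m : F₀, m ≠ 0 ∧ 1 + δ * (m * m) ≠ 0 := by
      by_cases h1 : 1 + δ = 0
      · obtain ⟨k, hk0, hk⟩ := exists_sq_ne_one h5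
        refine ⟨k, hk0, fun e => hk ?_⟩
        rw [eq_neg_of_add_eq_zero_right h1] at e
        linear_combination -e
      · exact ⟨1, one_ne_zero, by rwa [one_mul, mul_one]⟩
    have hd : 1 - δ * (m * m) ≠ 0 := fun e => hns m⁻¹ (by
      field_simp
      linear_combination e)
    refine ⟨(1 + δ * (m * m)) / (1 - δ * (m * m)), 2 * m / (1 - δ * (m * m)), div_ne_zero hm hd,
      div_ne_zero (mul_ne_zero h2 hm0) hd, ?_⟩
    rw [div_mul_div_comm, div_mul_div_comm, mul_div_assoc', div_sub_div_same,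
      div_eq_one_iff_eq (mul_ne_zero hd hd)]
    ring
  set k : F := (s : F) + c * t with hkdef
  have hσk : σ k = (s : F) - c * t := by
    rw [hkdef, map_add, map_mul, hc, C.fix _ s.2, C.fix _ t.2]; ring
  have hst' : (s : F) * s - δ * (t * t) = 1 := congrArg Subtype.val hst
  have hN1 : k * σ k = 1 := by
    rw [hσk, hkdef]; linear_combination hst' - (t : F) * t * hδ
  have hk0 : k ≠ 0 := fun e => by rw [e, zero_mul] at hN1; exact zero_ne_one hN1
  have hk2 : k * k ≠ σ k * σ k := fun e => by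
    have : (2 : F) * 2 * c * ((s : F) * t) = 0 := by
      rw [hσk, hkdef] at e; linear_combination e
    exact mul_ne_zero (mul_ne_zero (mul_ne_zero C.two C.two) hc0)
      (mul_ne_zero (fun e => hs (Subtype.ext e)) (fun e => ht (Subtype.ext e))) this
  have hk4 : k * k * k - σ k ≠ 0 := fun e => hk2 (by
    linear_combination (σ k) * e - (k * k) * hN1)
  -- the element
  have hD0 : δ * t ≠ 0 := mul_ne_zero (delta_ne_zero C hc hc0 hδ) ht
  set y₁ := (s - 1) / (δ * t) with hy₁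
  set y₂ := δ * t with hy₂
  obtain ⟨-, -, E, hE, hEe⟩ := rat_gen C hN (x := y₁ • a) hb'q
    (by rw [g0_smul, C.g0_symm, hb'a, mul_zero])
  obtain ⟨-, -, G, hG2, hGe⟩ := rat_gen C hN (x := y₂ • b) ha'q
    (by rw [g0_smul, C.g0_symm, ha'b, mul_zero])
  have hEa : (E : Matrix ι ι F) *ᵥ rv F₀ a = rv F₀ a := by
    rw [hEe, rootX_mulVec]
    simp [C.frm_rv, rv_smul, frm_smul_right, C.fix _ (SetLike.coe_mem _), g0_smul_right, q0_smul, hqa, show g0 J a a = 0 from hqa,
      C.g0_symm a b', hb'a]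
  have hEb : (E : Matrix ι ι F) *ᵥ rv F₀ b = rv F₀ b + (y₁ : F) • rv F₀ a := by
    rw [hEe, rootX_mulVec]
    simp [C.frm_rv, rv_smul, frm_smul_right, C.fix _ (SetLike.coe_mem _), g0_smul_right, q0_smul, hqa, hG', hbb]
  have hGa : (G : Matrix ι ι F) *ᵥ rv F₀ a = rv F₀ a + (y₂ : F) • rv F₀ b := by
    rw [hGe, rootX_mulVec]
    simp [C.frm_rv, rv_smul, frm_smul_right, C.fix _ (SetLike.coe_mem _), g0_smul_right, q0_smul, hqb, hG, haa]
  have hGb : (G : Matrix ι ι F) *ᵥ rv F₀ b = rv F₀ b := by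
    rw [hGe, rootX_mulVec]
    simp [C.frm_rv, rv_smul, frm_smul_right, C.fix _ (SetLike.coe_mem _), g0_smul_right, q0_smul, hqb, show g0 J b b = 0 from hqb,
      C.g0_symm b a', ha'b]
  set g := E * G * E with hgdef
  have hgL : g ∈ L := L.mul_mem (L.mul_mem hE hG2) hE
  have hy12 : (y₁ : F) * ((δ : F) * t) = (s : F) - 1 := by
    have := congrArg Subtype.val (div_mul_cancel₀ (s - 1) hD0)
    exact this
  have hga : (g : Matrix ι ι F) *ᵥ rv F₀ a = (s : F) • rv F₀ a + ((δ : F) * t) • rv F₀ b := by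
    rw [hgdef, Units.val_mul, Units.val_mul, ← Matrix.mulVec_mulVec, ← Matrix.mulVec_mulVec, hEa,
      hGa, Matrix.mulVec_add, Matrix.mulVec_smul, hEa, hEb, hy₂, MulMemClass.coe_mul]
    match_scalars
    · linear_combination hy12
    · ring
  have hgb : (g : Matrix ι ι F) *ᵥ rv F₀ b = (t : F) • rv F₀ a + (s : F) • rv F₀ b := by
    rw [hgdef, Units.val_mul, Units.val_mul, ← Matrix.mulVec_mulVec, ← Matrix.mulVec_mulVec, hEb,
      Matrix.mulVec_add, Matrix.mulVec_smul, hGa, hGb, Matrix.mulVec_add, Matrix.mulVec_smul,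
      Matrix.mulVec_add, Matrix.mulVec_smul, hEa, hEb, hy₂, MulMemClass.coe_mul]
    match_scalars
    · linear_combination hy12
    · have h0 : (δ : F) * t ≠ 0 := fun e => hD0 (Subtype.ext e)
      refine mul_right_cancel₀ h0 ?_
      linear_combination ((y₁ : F) * δ * t + 1 + (s : F)) * hy12 + hst'
  set u := rv F₀ a + c • rv F₀ b with hudef
  set u' := rv F₀ a - c • rv F₀ b with hu'def
  have hgu : (g : Matrix ι ι F) *ᵥ u = k • u := by
    rw [hudef, Matrix.mulVec_add, Matrix.mulVec_smul, hga, hgb, hkdef]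
    match_scalars
    · ring
    · linear_combination (-(t : F)) * hδ
  have hgu' : (g : Matrix ι ι F) *ᵥ u' = σ k • u' := by
    rw [hu'def, Matrix.mulVec_sub, Matrix.mulVec_smul, hga, hgb, hσk]
    match_scalars
    · ring
    · linear_combination (-(t : F)) * hδ
  have hcan : ∀ v, ((h⁻¹ : GL ι F) : Matrix ι ι F) *ᵥ ((h : Matrix ι ι F) *ᵥ v) = v := fun v => by
    rw [Matrix.mulVec_mulVec, ← Units.val_mul, inv_mul_cancel, Units.val_one, Matrix.one_mulVec]
  set D := ((h⁻¹ : GL ι F) : Matrix ι ι F) *ᵥ u' with hDdef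
  have hhD : (h : Matrix ι ι F) *ᵥ D = u' := by
    rw [hDdef, Matrix.mulVec_mulVec, ← Units.val_mul, mul_inv_cancel, Units.val_one,
      Matrix.one_mulVec]
  have hqq : ∀ v w, (v = u ∨ v = u') → (w = u ∨ w = u') → frm σ F₀ J v w = 0 := by
    rintro v w (rfl | rfl) (rfl | rfl) <;>
      simp [hudef, hu'def, frm_add_left, frm_add_right, frm_sub_left, frm_sub_right, frm_smul_left,
        frm_smul_right, C.frm_rv, show g0 J a a = 0 from hqa, show g0 J b b = 0 from hqb, hG, hG']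
  obtain ⟨D₁, D₂, hD⟩ := split C hc hc0 D
  obtain ⟨hD₁, hD₂⟩ : g0 J D₁ x = 0 ∧ g0 J D₂ x = 0 := by
    have h1 : frm σ F₀ J D (rv F₀ x) = 0 := by
      rw [← (mem_spIso.mp (hLG hh)).1, hhD, hu]; exact hqq _ _ (Or.inr rfl) (Or.inl rfl)
    rw [hD, frm_add_left, frm_smul_left, C.frm_rv, C.frm_rv] at h1
    exact scalar_zero C hc hc0 h1
  have hgu0 : (g : Matrix ι ι F) *ᵥ ((h : Matrix ι ι F) *ᵥ rv F₀ x) =
      k • ((h : Matrix ι ι F) *ᵥ rv F₀ x) := by rw [hu]; exact hgu
  obtain ⟨r₁, ν₁, -, e₁⟩ := image_rel C hN hLG hI hh hx hx0 hgL hk0 hgu0 hD₁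
  obtain ⟨r₂, ν₂, -, e₂⟩ := image_rel C hN hLG hI hh hx hx0 hgL hk0 hgu0 hD₂
  have hR : rv F₀ r₁ + c • rv F₀ r₂ + (ν₁ + c * ν₂) • rv F₀ x = (σ k * σ k) • D := by
    refine Matrix.mulVec_injective_of_isUnit h.isUnit ?_
    show (h : Matrix ι ι F) *ᵥ _ = (h : Matrix ι ι F) *ᵥ _
    have e3 : σ k • ((g : Matrix ι ι F) *ᵥ ((h : Matrix ι ι F) *ᵥ D)) =
        σ k • (σ k • u') := by rw [hhD, hgu']
    rw [hD, Matrix.mulVec_add, Matrix.mulVec_smul, Matrix.mulVec_add, Matrix.mulVec_smul, smul_add,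
      smul_comm (σ k) c, e₁, e₂, smul_smul] at e3
    rw [Matrix.mulVec_smul, hhD, Matrix.mulVec_add, Matrix.mulVec_add, Matrix.mulVec_smul,
      Matrix.mulVec_smul, ← e3]
    module
  have hR' : rv F₀ r₁ - c • rv F₀ r₂ + σ (ν₁ + c * ν₂) • rv F₀ x =
      (k * k) • (rv F₀ D₁ - c • rv F₀ D₂) := by
    funext i
    have e := congrArg σ (congrFun hR i)
    simp only [hD, Pi.add_apply, Pi.smul_apply, smul_eq_mul, rv, map_add, map_mul, hc, C.inv,
      C.fix _ (r₁ i).2, C.fix _ (r₂ i).2, C.fix _ (D₁ i).2, C.fix _ (D₂ i).2,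
      C.fix _ (x i).2] at e
    simp only [Pi.add_apply, Pi.sub_apply, Pi.smul_apply, smul_eq_mul, rv, map_add, map_mul, hc]
    linear_combination e
  set w := (h : Matrix ι ι F) *ᵥ (rv F₀ D₁ - c • rv F₀ D₂) with hwdef
  obtain ⟨ν, hgw⟩ : ∃ ν : F, σ k • ((g : Matrix ι ι F) *ᵥ w) = (k * k) • w + ν • u := by
    refine ⟨(ν₁ - c * ν₂) - σ (ν₁ + c * ν₂), ?_⟩
    have e4 := congrArg ((h : Matrix ι ι F) *ᵥ ·) hR'
    simp only [Matrix.mulVec_add, Matrix.mulVec_sub, Matrix.mulVec_smul, hu] at e4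
    rw [hwdef, Matrix.mulVec_sub, Matrix.mulVec_smul, Matrix.mulVec_sub, Matrix.mulVec_smul,
      smul_sub, smul_comm (σ k) c, e₁, e₂, hu, ← e4]
    module
  have hwu : frm σ F₀ J w u = 0 := by
    rw [hwdef, ← hu, (mem_spIso.mp (hLG hh)).1, frm_sub_left, frm_smul_left, perp_rv C hD₁,
      perp_rv C hD₂, mul_zero, sub_zero]
  have hwu' : frm σ F₀ J w u' = 0 := by
    have e5 := congrArg (frm σ F₀ J · (σ k • u')) hgw
    simp only [frm_smul_left, frm_add_left] at e5
    rw [← hgu', (mem_spIso.mp (hLG hgL)).1, hgu', frm_smul_right, frm_smul_right, C.inv,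
      hqq u u' (Or.inl rfl) (Or.inr rfl)] at e5
    refine (mul_eq_zero.mp ?_).resolve_left hk4
    linear_combination -e5
  -- so `w` lies in the plane
  have hindep : ∀ s t u v : F₀, s • a + t • b + u • a' + v • b' = 0 →
      s = 0 ∧ t = 0 ∧ u = 0 ∧ v = 0 := by
    intro s t u v e
    have h1 := congrArg (g0 J · a) e
    have h3 := congrArg (g0 J · b) e
    simp only [g0_add, g0_smul, g0_zero_left, show g0 J a a = 0 from hqa,
      show g0 J b b = 0 from hqb, hG, hG', C.g0_symm a' a, haa, hb'a, ha'b, C.g0_symm b' b, hbb,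
      mul_zero, mul_one, add_zero, zero_add] at h1 h3
    subst h1 h3
    have h4 := congrArg (g0 J · a') e
    have h5' := congrArg (g0 J · b') e
    simp only [g0_add, g0_smul, g0_zero_left, haa, C.g0_symm b a', ha'b, C.g0_symm a b', hb'a, hbb,
      mul_zero, zero_mul, mul_one, add_zero, zero_add] at h4 h5'
    exact ⟨h4, h5', rfl, rfl⟩
  have hwa : frm σ F₀ J w (rv F₀ a) = 0 ∧ frm σ F₀ J w (rv F₀ b) = 0 := by
    rw [hudef, frm_add_right, frm_smul_right, hc] at hwu
    rw [hu'def, frm_sub_right, frm_smul_right, hc] at hwu'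
    constructor
    · exact (mul_eq_zero.mp (show (2 : F) * frm σ F₀ J w (rv F₀ a) = 0 by
        linear_combination hwu + hwu')).resolve_left C.two
    · exact (mul_eq_zero.mp (show (2 * c) * frm σ F₀ J w (rv F₀ b) = 0 by
        linear_combination hwu' - hwu)).resolve_left (mul_ne_zero C.two hc0)
  set α := frm σ F₀ J w (rv F₀ a') with hα
  set β := frm σ F₀ J w (rv F₀ b') with hβ
  have hw : w = α • rv F₀ a + β • rv F₀ b := by
    refine sub_eq_zero.mp (C.eq_zero_four hindep ?_ ?_ ?_ ?_) <;>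
      simp [frm_sub_left, frm_add_left, frm_smul_left, C.frm_rv, hwa.1, hwa.2, ← hα, ← hβ,
        show g0 J a a = 0 from hqa, show g0 J b b = 0 from hqb, hG, hG', haa, hbb,
        C.g0_symm b a', ha'b, C.g0_symm a b', hb'a]
  set β' := (α - β / c) / 2 with hβ'
  set α' := (α + β / c) / 2 with hα'
  have hw' : w = α' • u + β' • u' := by
    rw [hw, hudef, hu'def, hα', hβ']
    have := C.two
    match_scalars <;> field_simp <;> ring
  have hkey : (β' * (σ k * σ k - k * k)) • u' =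
      (ν + α' * (k * k) - α' * (σ k * k)) • u := by
    have e6 := hgw
    rw [hw', Matrix.mulVec_add, Matrix.mulVec_smul, Matrix.mulVec_smul, hgu, hgu'] at e6
    simp only [smul_add, smul_smul] at e6
    linear_combination (norm := module) e6
  have hlin : ∀ p q : F, p • u' = q • u → p = 0 := by
    intro p q e
    have h1 := congrArg (frm σ F₀ J · (rv F₀ a')) e
    have h3 := congrArg (frm σ F₀ J · (rv F₀ b')) e
    simp only [hudef, hu'def, frm_smul_left, frm_add_left, frm_sub_left, C.frm_rv, haa, hbb,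
      C.g0_symm b a', ha'b, C.g0_symm a b', hb'a, ZeroMemClass.coe_zero, OneMemClass.coe_one,
      mul_zero, mul_one, sub_zero, add_zero, zero_sub, zero_add] at h1 h3
    refine (mul_eq_zero.mp ?_).resolve_left (mul_ne_zero C.two hc0)
    linear_combination c * h1 - h3
  have hβ0 : β' = 0 := (mul_eq_zero.mp (hlin _ _ hkey)).resolve_right (sub_ne_zero.mpr hk2.symm)
  rw [hβ0, zero_smul, add_zero, hwdef, ← hu, ← Matrix.mulVec_smul] at hw'
  have hD' : rv F₀ D₁ - c • rv F₀ D₂ = α' • rv F₀ x :=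
    Matrix.mulVec_injective_of_isUnit h.isUnit hw'
  have hDx : D = σ α' • rv F₀ x := by
    funext i
    have e := congrArg σ (congrFun hD' i)
    simp only [Pi.sub_apply, Pi.smul_apply, smul_eq_mul, rv, map_sub, map_mul, hc,
      C.fix _ (D₁ i).2, C.fix _ (D₂ i).2, C.fix _ (x i).2] at e
    simp only [hD, Pi.add_apply, Pi.smul_apply, smul_eq_mul, rv]
    linear_combination e
  have := congrArg ((h : Matrix ι ι F) *ᵥ ·) hDx
  simp only [hhD, Matrix.mulVec_smul, hu] at this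
  exact one_ne_zero (hlin 1 _ (by rw [one_smul]; exact this))

include C hN hLG hI hc hc0 hh hx hx0 hu in
/-- The perpendicular plane has no singular vector. -/
theorem perp_sing_false [Finite F] (h5 : 5 ≤ Nat.card F₀) (hd : disc J a b ≠ 0) {z : ι → F₀}
    (hz : z ∈ perp J ![a, b]) (hzq : q0 J z = 0) (hz0 : z ≠ 0) : False := by
  have hza : g0 J z a = 0 := C.mem_perp.mp hz 0
  have hzb : g0 J z b = 0 := C.mem_perp.mp hz 1
  obtain ⟨z', hz'q, hz's, hzz⟩ := C.exists_sing ![a, b] hzq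
    (fun i => by fin_cases i; exacts [hza, hzb]) (by
      intro hm
      rw [Matrix.range_cons, Matrix.range_cons, Matrix.range_empty, Set.union_empty,
        Set.singleton_union, Submodule.mem_span_pair] at hm
      obtain ⟨s, t, e⟩ := hm
      rw [← e, g0_add, g0_smul, g0_smul, C.g0_symm b a, show g0 J a a = q0 J a from rfl] at hza
      rw [← e, g0_add, g0_smul, g0_smul, show g0 J b b = q0 J b from rfl] at hzb
      have hs : s = 0 := (mul_eq_zero.mp (show s * disc J a b = 0 by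
        rw [disc]; linear_combination g0 J a b * hzb - q0 J b * hza)).resolve_right hd
      have ht : t = 0 := (mul_eq_zero.mp (show t * disc J a b = 0 by
        rw [disc]; linear_combination g0 J a b * hza - q0 J a * hzb)).resolve_right hd
      exact hz0 (by rw [← e, hs, ht, zero_smul, zero_smul, add_zero]))
  have hz'a : g0 J z' a = 0 := hz's 0
  have hz'b : g0 J z' b = 0 := hz's 1
  have hd' : disc J z z' ≠ 0 := by rw [disc, hzz, hzq, zero_mul, mul_one, sub_zero]; exact one_ne_zero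
  have hind := indep_planes C hd hd' ((C.g0_symm _ _).trans hza) ((C.g0_symm _ _).trans hz'a)
    ((C.g0_symm _ _).trans hzb) ((C.g0_symm _ _).trans hz'b)
  set u := rv F₀ a + c • rv F₀ b with hudef
  have huu : frm σ F₀ J u u = 0 := by rw [← hu, (mem_spIso.mp (hLG hh)).1, iso_rv C hx]
  have huz : frm σ F₀ J u (rv F₀ z) = 0 := by
    simp [hudef, frm_add_left, frm_smul_left, C.frm_rv, C.g0_symm a z, hza, C.g0_symm b z, hzb]
  have huz' : frm σ F₀ J u (rv F₀ z') = 0 := by
    simp [hudef, frm_add_left, frm_smul_left, C.frm_rv, C.g0_symm a z', hz'a, C.g0_symm b z', hz'b]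
  have hub : frm σ F₀ J u (rv F₀ b) ≠ 0 := by
    intro e
    rw [hudef, frm_add_left, frm_smul_left, C.frm_rv, C.frm_rv] at e
    obtain ⟨e1, e2⟩ := scalar_zero C hc hc0 e
    exact hd (by rw [disc, e1, show q0 J b = 0 from e2]; ring)
  obtain ⟨d, hd0, hα⟩ : ∃ d, g0 J d x = 0 ∧
      frm σ F₀ J ((h : Matrix ι ι F) *ᵥ rv F₀ d) (rv F₀ z') ≠ 0 := by
    by_contra hne
    push Not at hne
    obtain ⟨μ, hμ⟩ := eq_smul_of_perp C hx0 (v := ((h⁻¹ : GL ι F) : Matrix ι ι F) *ᵥ rv F₀ z')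
      fun d hd => by
        rw [← (mem_spIso.mp (hLG hh)).1, Matrix.mulVec_mulVec (rv F₀ z'), ← Units.val_mul,
          mul_inv_cancel, Units.val_one, Matrix.one_mulVec]
        exact hne d hd
    have e := congrArg (fun v => frm σ F₀ J (rv F₀ z) ((h : Matrix ι ι F) *ᵥ v)) hμ
    simp only [Matrix.mulVec_mulVec (rv F₀ z'), ← Units.val_mul, mul_inv_cancel, Units.val_one,
      Matrix.one_mulVec, Matrix.mulVec_smul, hu, frm_smul_right, C.frm_rv, hzz,
      C.frm_perp huz, mul_zero, OneMemClass.coe_one] at e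
    exact one_ne_zero e
  set v := (h : Matrix ι ι F) *ᵥ rv F₀ d with hv
  have hvu : frm σ F₀ J v u = 0 := by rw [hv, ← hu, (mem_spIso.mp (hLG hh)).1, perp_rv C hd0]
  set α := frm σ F₀ J v (rv F₀ z') with hαdef
  set β := frm σ F₀ J v (rv F₀ z) with hβdef
  set ν := frm σ F₀ J v (rv F₀ b) / frm σ F₀ J u (rv F₀ b) with hνdef
  have hdec : v = α • rv F₀ z + β • rv F₀ z' + ν • u := by
    refine sub_eq_zero.mp (C.eq_zero_four hind ?_ ?_ ?_ ?_)
    · have e : ∀ p, frm σ F₀ J p u = 0 → frm σ F₀ J p (rv F₀ b) = 0 →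
          frm σ F₀ J p (rv F₀ a) = 0 := fun p h1 h2 => by
        rw [hudef, frm_add_right, frm_smul_right, h2, mul_zero, add_zero] at h1
        exact h1
      refine e _ ?_ ?_
      · simp [frm_sub_left, frm_add_left, frm_smul_left, hvu, huu, C.frm_perp huz,
          C.frm_perp huz']
      · simp [frm_sub_left, frm_add_left, frm_smul_left, C.frm_rv, hzb, hz'b, hνdef,
          div_mul_cancel₀ _ hub]
    · simp [frm_sub_left, frm_add_left, frm_smul_left, C.frm_rv, hzb, hz'b, hνdef,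
        div_mul_cancel₀ _ hub]
    · simp [frm_sub_left, frm_add_left, frm_smul_left, C.frm_rv, show g0 J z z = 0 from hzq,
        C.g0_symm z' z, hzz, huz, ← hβdef]
    · simp [frm_sub_left, frm_add_left, frm_smul_left, C.frm_rv, show g0 J z' z' = 0 from hz'q,
        hzz, huz', ← hαdef]
  obtain ⟨k, hk0, hk⟩ := exists_sq_ne_one h5
  obtain ⟨g, hg, hgz, hgz', hgx⟩ := exists_torus C hN hzq hz'q hzz hk0
  have hgu : (g : Matrix ι ι F) *ᵥ u = u := by
    rw [hudef, Matrix.mulVec_add, Matrix.mulVec_smul,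
      hgx a ((C.g0_symm _ _).trans hza) ((C.g0_symm _ _).trans hz'a),
      hgx b ((C.g0_symm _ _).trans hzb) ((C.g0_symm _ _).trans hz'b)]
  have h1 := InR.conj hLG hh (rat_gen C hN hx hd0)
  have h2 := InR.conj hLG hh (rat_gen C hN hx
    (show g0 J ((-k⁻¹) • d) x = 0 by rw [g0_smul, hd0, mul_zero]))
  rw [hu] at h1 h2
  rw [rv_smul, Matrix.mulVec_smul] at h2
  have h3 := InR.conj hLG hg h1
  rw [hgu] at h3
  have h4 := h3.mul C h2
  set κ : F := ((k : F) - ((k : F))⁻¹) * α with hκdef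
  obtain ⟨ν', hsum⟩ : ∃ ν' : F, (g : Matrix ι ι F) *ᵥ v + ((-k⁻¹ : F₀) : F) • v + ν' • u =
      κ • rv F₀ z := by
    refine ⟨-(ν - ν * ((k : F))⁻¹), ?_⟩
    rw [hdec, Matrix.mulVec_add, Matrix.mulVec_add, Matrix.mulVec_smul, Matrix.mulVec_smul,
      Matrix.mulVec_smul, hgu, hgz, hgz', rv_smul, rv_smul, hκdef]
    simp only [NegMemClass.coe_neg, show ((k⁻¹ : F₀) : F) = ((k : F))⁻¹ from rfl]
    module
  have h6 := h4.shift ν'
  rw [hsum] at h6
  have hκ : κ ≠ 0 := by
    refine mul_ne_zero (sub_ne_zero.mpr fun e => hk (Subtype.ext ?_)) hα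
    have hk' : (k : F) ≠ 0 := fun e => hk0 (Subtype.ext e)
    have : (k : F) * k = 1 := by nth_rw 1 [e]; exact inv_mul_cancel₀ hk'
    rw [SubmonoidClass.coe_pow, OneMemClass.coe_one, sq]
    exact this
  have h7 := InR.conj hLG hg h6
  rw [Matrix.mulVec_smul, hgz, hgu, rv_smul, smul_smul] at h7
  have h8 := h7.mul C (h6.inv' C)
  simp only [frm_smul_left, frm_smul_right, frm_neg_left, iso_rv C hzq, mul_zero, neg_zero,
    sub_zero, add_neg_cancel] at h8
  rw [← sub_eq_add_neg, ← sub_smul] at h8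
  have h9 := h8.flip C (iso_rv C hzq)
  refine hI ⟨z, _, _, hzq, hz0, h9, fun d' μ e => ?_⟩
  have hk1 : -σ (κ * (k : F) - κ) ≠ 0 := by
    rw [neg_ne_zero]
    intro e'
    have h10 : κ * ((k : F) - 1) = 0 := by
      have := congrArg σ e'
      rw [C.inv, map_zero] at this
      linear_combination this
    have hk1' : (k : F) = 1 := sub_eq_zero.mp ((mul_eq_zero.mp h10).resolve_left hκ)
    exact hk (Subtype.ext (by simp [hk1']))
  set l := -σ (κ * (k : F) - κ) with hldef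
  obtain ⟨s, t, hst⟩ := scalar_split C hc hc0 l⁻¹
  obtain ⟨m₁, m₂, hm⟩ := scalar_split C hc hc0 (l⁻¹ * μ)
  have he : rv F₀ a + c • rv F₀ b =
      rv F₀ (s • d' + m₁ • z) + c • rv F₀ (t • d' + m₂ • z) := by
    have := congrArg (l⁻¹ • ·) e
    simp only [smul_smul, smul_add, inv_mul_cancel₀ hk1, one_smul] at this
    rw [← hudef, this, hm, hst, rv_add, rv_add, rv_smul, rv_smul, rv_smul, rv_smul]
    module
  obtain ⟨ea, eb⟩ := split_inj C hc hc0 he
  refine hd ?_
  have e1 := congrArg (g0 J · z') ea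
  have e2 := congrArg (g0 J · z') eb
  simp only [g0_add, g0_smul, C.g0_symm a z', hz'a, C.g0_symm b z', hz'b, hzz, mul_one] at e1 e2
  have ea' : a = s • (d' - g0 J d' z' • z) := by
    rw [ea, eq_neg_of_add_eq_zero_right e1.symm]; module
  have eb' : b = t • (d' - g0 J d' z' • z) := by
    rw [eb, eq_neg_of_add_eq_zero_right e2.symm]; module
  rw [ea', eb', disc, q0_smul, q0_smul, g0_smul, g0_smul_right,
    show g0 J (d' - g0 J d' z' • z) (d' - g0 J d' z' • z) = q0 J (d' - g0 J d' z' • z) from rfl]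
  ring

end Cfsg.Lib.Linear.SUFour.Orth
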