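import Cfsg.Agent.Lib.Linear.SubfieldHermStd
import Cfsg.Agent.Lib.Linear.SingularVectors

/-!
# The orthogonal type subfield groups of `SU_4(q)`: root elements

A Hermitian form on a space of dimension four with a symmetric rational part.
-/

set_option autoImplicit false

namespace Cfsg.Lib.Linear.SUFour.Orth

open scoped Matrix
open Cfsg.Lib.Linear Cfsg.Lib.Linear.Rat0 Cfsg.Lib.Linear.SubU Module

variable {ι : Type} [Fintype ι] [DecidableEq ι] {F : Type*} [Field F] {σ : F →+* F}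
  {F₀ : Subfield F} {J : Matrix ι ι F₀}

/-- The standing hypotheses: a Hermitian form whose rational part is symmetric. -/
structure Ctx (σ : F →+* F) (F₀ : Subfield F) (J : Matrix ι ι F₀) : Prop where
  inv : ∀ x, σ (σ x) = x
  ne : σ ≠ RingHom.id F
  fix : ∀ x ∈ F₀, σ x = x
  mem_of : ∀ x, σ x = x → x ∈ F₀
  det : J.det ≠ 0
  herm : ∀ u v, frm σ F₀ J v u = σ (frm σ F₀ J u v)
  two : (2 : F) ≠ 0
  card : Fintype.card ι = 4

theorem Ctx.frm_perp (C : Ctx σ F₀ J) {u v : ι → F} (h : frm σ F₀ J u v = 0) :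
    frm σ F₀ J v u = 0 := by rw [C.herm, h, map_zero]

/-- The symmetric form on rational vectors. -/
def g0 (J : Matrix ι ι F₀) (x y : ι → F₀) : F₀ := x ⬝ᵥ (J *ᵥ y)

theorem Ctx.cov_rv (C : Ctx σ F₀ J) (y : ι → F₀) : cov σ F₀ J (rv F₀ y) = rv F₀ (J *ᵥ y) := by
  rw [cov, show (fun i => σ (rv F₀ y i)) = rv F₀ y from funext fun i => C.fix _ (y i).2]
  funext i
  exact (RingHom.map_mulVec F₀.subtype J y i).symm

theorem Ctx.frm_rv (C : Ctx σ F₀ J) (x y : ι → F₀) :
    frm σ F₀ J (rv F₀ x) (rv F₀ y) = (g0 J x y : F) := by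
  rw [frm, C.cov_rv, rv_dot]; rfl

theorem Ctx.g0_symm (C : Ctx σ F₀ J) (x y : ι → F₀) : g0 J x y = g0 J y x :=
  Subtype.ext (by rw [← C.frm_rv, C.herm, C.frm_rv, C.fix _ (g0 J y x).2])

theorem g0_add (x y z : ι → F₀) : g0 J (x + y) z = g0 J x z + g0 J y z := add_dotProduct _ _ _
theorem g0_smul (c : F₀) (x z : ι → F₀) : g0 J (c • x) z = c * g0 J x z := smul_dotProduct _ _ _

theorem Ctx.exists_cov (C : Ctx σ F₀ J) (q : ι → F₀) : ∃ p : ι → F₀, J *ᵥ p = q :=
  ⟨J⁻¹ *ᵥ q, by rw [Matrix.mulVec_mulVec, Matrix.mul_nonsing_inv _ (isUnit_iff_ne_zero.mpr C.det),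
    Matrix.one_mulVec]⟩

theorem Ctx.two' (C : Ctx σ F₀ J) : (2 : F₀) ≠ 0 := fun h => C.two (by
  have h1 := congrArg F₀.subtype h
  rwa [map_ofNat, map_zero] at h1)

/-- The quadratic form on rational vectors. -/
def q0 (J : Matrix ι ι F₀) (x : ι → F₀) : F₀ := g0 J x x

/-- Its polar form. -/
def b0 (J : Matrix ι ι F₀) : LinearMap.BilinForm F₀ (ι → F₀) := Matrix.toBilin' ((2 : F₀) • J)

theorem b0_apply (x y : ι → F₀) : b0 J x y = 2 * g0 J x y := by
  rw [b0, Matrix.toBilin'_apply', Matrix.smul_mulVec, dotProduct_smul]; rfl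

theorem q0_smul (c : F₀) (x : ι → F₀) : q0 J (c • x) = c ^ 2 * q0 J x := by
  rw [q0, g0_smul, q0, g0, g0, Matrix.mulVec_smul, dotProduct_smul, smul_eq_mul]; ring

theorem Ctx.polar (C : Ctx σ F₀ J) (x y : ι → F₀) :
    QuadraticMap.polar (q0 J) x y = b0 J x y := by
  have h : g0 J y x = g0 J x y := C.g0_symm y x
  rw [b0_apply, QuadraticMap.polar, q0, q0, q0, g0_add]
  simp only [g0, Matrix.mulVec_add, dotProduct_add] at h ⊢
  linear_combination h

theorem Ctx.nondeg (C : Ctx σ F₀ J) (v : ι → F₀) (h : ∀ u, b0 J u v = 0) : v = 0 := by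
  refine Matrix.mulVec_injective_of_isUnit ((Matrix.isUnit_iff_isUnit_det J).mpr
    (isUnit_iff_ne_zero.mpr C.det)) (show J *ᵥ v = J *ᵥ 0 from ?_)
  rw [Matrix.mulVec_zero]
  funext i
  have h1 := h (Pi.single i 1)
  rw [b0_apply, mul_eq_zero, g0, single_dotProduct, one_mul] at h1
  exact h1.resolve_left C.two'

theorem Ctx.nondeg' (C : Ctx σ F₀ J) (v : ι → F₀) (h : ∀ u, b0 J v u = 0) : v = 0 :=
  C.nondeg v fun u => by rw [b0_apply, C.g0_symm, ← b0_apply]; exact h u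

/-- The rational vectors perpendicular to a family. -/
def perp {k : ℕ} (J : Matrix ι ι F₀) (s : Fin k → ι → F₀) : Submodule F₀ (ι → F₀) :=
  LinearMap.ker (LinearMap.pi fun i => b0 J (s i))

theorem Ctx.mem_perp (C : Ctx σ F₀ J) {k : ℕ} {s : Fin k → ι → F₀} {v : ι → F₀} :
    v ∈ perp J s ↔ ∀ i, g0 J v (s i) = 0 := by
  refine ⟨fun h i => ?_, fun h => LinearMap.mem_ker.mpr (funext fun i => ?_)⟩
  · have h1 : b0 J (s i) v = 0 := congrFun (LinearMap.mem_ker.mp h) i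
    rw [b0_apply, mul_eq_zero] at h1
    rw [C.g0_symm]
    exact h1.resolve_left C.two'
  · show b0 J (s i) v = 0
    rw [b0_apply, C.g0_symm, h i, mul_zero]

theorem Ctx.finrank_perp_ge (_ : Ctx σ F₀ J) {k : ℕ} (s : Fin k → ι → F₀) :
    Fintype.card ι ≤ finrank F₀ (perp J s) + k := by
  have h4 := LinearMap.finrank_range_add_finrank_ker (LinearMap.pi fun i => b0 J (s i))
  have h5 := Submodule.finrank_le (LinearMap.range (LinearMap.pi fun i => b0 J (s i)))
  rw [finrank_fintype_fun_eq_card] at h4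
  rw [finrank_fin_fun] at h5
  show _ ≤ finrank F₀ (LinearMap.ker (LinearMap.pi fun i => b0 J (s i))) + k
  omega

theorem Ctx.exists_dual (C : Ctx σ F₀ J) {k : ℕ} (s : Fin k → ι → F₀)
    {x : ι → F₀} (hx : x ∉ Submodule.span F₀ (Set.range s)) :
    ∃ v, (∀ i, g0 J v (s i) = 0) ∧ g0 J x v = 1 := by
  obtain ⟨φ, hφx, hφ⟩ := Submodule.exists_dual_map_eq_bot_of_notMem hx inferInstance
  obtain ⟨v, hv⟩ := C.exists_cov (fun i => (φ x)⁻¹ * φ (Pi.single i 1))
  have hvφ : ∀ w, g0 J w v = (φ x)⁻¹ * φ w := fun w => by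
    rw [g0, hv]
    conv_rhs => rw [pi_eq_sum_univ' w]
    simp [dotProduct, Finset.mul_sum, mul_left_comm]
  refine ⟨v, fun i => ?_, by rw [hvφ, inv_mul_cancel₀ hφx]⟩
  rw [C.g0_symm, hvφ]
  have : φ (s i) ∈ (Submodule.span F₀ (Set.range s)).map φ :=
    ⟨s i, Submodule.subset_span ⟨i, rfl⟩, rfl⟩
  rw [hφ, Submodule.mem_bot] at this
  rw [this, mul_zero]

theorem g0_add_right (x y z : ι → F₀) : g0 J x (y + z) = g0 J x y + g0 J x z := by
  rw [g0, Matrix.mulVec_add, dotProduct_add]; rfl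
theorem g0_smul_right (c : F₀) (x z : ι → F₀) : g0 J x (c • z) = c * g0 J x z := by
  rw [g0, Matrix.mulVec_smul, dotProduct_smul, smul_eq_mul]; rfl

/-- A singular vector perpendicular to a family, pairing to one with a singular vector `x`
perpendicular to it and outside its span. -/
theorem Ctx.exists_sing (C : Ctx σ F₀ J) {k : ℕ} (s : Fin k → ι → F₀) {x : ι → F₀}
    (hxq : q0 J x = 0) (hxs : ∀ i, g0 J x (s i) = 0) (hx : x ∉ Submodule.span F₀ (Set.range s)) :
    ∃ q, q0 J q = 0 ∧ (∀ i, g0 J q (s i) = 0) ∧ g0 J x q = 1 := by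
  obtain ⟨v, hv, hxv⟩ := C.exists_dual s hx
  refine ⟨v + (-(q0 J v / 2)) • x, ?_, fun i => ?_, ?_⟩
  · have := C.two'
    rw [q0, g0_add, g0_add_right, g0_add_right, g0_smul, g0_smul, g0_smul_right, g0_smul_right,
      C.g0_symm v x, hxv, show g0 J x x = 0 from hxq, q0]
    field_simp
    ring
  · rw [g0_add, g0_smul, hv, hxs, mul_zero, add_zero]
  · rw [g0_add_right, g0_smul_right, hxv, show g0 J x x = 0 from hxq, mul_zero, add_zero]

/-- Mutually perpendicular subspaces have small dimension. -/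
theorem Ctx.perp_bound (C : Ctx σ F₀ J) (U W : Submodule F₀ (ι → F₀))
    (h : ∀ u ∈ U, ∀ w ∈ W, g0 J u w = 0) : finrank F₀ U + finrank F₀ W ≤ Fintype.card ι := by
  let Φ : W →ₗ[F₀] Module.Dual F₀ (ι → F₀) := (b0 J).domRestrict W
  have hinj : Function.Injective Φ := by
    rw [injective_iff_map_eq_zero]
    intro w hw
    exact Subtype.ext (C.nondeg' _ fun u => LinearMap.congr_fun hw u)
  have hle : LinearMap.range Φ ≤ U.dualAnnihilator := by
    rintro _ ⟨w, rfl⟩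
    rw [Submodule.mem_dualAnnihilator]
    intro u hu
    show b0 J w u = 0
    rw [b0_apply, C.g0_symm, h u hu w w.2, mul_zero]
  have h1 := Submodule.finrank_mono hle
  rw [LinearMap.finrank_range_of_inj hinj] at h1
  have h2 := Subspace.finrank_add_finrank_dualAnnihilator_eq U
  rw [finrank_fintype_fun_eq_card] at h2
  omega

theorem Ctx.perp_of_singular (C : Ctx σ F₀ J) {U : Submodule F₀ (ι → F₀)}
    (h : ∀ u ∈ U, q0 J u = 0) : ∀ u ∈ U, ∀ w ∈ U, g0 J u w = 0 := fun u hu w hw => by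
  have e : QuadraticMap.polar (q0 J) u w = 0 := by
    simp [QuadraticMap.polar, h u hu, h w hw, h _ (U.add_mem hu hw)]
  rw [C.polar, b0_apply] at e
  exact (mul_eq_zero.mp e).resolve_left C.two'

/-- The nilpotent part of a root element. -/
def rootX (σ : F →+* F) (F₀ : Subfield F) (J : Matrix ι ι F₀) (p y : ι → F) (l : F) :
    Matrix ι ι F :=
  emat σ F₀ J p y - emat σ F₀ J y p + l • emat σ F₀ J y y

theorem rootX_mulVec (p y v : ι → F) (l : F) : (1 + rootX σ F₀ J p y l) *ᵥ v =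
    v + (frm σ F₀ J v y • p - frm σ F₀ J v p • y) + (l * frm σ F₀ J v y) • y := by
  rw [rootX, Matrix.add_mulVec, Matrix.one_mulVec, Matrix.add_mulVec, Matrix.sub_mulVec,
    Matrix.smul_mulVec, emat_mulVec, emat_mulVec, emat_mulVec, smul_smul, add_assoc]

/-- The root element lies in `L`. -/
def InR (σ : F →+* F) (F₀ : Subfield F) (J : Matrix ι ι F₀) (L : Subgroup (GL ι F))
    (p y : ι → F) (l : F) : Prop :=
  frm σ F₀ J p y = 0 ∧ frm σ F₀ J y y = 0 ∧ ∃ g ∈ L, (g : Matrix ι ι F) = 1 + rootX σ F₀ J p y l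

variable {L : Subgroup (GL ι F)}

theorem rootX_mul (C : Ctx σ F₀ J) {p p' y : ι → F} (hy : frm σ F₀ J y y = 0)
    (h : frm σ F₀ J p y = 0) (h' : frm σ F₀ J p' y = 0) (l l' : F) :
    (1 + rootX σ F₀ J p y l) * (1 + rootX σ F₀ J p' y l') =
      1 + rootX σ F₀ J (p + p') y (l + l' - frm σ F₀ J p' p) := by
  simp only [rootX, add_mul, mul_add, sub_mul, mul_sub, one_mul, mul_one, smul_mul_assoc,
    mul_smul_comm, emat_mul, h', C.frm_perp h, hy, zero_smul, smul_zero, add_zero, zero_add,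
    sub_zero, emat_add_left, emat_add_right, add_smul, sub_smul]
  abel

theorem InR.mul (C : Ctx σ F₀ J) {p p' y : ι → F} {l l' : F} (h : InR σ F₀ J L p y l)
    (h' : InR σ F₀ J L p' y l') :
    InR σ F₀ J L (p + p') y (l + l' - frm σ F₀ J p' p) := by
  obtain ⟨h, hy, g, hg, hge⟩ := h
  obtain ⟨h', -, g', hg', hge'⟩ := h'
  exact ⟨by rw [frm_add_left, h, h', add_zero], hy, g * g', L.mul_mem hg hg',
    by rw [Units.val_mul, hge, hge', rootX_mul C hy h h']⟩

theorem inR_zero {y : ι → F} (hy : frm σ F₀ J y y = 0) : InR σ F₀ J L 0 y 0 :=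
  ⟨frm_zero_left _, hy, 1, L.one_mem, by simp [rootX, emat_zero_left, emat_zero_right]⟩

theorem InR.inv' (C : Ctx σ F₀ J) {p y : ι → F} {l : F} (h : InR σ F₀ J L p y l) :
    InR σ F₀ J L (-p) y (-l - frm σ F₀ J p p) := by
  obtain ⟨h, hy, g, hg, hge⟩ := h
  refine ⟨by rw [frm_neg_left, h, neg_zero], hy, g⁻¹, L.inv_mem hg,
    Units.inv_eq_of_mul_eq_one_right ?_⟩
  rw [hge, rootX_mul C hy h (by rw [frm_neg_left, h, neg_zero]), add_neg_cancel, frm_neg_left,
    show l + (-l - frm σ F₀ J p p) - -frm σ F₀ J p p = 0 by ring]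
  simp [rootX, emat_zero_left, emat_zero_right]

theorem InR.conj (hLG : L ≤ spIso σ F₀ J) {g : GL ι F} (hg : g ∈ L) {p y : ι → F} {l : F}
    (h : InR σ F₀ J L p y l) :
    InR σ F₀ J L ((g : Matrix ι ι F) *ᵥ p) ((g : Matrix ι ι F) *ᵥ y) l := by
  obtain ⟨h, hy, x, hx, hxe⟩ := h
  have hf := (mem_spIso.mp (hLG hg)).1
  refine ⟨by rw [hf, h], by rw [hf, hy], g * x * g⁻¹, L.mul_mem (L.mul_mem hg hx) (L.inv_mem hg), ?_⟩
  rw [Units.val_mul, Units.val_mul, hxe, rootX, rootX, emat, emat, emat, emat, emat, emat]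
  simp only [cov_conj (hLG hg), mul_add, mul_sub, add_mul, sub_mul, mul_one, mul_smul_comm,
    smul_mul_assoc, Matrix.mul_vecMulVec, Matrix.vecMulVec_mul]
  rw [← Units.val_mul, mul_inv_cancel, Units.val_one]

theorem InR.conj' (hLG : L ≤ spIso σ F₀ J) {p y u v : ι → F} {l m : F}
    (hg : InR σ F₀ J L p y l) (h : InR σ F₀ J L u v m) :
    InR σ F₀ J L (u + (frm σ F₀ J u y • p - frm σ F₀ J u p • y) + (l * frm σ F₀ J u y) • y)
      (v + (frm σ F₀ J v y • p - frm σ F₀ J v p • y) + (l * frm σ F₀ J v y) • y) m := by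
  obtain ⟨-, -, g, hg, hge⟩ := hg
  have := InR.conj hLG hg h
  rwa [hge, rootX_mulVec, rootX_mulVec] at this

theorem InR.flip (C : Ctx σ F₀ J) {x y : ι → F} {s : F} (hx : frm σ F₀ J x x = 0)
    (h : InR σ F₀ J L (s • x) y 0) : InR σ F₀ J L (-σ s • y) x 0 := by
  obtain ⟨h, -, g, hg, hge⟩ := h
  refine ⟨?_, hx, g, hg, ?_⟩
  · rw [frm_smul_left] at h
    rcases mul_eq_zero.mp h with e | e
    · rw [e, map_zero, neg_zero, zero_smul, frm_zero_left]
    · rw [frm_smul_left, C.frm_perp e, mul_zero]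
  · rw [hge, rootX, rootX]
    simp only [emat_smul_left, emat_smul_right, zero_smul, add_zero, C.inv, map_neg]
    module

theorem inR_scale (C : Ctx σ F₀ J) {y : ι → F} {δ c : F} (hδ : δ ≠ 0)
    (h : InR σ F₀ J L 0 y (c * (δ * σ δ))) : InR σ F₀ J L 0 (δ • y) c := by
  obtain ⟨-, hy, g, hg, hge⟩ := h
  refine ⟨frm_zero_left _, by rw [frm_smul_left, frm_smul_right, hy, mul_zero, mul_zero], g, hg, ?_⟩
  rw [hge, rootX, rootX]
  simp [emat_zero_left, emat_zero_right, emat_smul_left, emat_smul_right, smul_smul, mul_assoc,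
    mul_comm δ]

section Rational

variable (C : Ctx σ F₀ J) (hN : ratIso σ F₀ J ≤ L) (hLG : L ≤ spIso σ F₀ J)

include C in
theorem iso_rv {x : ι → F₀} (h : q0 J x = 0) : frm σ F₀ J (rv F₀ x) (rv F₀ x) = 0 := by
  rw [C.frm_rv, show g0 J x x = 0 from h]; rfl

include C in
theorem perp_rv {x y : ι → F₀} (h : g0 J x y = 0) : frm σ F₀ J (rv F₀ x) (rv F₀ y) = 0 := by
  rw [C.frm_rv, h]; rfl

include C hN in
/-- The rational root elements with rational centre. -/
theorem rat_gen {x y : ι → F₀} (hy : q0 J y = 0) (h : g0 J x y = 0) :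
    InR σ F₀ J L (rv F₀ x) (rv F₀ y) ((-(q0 J x / 2) : F₀) : F) := by
  set l : F := ((-(q0 J x / 2) : F₀) : F) with hl
  have hxy := perp_rv C h
  have hyx := C.frm_perp hxy
  have hyy := iso_rv C hy
  have hxx : frm σ F₀ J (rv F₀ x) (rv F₀ x) = (q0 J x : F) := C.frm_rv x x
  have hσl : σ l = l := C.fix _ (SetLike.coe_mem _)
  have hl2 : l + σ l = -(q0 J x : F) := by
    rw [hσl, hl]
    have := C.two
    have h2' : ((2 : F₀) : F) = 2 := map_ofNat F₀.subtype 2
    push_cast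
    rw [h2']
    field_simp
    ring
  let U : Matrix ι (Fin 2) F := Matrix.of fun i j => ![rv F₀ x i, rv F₀ y i] j
  let V : Matrix (Fin 2) ι F := Matrix.of ![cov σ F₀ J (rv F₀ y),
    -cov σ F₀ J (rv F₀ x) + l • cov σ F₀ J (rv F₀ y)]
  have e : 1 + rootX σ F₀ J (rv F₀ x) (rv F₀ y) l = 1 + U * V := by
    ext i j
    simp [rootX, emat, U, V, Matrix.vecMulVec_apply, Matrix.mul_apply, Fin.sum_univ_two]
    ring
  have hrow : ∀ v w : ι → F, ∑ i, cov σ F₀ J v i * w i = frm σ F₀ J w v := fun v w => by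
    rw [frm, dotProduct_comm]; rfl
  have e00 : (V * U) 0 0 = 0 := (hrow _ _).trans hxy
  have e01 : (V * U) 0 1 = 0 := (hrow _ _).trans hyy
  have e11 : (V * U) 1 1 = 0 := by
    simp [U, V, Matrix.mul_apply, add_mul, mul_assoc, Finset.sum_add_distrib, ← Finset.mul_sum, hrow,
      hyx, hyy]
  have hdet : (1 + rootX σ F₀ J (rv F₀ x) (rv F₀ y) l).det = 1 := by
    rw [e, Matrix.det_one_add_mul_comm, Matrix.det_fin_two]
    simp [e00, e01, e11]
  let g : GL ι F := Matrix.GeneralLinearGroup.mkOfDetNeZero _ (by rw [hdet]; exact one_ne_zero)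
  have hge : (g : Matrix ι ι F) = 1 + rootX σ F₀ J (rv F₀ x) (rv F₀ y) l := rfl
  refine ⟨hxy, hyy, g, hN (Subgroup.mem_inf.mpr
    ⟨(mem_subfieldSubgroup_one F₀ _).mpr ⟨1, one_ne_zero, fun i j => ?_⟩,
      mem_spIso.mpr ⟨fun u v => ?_, hdet⟩⟩), hge⟩
  · have hE : ∀ a b : ι → F₀, emat σ F₀ J (rv F₀ a) (rv F₀ b) i j ∈ F₀ := fun a b => by
      rw [emat, Matrix.vecMulVec_apply, C.cov_rv]
      exact F₀.mul_mem (a i).2 ((J *ᵥ b) j).2
    rw [one_mul, hge, rootX, Matrix.add_apply, Matrix.one_apply]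
    refine F₀.add_mem ?_ (F₀.add_mem (F₀.sub_mem (hE _ _) (hE _ _))
      (F₀.mul_mem (SetLike.coe_mem _) (hE _ _)))
    split_ifs
    · exact F₀.one_mem
    · exact F₀.zero_mem
  · rw [hge]
    simp only [rootX_mulVec, frm_add_left, frm_add_right, frm_sub_left, frm_sub_right, frm_smul_left,
      frm_smul_right, map_mul, hxy, hyx, hyy, hxx, C.herm v (rv F₀ x), C.herm v (rv F₀ y), C.inv]
    linear_combination (frm σ F₀ J u (rv F₀ y) * σ (frm σ F₀ J v (rv F₀ y))) * hl2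

include C in
theorem eq_zero_of_perp' {v : ι → F} (h : ∀ e : ι → F₀, frm σ F₀ J (rv F₀ e) v = 0) : v = 0 :=
  funext fun i => by
    obtain ⟨q, hq⟩ := C.exists_cov (Pi.single i 1)
    have := C.frm_perp (h q)
    rwa [frm, C.cov_rv, hq, rv_single, dotProduct_single, mul_one] at this


end Rational

end Cfsg.Lib.Linear.SUFour.Orth
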