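import Cfsg.Agent.Lib.Linear.SUFour.OrthImage

/-!
# The orthogonal type subfield groups of `SU_4(q)`: no elliptic plane

A rotation of the perpendicular plane fixes the image point, so it would induce an irreducible
isometry of a hyperbolic plane.
-/

set_option autoImplicit false

namespace Cfsg.Lib.Linear.SUFour.Orth

open scoped Matrix
open Cfsg.Lib.Linear Cfsg.Lib.Linear.Rat0 Cfsg.Lib.Linear.SubU Module

variable {ι : Type} [Fintype ι] [DecidableEq ι] {F : Type*} [Field F] {σ : F →+* F}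
  {F₀ : Subfield F} {J : Matrix ι ι F₀} {L : Subgroup (GL ι F)}
  (C : Ctx σ F₀ J) (hN : ratIso σ F₀ J ≤ L) (hLG : L ≤ spIso σ F₀ J) (hI : ¬Irr σ F₀ J L)
  {c : F} (hc : σ c = -c) (hc0 : c ≠ 0) {δ : F₀} (hδ : c * c = δ)
  {h : GL ι F} (hh : h ∈ L) {x : ι → F₀} (hx : q0 J x = 0) (hx0 : x ≠ 0) {a b : ι → F₀}
  (hu : (h : Matrix ι ι F) *ᵥ rv F₀ x = rv F₀ a + c • rv F₀ b)

include C hc hc0 hδ hLG hh hx hu in
/-- The image point is not perpendicular to the second vector of a non-degenerate plane. -/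
theorem frm_b_ne (hd : disc J a b ≠ 0) :
    frm σ F₀ J (rv F₀ a + c • rv F₀ b) (rv F₀ b) ≠ 0 := by
  have _ := qa_eq C hLG hc hδ hh hx hu
  intro e
  rw [frm_add_left, frm_smul_left, C.frm_rv, C.frm_rv] at e
  obtain ⟨e1, e2⟩ := scalar_zero C hc hc0 e
  exact hd (by rw [disc, e1, show q0 J b = 0 from e2]; ring)

include C hc hc0 hδ hLG hh hx hu in
/-- Coordinates perpendicular to the image point. -/
theorem dec_perp {e₁ e₂ : ι → F₀} (hd : disc J a b ≠ 0) (he : g0 J e₁ e₂ = 0) (h₁ : q0 J e₁ ≠ 0)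
    (h₂ : q0 J e₂ ≠ 0) (he₁ : e₁ ∈ perp J ![a, b]) (he₂ : e₂ ∈ perp J ![a, b]) {v : ι → F}
    (hv : frm σ F₀ J v (rv F₀ a + c • rv F₀ b) = 0) :
    v = (frm σ F₀ J v (rv F₀ e₁) / q0 J e₁) • rv F₀ e₁ +
      (frm σ F₀ J v (rv F₀ e₂) / q0 J e₂) • rv F₀ e₂ +
      (frm σ F₀ J v (rv F₀ b) / frm σ F₀ J (rv F₀ a + c • rv F₀ b) (rv F₀ b)) •
        (rv F₀ a + c • rv F₀ b) := by
  have hub := frm_b_ne C hLG hc hc0 hδ hh hx hu hd
  have p1 := C.mem_perp.mp he₁
  have p2 := C.mem_perp.mp he₂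
  have h1a : g0 J e₁ a = 0 := p1 0
  have h1b : g0 J e₁ b = 0 := p1 1
  have h2a : g0 J e₂ a = 0 := p2 0
  have h2b : g0 J e₂ b = 0 := p2 1
  have hd' : disc J e₁ e₂ ≠ 0 := by
    rw [disc, he, zero_mul, zero_sub]; exact neg_ne_zero.mpr (mul_ne_zero h₁ h₂)
  have hq1 : (q0 J e₁ : F) ≠ 0 := fun e => h₁ (Subtype.ext e)
  have hq2 : (q0 J e₂ : F) ≠ 0 := fun e => h₂ (Subtype.ext e)
  set u := rv F₀ a + c • rv F₀ b with hudef
  have huu : frm σ F₀ J u u = 0 := by rw [← hu, (mem_spIso.mp (hLG hh)).1, iso_rv C hx]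
  have hu1 : frm σ F₀ J u (rv F₀ e₁) = 0 := by
    simp [hudef, frm_add_left, frm_smul_left, C.frm_rv, C.g0_symm a e₁, h1a, C.g0_symm b e₁, h1b]
  have hu2 : frm σ F₀ J u (rv F₀ e₂) = 0 := by
    simp [hudef, frm_add_left, frm_smul_left, C.frm_rv, C.g0_symm a e₂, h2a, C.g0_symm b e₂, h2b]
  refine sub_eq_zero.mp (C.eq_zero_four
    (indep_planes C hd hd' ((C.g0_symm _ _).trans h1a) ((C.g0_symm _ _).trans h2a)
      ((C.g0_symm _ _).trans h1b) ((C.g0_symm _ _).trans h2b)) ?_ ?_ ?_ ?_)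
  · have e : ∀ p, frm σ F₀ J p u = 0 → frm σ F₀ J p (rv F₀ b) = 0 →
        frm σ F₀ J p (rv F₀ a) = 0 := fun p h1 h2 => by
      rw [hudef, frm_add_right, frm_smul_right, h2, mul_zero, add_zero] at h1
      exact h1
    refine e _ ?_ ?_
    · simp [frm_sub_left, frm_add_left, frm_smul_left, hv, huu, C.frm_perp hu1, C.frm_perp hu2]
    · simp [frm_sub_left, frm_add_left, frm_smul_left, C.frm_rv, h1b, h2b, div_mul_cancel₀ _ hub]
  · simp [frm_sub_left, frm_add_left, frm_smul_left, C.frm_rv, h1b, h2b, div_mul_cancel₀ _ hub]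
  · simp [frm_sub_left, frm_add_left, frm_smul_left, C.frm_rv, C.g0_symm e₂ e₁, he, hu1,
      show g0 J e₁ e₁ = q0 J e₁ from rfl, div_mul_cancel₀ _ hq1]
  · simp [frm_sub_left, frm_add_left, frm_smul_left, C.frm_rv, he, hu2,
      show g0 J e₂ e₂ = q0 J e₂ from rfl, div_mul_cancel₀ _ hq2]

include C hN hLG hI hc hc0 hδ hh hx hx0 hu in
/-- The plane is not elliptic. -/
theorem nonsq_false [Finite F] (h5 : 5 ≤ Nat.card F₀) (hd : ¬IsSquare (disc J a b)) : False := by
  have hd0 : disc J a b ≠ 0 := fun e => hd (e ▸ IsSquare.zero)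
  have hani : ∀ w ∈ perp J ![a, b], q0 J w = 0 → w = 0 := fun w hw hq => by
    by_contra hw0
    exact perp_sing_false C hN hLG hI hc hc0 hh hx hx0 hu h5 hd0 hw hq hw0
  obtain ⟨e₁, e₂, he₁, he₂, he, h₁, h₂, hane⟩ := C.exists_orth hani
  have p1 := C.mem_perp.mp he₁
  have p2 := C.mem_perp.mp he₂
  have h1a : g0 J e₁ a = 0 := p1 0
  have h1b : g0 J e₁ b = 0 := p1 1
  have h2a : g0 J e₂ a = 0 := p2 0
  have h2b : g0 J e₂ b = 0 := p2 1
  have hqb : q0 J b ≠ 0 := fun e => hd ⟨g0 J a b, by rw [disc, e, mul_zero, sub_zero]⟩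
  -- a totally singular plane
  set w₂ := q0 J b • a - g0 J a b • b with hw₂
  have hbw : g0 J b w₂ = 0 := by
    rw [hw₂, g0_sub_right, g0_smul_right, g0_smul_right, C.g0_symm b a,
      show g0 J b b = q0 J b from rfl]
    ring
  have hqw : q0 J w₂ = -(q0 J b * disc J a b) := by
    simp only [q0, disc, hw₂, g0_sub, g0_sub_right, g0_smul, g0_smul_right, C.g0_symm b a]
    ring
  have hqw0 : q0 J w₂ ≠ 0 := by rw [hqw]; exact neg_ne_zero.mpr (mul_ne_zero hqb hd0)
  obtain ⟨A, B, hAB⟩ := exists_binary C.two' hqb hqw0 (-q0 J e₁)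
  have hnsq : ¬IsSquare (-(q0 J e₁ * q0 J e₂)) := by
    rintro ⟨r, hr⟩
    have := hane r (q0 J e₁) (by linear_combination -(q0 J e₁) * hr)
    exact h₁ this.2
  obtain ⟨r, hr⟩ := isSquare_mul_of_not C.two' hd hnsq
  set S := r / (q0 J b * disc J a b * q0 J e₁) with hS
  set w := A • b + B • w₂ with hw
  set w' := S • ((-B * q0 J w₂) • b + (A * q0 J b) • w₂) with hw'
  have hwb : g0 J w₂ b = 0 := by rw [C.g0_symm, hbw]
  have hww : q0 J w = -q0 J e₁ := by
    rw [← hAB, hw]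
    simp only [q0, g0_add, g0_add_right, g0_smul, g0_smul_right, hbw, hwb]
    ring
  have hww' : g0 J w w' = 0 := by
    simp only [hw, hw', g0_add, g0_add_right, g0_smul, g0_smul_right, hbw, hwb,
      show g0 J b b = q0 J b from rfl, show g0 J w₂ w₂ = q0 J w₂ from rfl]
    ring
  have hw'q : q0 J w' = -q0 J e₂ := by
    have e : q0 J w' = S * S * (q0 J b * q0 J w₂ * (-q0 J e₁)) := by
      rw [← hAB]
      simp only [hw', q0, g0_add, g0_add_right, g0_smul, g0_smul_right, hbw, hwb]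
      ring
    rw [e, hqw, hS]
    have := mul_ne_zero (mul_ne_zero hqb hd0) h₁
    field_simp
    linear_combination -hr
  have hw2e : ∀ e', g0 J e' a = 0 → g0 J e' b = 0 → g0 J w e' = 0 ∧ g0 J w' e' = 0 := by
    intro e' ea eb
    simp [hw, hw', hw₂, g0_add, g0_smul, g0_sub, g0_neg, C.g0_symm b e', eb, C.g0_symm a e', ea]
  obtain ⟨hwe1, hw'e1⟩ := hw2e e₁ h1a h1b
  obtain ⟨hwe2, hw'e2⟩ := hw2e e₂ h2a h2b
  set s₁ := w + e₁ with hs₁
  set s₂ := w' + e₂ with hs₂
  have hs11 : q0 J s₁ = 0 := by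
    have : q0 J s₁ = q0 J w + q0 J e₁ := by
      simp only [hs₁, q0, g0_add, g0_add_right, hwe1, C.g0_symm e₁ w]; ring
    rw [this, hww, neg_add_cancel]
  have hs22 : q0 J s₂ = 0 := by
    have : q0 J s₂ = q0 J w' + q0 J e₂ := by
      simp only [hs₂, q0, g0_add, g0_add_right, hw'e2, C.g0_symm e₂ w']; ring
    rw [this, hw'q, neg_add_cancel]
  have hs12 : g0 J s₁ s₂ = 0 := by
    simp only [hs₁, hs₂, g0_add, g0_add_right, hww', hwe2, he, C.g0_symm e₁ w', hw'e1, add_zero]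
  have hs1e : g0 J s₁ e₂ = 0 := by rw [hs₁, g0_add, hwe2, he, add_zero]
  have hs2e : g0 J s₂ e₂ = q0 J e₂ := by rw [hs₂, g0_add, hw'e2, zero_add]; rfl
  -- a singular point perpendicular to `x`, off it
  obtain ⟨z, hzq, hzx, hzs⟩ : ∃ z, q0 J z = 0 ∧ g0 J z x = 0 ∧ z ∉ Submodule.span F₀ {x} := by
    by_cases hm : s₁ ∈ Submodule.span F₀ {x}
    · obtain ⟨t, ht⟩ := Submodule.mem_span_singleton.mp hm
      have ht0 : t ≠ 0 := fun e => by
        rw [e, zero_smul] at ht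
        have e2 := congrArg (g0 J · e₁) ht
        simp only [hs₁, g0_zero_left, g0_add, hwe1, zero_add] at e2
        exact h₁ e2.symm
      have hex : g0 J x e₂ = 0 := by
        have e2 := hs1e
        rw [← ht, g0_smul] at e2
        exact (mul_eq_zero.mp e2).resolve_left ht0
      refine ⟨s₂, hs22, ?_, fun hm2 => ?_⟩
      · have e2 := hs12
        rw [← ht, g0_smul, C.g0_symm] at e2
        exact (mul_eq_zero.mp e2).resolve_left ht0
      · obtain ⟨t', ht'⟩ := Submodule.mem_span_singleton.mp hm2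
        rw [← ht', g0_smul, hex, mul_zero] at hs2e
        exact h₂ hs2e.symm
    by_cases hs1x : g0 J s₁ x = 0
    · exact ⟨s₁, hs11, hs1x, hm⟩
    refine ⟨g0 J s₂ x • s₁ - g0 J s₁ x • s₂, ?_, ?_, fun hm2 => ?_⟩
    · simp only [q0, g0_sub, g0_sub_right, g0_smul, g0_smul_right, C.g0_symm s₂ s₁, hs12,
        show g0 J s₁ s₁ = 0 from hs11, show g0 J s₂ s₂ = 0 from hs22]
      ring
    · rw [g0_sub, g0_smul, g0_smul]; ring
    · obtain ⟨t, ht⟩ := Submodule.mem_span_singleton.mp hm2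
      have e2 := congrArg (g0 J · s₁) ht
      simp only [g0_smul, g0_sub, C.g0_symm x s₁, C.g0_symm s₂ s₁, hs12,
        show g0 J s₁ s₁ = 0 from hs11, mul_zero, sub_zero] at e2
      have e3 := congrArg (g0 J · e₂) ht
      rw [(mul_eq_zero.mp e2).resolve_right hs1x] at e3
      simp only [zero_smul, g0_zero_left, g0_smul, g0_sub, hs1e, hs2e, mul_zero, zero_sub] at e3
      exact mul_ne_zero hs1x h₂ (by linear_combination e3)
  obtain ⟨z', hz'q, hz's, hzz⟩ := C.exists_sing ![x] hzq (fun i => by fin_cases i; exact hzx)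
    (by rw [Matrix.range_cons, Matrix.range_empty, Set.union_empty]; exact hzs)
  have hz'x : g0 J z' x = 0 := hz's 0
  obtain ⟨y, hyq, hys, hxy⟩ := C.exists_sing ![z, z'] hx
    (fun i => by fin_cases i; exacts [(C.g0_symm _ _).trans hzx, (C.g0_symm _ _).trans hz'x]) (by
      intro hm
      rw [Matrix.range_cons, Matrix.range_cons, Matrix.range_empty, Set.union_empty,
        Set.singleton_union, Submodule.mem_span_pair] at hm
      obtain ⟨s, t, e⟩ := hm
      have e1 := congrArg (g0 J · z) e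
      have e2 := congrArg (g0 J · z') e
      simp only [g0_add, g0_smul, show g0 J z z = 0 from hzq, show g0 J z' z' = 0 from hz'q,
        C.g0_symm z' z, hzz, C.g0_symm x z, hzx, C.g0_symm x z', hz'x, mul_zero, mul_one, add_zero,
        zero_add] at e1 e2
      exact hx0 (by rw [← e, e1, e2, zero_smul, zero_smul, add_zero]))
  have hyz : g0 J y z = 0 := hys 0
  have hyz' : g0 J y z' = 0 := hys 1
  have hframe := C.span_four (C.indep_hyp hx hyq hxy hzq hz'q hzz ((C.g0_symm _ _).trans hzx)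
    ((C.g0_symm _ _).trans hz'x) hyz hyz')
  -- the rotation
  obtain ⟨g, hg, μ₁, μ₂, hμ, hμs, hμe, hg1, hg2, hgx⟩ := exists_rot_pair C hN h₁ he
    (fun e => one_ne_zero (hane 1 1 (by linear_combination e)).1)
  rw [rv_sub, rv_smul, rv_smul] at hg1
  rw [rv_add, rv_smul, rv_smul] at hg2
  set u := rv F₀ a + c • rv F₀ b with hudef
  have hgu : (g : Matrix ι ι F) *ᵥ u = u := by
    rw [hudef, Matrix.mulVec_add, Matrix.mulVec_smul,
      hgx a ((C.g0_symm _ _).trans h1a) ((C.g0_symm _ _).trans h2a),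
      hgx b ((C.g0_symm _ _).trans h1b) ((C.g0_symm _ _).trans h2b)]
  have hgu1 : (g : Matrix ι ι F) *ᵥ ((h : Matrix ι ι F) *ᵥ rv F₀ x) =
      (1 : F) • ((h : Matrix ι ι F) *ᵥ rv F₀ x) := by rw [one_smul, hu]; exact hgu
  have himg : ∀ d, g0 J d x = 0 → ∃ (α β : F₀) (γ : F),
      (g : Matrix ι ι F) *ᵥ ((h : Matrix ι ι F) *ᵥ rv F₀ d) =
        (α : F) • ((h : Matrix ι ι F) *ᵥ rv F₀ z) + (β : F) • ((h : Matrix ι ι F) *ᵥ rv F₀ z') +
          γ • u := by
    intro d hd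
    obtain ⟨r, ν, hr, e⟩ := image_rel C hN hLG hI hh hx hx0 hg one_ne_zero hgu1 hd
    obtain ⟨p, p', α, β, rfl⟩ := hframe r
    simp only [g0_add, g0_smul, show g0 J x x = 0 from hx, C.g0_symm y x, hxy, hzx, hz'x, mul_zero,
      mul_one, add_zero, zero_add] at hr
    refine ⟨α, β, p + ν, ?_⟩
    rw [map_one, one_smul] at e
    rw [e, hr, rv_add, rv_add, rv_add, rv_smul, rv_smul, rv_smul, rv_smul, Matrix.mulVec_add,
      Matrix.mulVec_add, Matrix.mulVec_add, Matrix.mulVec_smul, Matrix.mulVec_smul,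
      Matrix.mulVec_smul, Matrix.mulVec_smul, hu, ZeroMemClass.coe_zero, zero_smul]
    module
  obtain ⟨α, β, γ, hH⟩ := himg z hzx
  obtain ⟨α', β', γ', hH'⟩ := himg z' hz'x
  set H := (h : Matrix ι ι F) *ᵥ rv F₀ z with hHdef
  set H' := (h : Matrix ι ι F) *ᵥ rv F₀ z' with hH'def
  have hf := (mem_spIso.mp (hLG hh)).1
  have hfg := (mem_spIso.mp (hLG hg)).1
  have fHH : frm σ F₀ J H H = 0 := by rw [hHdef, hf, iso_rv C hzq]
  have fHH' : frm σ F₀ J H H' = 1 := by rw [hHdef, hH'def, hf, C.frm_rv, hzz]; rfl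
  have fH'H : frm σ F₀ J H' H = 1 := by rw [C.herm, fHH', map_one]
  have fH'H' : frm σ F₀ J H' H' = 0 := by rw [hH'def, hf, iso_rv C hz'q]
  have fHu : frm σ F₀ J H u = 0 := by rw [hHdef, ← hu, hf, perp_rv C hzx]
  have fH'u : frm σ F₀ J H' u = 0 := by rw [hH'def, ← hu, hf, perp_rv C hz'x]
  have fuu : frm σ F₀ J u u = 0 := by rw [← hu, hf, iso_rv C hx]
  have hc2 : ((2 : F₀) : F) = 2 := map_ofNat F₀.subtype 2
  -- isometry
  have i1 : α * β = 0 := by
    have e := hfg H H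
    rw [hH, fHH] at e
    simp only [frm_add_left, frm_add_right, frm_smul_left, frm_smul_right, fHH, fHH', fH'H, fH'H',
      fHu, fH'u, C.frm_perp fHu, C.frm_perp fH'u, fuu, C.fix _ (SetLike.coe_mem _)] at e
    refine (mul_eq_zero.mp ?_).resolve_left C.two'
    refine Subtype.ext ?_
    push_cast [hc2]
    linear_combination e
  have i2 : α' * β' = 0 := by
    have e := hfg H' H'
    rw [hH', fH'H'] at e
    simp only [frm_add_left, frm_add_right, frm_smul_left, frm_smul_right, fHH, fHH', fH'H, fH'H',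
      fHu, fH'u, C.frm_perp fHu, C.frm_perp fH'u, fuu, C.fix _ (SetLike.coe_mem _)] at e
    refine (mul_eq_zero.mp ?_).resolve_left C.two'
    refine Subtype.ext ?_
    push_cast [hc2]
    linear_combination e
  have i3 : α * β' + β * α' = 1 := by
    have e := hfg H H'
    rw [hH, hH', fHH'] at e
    simp only [frm_add_left, frm_add_right, frm_smul_left, frm_smul_right, fHH, fHH', fH'H, fH'H',
      fHu, fH'u, C.frm_perp fHu, C.frm_perp fH'u, fuu, C.fix _ (SetLike.coe_mem _)] at e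
    refine Subtype.ext ?_
    push_cast [hc2]
    linear_combination e
  -- the equation of the rotation
  obtain ⟨ν₀, hdec⟩ : ∃ ν₀ : F, H = (frm σ F₀ J H (rv F₀ e₁) / q0 J e₁) • rv F₀ e₁ +
      (frm σ F₀ J H (rv F₀ e₂) / q0 J e₂) • rv F₀ e₂ + ν₀ • u :=
    ⟨_, dec_perp C hLG hc hc0 hδ hh hx hu hd0 he h₁ h₂ he₁ he₂ fHu⟩
  set p := μ₁ - 1 with hp
  obtain ⟨ν, heq⟩ : ∃ ν : F, (g : Matrix ι ι F) *ᵥ ((g : Matrix ι ι F) *ᵥ H) =
      ((2 * p : F₀) : F) • ((g : Matrix ι ι F) *ᵥ H) - H + ν • u := by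
    refine ⟨2 * ν₀ * (1 - (p : F)), ?_⟩
    have hdet : (p : F) * p + (μ₁ : F) * μ₂ = 1 := by
      have e1 : p * p + μ₁ * μ₂ = 1 := by rw [hp]; linear_combination μ₁ * hμs
      exact congrArg Subtype.val e1
    rw [hdec]
    simp only [Matrix.mulVec_add, Matrix.mulVec_sub, Matrix.mulVec_smul, hg1, hg2, hgu]
    push_cast [hc2]
    match_scalars
    · linear_combination (-(frm σ F₀ J H (rv F₀ e₁) / (q0 J e₁ : F))) * hdet
    · linear_combination (-(frm σ F₀ J H (rv F₀ e₂) / (q0 J e₂ : F))) * hdet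
    all_goals ring
  rw [hH, Matrix.mulVec_add, Matrix.mulVec_add, Matrix.mulVec_smul, Matrix.mulVec_smul,
    Matrix.mulVec_smul, hH, hH', hgu] at heq
  have c1 : α * α + β * α' = 2 * p * α - 1 := by
    have e := congrArg (frm σ F₀ J · H') heq
    simp only [frm_add_left, frm_sub_left, frm_smul_left, fHH', fH'H', C.frm_perp fH'u] at e
    refine Subtype.ext ?_
    push_cast [hc2] at e ⊢
    linear_combination e
  have c2 : α * β + β * β' = 2 * p * β := by
    have e := congrArg (frm σ F₀ J · H) heq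
    simp only [frm_add_left, frm_sub_left, frm_smul_left, fHH, fH'H, C.frm_perp fHu] at e
    refine Subtype.ext ?_
    push_cast [hc2] at e ⊢
    linear_combination e
  rcases mul_eq_zero.mp i1 with hα | hβ
  · -- the points are interchanged
    have hβα : β * α' = 1 := by rw [hα] at i3; linear_combination i3
    have hβ' : β' = 0 := by
      refine (mul_eq_zero.mp i2).resolve_left fun e => ?_
      rw [e, mul_zero] at hβα
      exact zero_ne_one hβα
    have hp0 : p = 0 := by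
      rw [hα, hβ'] at c2
      refine (mul_eq_zero.mp (show p * ((2 : F₀) * β) = 0 by linear_combination -c2)).resolve_right
        (mul_ne_zero C.two' fun e => by rw [e, zero_mul] at hβα; exact zero_ne_one hβα)
    rw [hα, hp0] at c1
    exact C.two' (by linear_combination c1 - hβα)
  · -- an eigenvalue of the rotation
    rw [hβ] at c1
    refine hμ (hane (α - p) μ₁ ?_).2
    linear_combination q0 J e₁ * c1 + μ₁ * hμe + q0 J e₁ * (μ₁ * hμs) + 0 * hp

end Cfsg.Lib.Linear.SUFour.Orth
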