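import Cfsg.Agent.Lib.Linear.SUFour.OrthBasic

/-!
# The orthogonal type subfield groups of `SU_4(q)`: frames and rotations

Rational frames, the real and imaginary part of a vector, and products of two rational reflections.
-/

set_option autoImplicit false

namespace Cfsg.Lib.Linear.SUFour.Orth

open scoped Matrix
open Cfsg.Lib.Linear Cfsg.Lib.Linear.Rat0 Cfsg.Lib.Linear.SubU Module

variable {ι : Type} [Fintype ι] [DecidableEq ι] {F : Type*} [Field F] {σ : F →+* F}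
  {F₀ : Subfield F} {J : Matrix ι ι F₀}

theorem g0_zero_left (x : ι → F₀) : g0 J 0 x = 0 := zero_dotProduct _

theorem g0_zero_right (x : ι → F₀) : g0 J x 0 = 0 := by
  rw [g0, Matrix.mulVec_zero, dotProduct_zero]

theorem g0_sub (x y z : ι → F₀) : g0 J (x - y) z = g0 J x z - g0 J y z := sub_dotProduct _ _ _

theorem g0_sub_right (x y z : ι → F₀) : g0 J x (y - z) = g0 J x y - g0 J x z := by
  rw [g0, Matrix.mulVec_sub, dotProduct_sub]; rfl

theorem g0_neg (x z : ι → F₀) : g0 J (-x) z = -g0 J x z := neg_dotProduct _ _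

theorem g0_neg_right (x z : ι → F₀) : g0 J x (-z) = -g0 J x z := by
  rw [g0, Matrix.mulVec_neg, dotProduct_neg]; rfl

theorem notMem_of_pair {x y w : ι → F₀} (hxw : g0 J x w ≠ 0) (hyw : g0 J y w = 0) :
    x ∉ Submodule.span F₀ {y} := fun h => by
  obtain ⟨t, rfl⟩ := Submodule.mem_span_singleton.mp h
  exact hxw (by rw [g0_smul, hyw, mul_zero])

/-- Four rational vectors without a relation span everything. -/
theorem Ctx.span_four (C : Ctx σ F₀ J) {x y z w : ι → F₀}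
    (h : ∀ a b d e : F₀, a • x + b • y + d • z + e • w = 0 → a = 0 ∧ b = 0 ∧ d = 0 ∧ e = 0)
    (v : ι → F₀) : ∃ a b d e : F₀, v = a • x + b • y + d • z + e • w := by
  have hli : LinearIndependent F₀ ![x, y, z, w] := by
    rw [Fintype.linearIndependent_iff]
    intro t ht i
    simp only [Fin.sum_univ_four, Matrix.cons_val_zero, Matrix.cons_val_one, Matrix.cons_val] at ht
    obtain ⟨h0, h1, h2, h3⟩ := h _ _ _ _ ht
    fin_cases i
    exacts [h0, h1, h2, h3]
  have htop := hli.span_eq_top_of_card_eq_finrank'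
    (by rw [finrank_fintype_fun_eq_card, C.card, Fintype.card_fin])
  have hv : v ∈ Submodule.span F₀ (Set.range ![x, y, z, w]) := htop ▸ Submodule.mem_top
  obtain ⟨t, ht⟩ := (Submodule.mem_span_range_iff_exists_fun F₀).mp hv
  simp only [Fin.sum_univ_four, Matrix.cons_val_zero, Matrix.cons_val_one, Matrix.cons_val] at ht
  exact ⟨_, _, _, _, ht.symm⟩

/-- A vector perpendicular to four independent rational vectors vanishes. -/
theorem Ctx.eq_zero_four (C : Ctx σ F₀ J) {x y z w : ι → F₀}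
    (h : ∀ a b d e : F₀, a • x + b • y + d • z + e • w = 0 → a = 0 ∧ b = 0 ∧ d = 0 ∧ e = 0)
    {v : ι → F} (hx : frm σ F₀ J v (rv F₀ x) = 0) (hy : frm σ F₀ J v (rv F₀ y) = 0)
    (hz : frm σ F₀ J v (rv F₀ z) = 0) (hw : frm σ F₀ J v (rv F₀ w) = 0) : v = 0 := by
  refine eq_zero_of_perp' C fun u => C.frm_perp ?_
  obtain ⟨a, b, d, e, rfl⟩ := C.span_four h u
  simp [rv_add, rv_smul, frm_add_right, frm_smul_right, hx, hy, hz, hw]

/-- Two perpendicular hyperbolic pairs are independent. -/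
theorem Ctx.indep_hyp (C : Ctx σ F₀ J) {x y z w : ι → F₀} (hx : q0 J x = 0) (hy : q0 J y = 0)
    (hxy : g0 J x y = 1) (hz : q0 J z = 0) (hw : q0 J w = 0) (hzw : g0 J z w = 1)
    (hxz : g0 J x z = 0) (hxw : g0 J x w = 0) (hyz : g0 J y z = 0) (hyw : g0 J y w = 0) :
    ∀ a b d e : F₀, a • x + b • y + d • z + e • w = 0 → a = 0 ∧ b = 0 ∧ d = 0 ∧ e = 0 := by
  intro a b d e h
  have h1 := congrArg (g0 J · y) h
  have h2 := congrArg (g0 J · x) h
  have h3 := congrArg (g0 J · w) h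
  have h4 := congrArg (g0 J · z) h
  simp only [g0_add, g0_smul, g0_zero_left, C.g0_symm y x, C.g0_symm z y, C.g0_symm w y,
    C.g0_symm z x, C.g0_symm w x, C.g0_symm w z, show g0 J x x = 0 from hx,
    show g0 J y y = 0 from hy, show g0 J z z = 0 from hz, show g0 J w w = 0 from hw, hxy, hzw, hxz,
    hxw, hyz, hyw, mul_zero, mul_one, add_zero, zero_add] at h1 h2 h3 h4
  exact ⟨h1, h2, h3, h4⟩

/-- A hyperbolic pair and a perpendicular orthogonal pair are independent. -/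
theorem Ctx.indep_pair (C : Ctx σ F₀ J) {x y z w : ι → F₀} (hx : q0 J x = 0) (hy : q0 J y = 0)
    (hxy : g0 J x y = 1) (hz : q0 J z ≠ 0) (hw : q0 J w ≠ 0) (hzw : g0 J z w = 0)
    (hxz : g0 J x z = 0) (hxw : g0 J x w = 0) (hyz : g0 J y z = 0) (hyw : g0 J y w = 0) :
    ∀ a b d e : F₀, a • x + b • y + d • z + e • w = 0 → a = 0 ∧ b = 0 ∧ d = 0 ∧ e = 0 := by
  intro a b d e h
  have h1 := congrArg (g0 J · y) h
  have h2 := congrArg (g0 J · x) h
  have h3 := congrArg (g0 J · z) h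
  have h4 := congrArg (g0 J · w) h
  simp only [g0_add, g0_smul, g0_zero_left, C.g0_symm y x, C.g0_symm z y, C.g0_symm w y,
    C.g0_symm z x, C.g0_symm w x, C.g0_symm w z, show g0 J x x = 0 from hx,
    show g0 J y y = 0 from hy, hxy, hzw, hxz, hxw, hyz, hyw, mul_zero, mul_one, add_zero,
    zero_add] at h1 h2 h3 h4
  exact ⟨h1, h2, (mul_eq_zero.mp h3).resolve_right hz, (mul_eq_zero.mp h4).resolve_right hw⟩

/-- The orthogonal pair of a perpendicular plane without singular vectors. -/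
theorem Ctx.exists_orth (C : Ctx σ F₀ J) {a b : ι → F₀}
    (h : ∀ w ∈ perp J ![a, b], q0 J w = 0 → w = 0) :
    ∃ e₁ e₂ : ι → F₀, e₁ ∈ perp J ![a, b] ∧ e₂ ∈ perp J ![a, b] ∧ g0 J e₁ e₂ = 0 ∧
      q0 J e₁ ≠ 0 ∧ q0 J e₂ ≠ 0 ∧
      ∀ s t : F₀, s ^ 2 * q0 J e₁ + t ^ 2 * q0 J e₂ = 0 → s = 0 ∧ t = 0 := by
  have hp := C.finrank_perp_ge ![a, b]
  rw [C.card] at hp
  obtain ⟨e₁, he₁, h10⟩ := Submodule.exists_mem_ne_zero_of_ne_bot
    (fun e : perp J ![a, b] = ⊥ => by rw [e, finrank_bot] at hp; omega)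
  have hp' := C.finrank_perp_ge ![a, b, e₁]
  rw [C.card] at hp'
  obtain ⟨e₂, he₂, h20⟩ := Submodule.exists_mem_ne_zero_of_ne_bot
    (fun e : perp J ![a, b, e₁] = ⊥ => by rw [e, finrank_bot] at hp'; omega)
  have h2 : e₂ ∈ perp J ![a, b] := C.mem_perp.mpr fun i => by
    fin_cases i
    exacts [C.mem_perp.mp he₂ 0, C.mem_perp.mp he₂ 1]
  have h21 : g0 J e₁ e₂ = 0 := (C.g0_symm _ _).trans (C.mem_perp.mp he₂ 2)
  have hq1 : q0 J e₁ ≠ 0 := fun e => h10 (h _ he₁ e)
  have hq2 : q0 J e₂ ≠ 0 := fun e => h20 (h _ h2 e)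
  refine ⟨e₁, e₂, he₁, h2, h21, hq1, hq2, fun s t hst => ?_⟩
  have h0 : s • e₁ + t • e₂ = 0 := by
    refine h _ ((perp J ![a, b]).add_mem (Submodule.smul_mem _ s he₁) (Submodule.smul_mem _ t h2)) ?_
    simp only [q0, g0_add, g0_add_right, g0_smul, g0_smul_right, C.g0_symm e₂ e₁, h21] at hst ⊢
    linear_combination hst
  have h1 := congrArg (g0 J · e₁) h0
  have h3 := congrArg (g0 J · e₂) h0
  simp only [g0_add, g0_smul, g0_zero_left, C.g0_symm e₂ e₁, h21, mul_zero, add_zero,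
    zero_add] at h1 h3
  exact ⟨(mul_eq_zero.mp h1).resolve_right hq1, (mul_eq_zero.mp h3).resolve_right hq2⟩

/-- A binary diagonal form represents everything. -/
theorem exists_binary {K : Type*} [Field K] [Finite K] (h2 : (2 : K) ≠ 0) {n₁ n₂ : K} (h₁ : n₁ ≠ 0)
    (h₂ : n₂ ≠ 0) (d : K) : ∃ a b : K, n₁ * a ^ 2 + n₂ * b ^ 2 = d := by
  letI := Fintype.ofFinite K
  have hodd : Fintype.card K % 2 = 1 := FiniteField.odd_card_of_char_ne_two fun h => h2 (by
    haveI := ringChar.charP K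
    have := CharP.cast_eq_zero K (ringChar K)
    rw [h] at this
    exact_mod_cast this)
  obtain ⟨a, b, hab⟩ := FiniteField.exists_root_sum_quadratic
    (f := Polynomial.C n₁ * Polynomial.X ^ 2)
    (g := Polynomial.C n₂ * Polynomial.X ^ 2 + Polynomial.C (-d))
    (Polynomial.degree_C_mul_X_pow 2 h₁)
    (by
      rw [Polynomial.degree_add_eq_left_of_degree_lt] <;> rw [Polynomial.degree_C_mul_X_pow 2 h₂]
      · rfl
      · exact lt_of_le_of_lt Polynomial.degree_C_le (by norm_num))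
    hodd
  simp only [Polynomial.eval_mul, Polynomial.eval_C, Polynomial.eval_pow, Polynomial.eval_X,
    Polynomial.eval_add] at hab
  exact ⟨a, b, by linear_combination hab⟩

theorem exists_sq_ne_one {K : Type*} [Field K] [Finite K] (h5 : 5 ≤ Nat.card K) :
    ∃ k : K, k ≠ 0 ∧ k ^ 2 ≠ 1 := by
  classical
  letI := Fintype.ofFinite K
  by_contra h
  push Not at h
  have hsub : (Finset.univ : Finset K) ⊆ {0, 1, -1} := fun k _ => by
    by_cases hk : k = 0
    · simp [hk]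
    · rcases sq_eq_one_iff.mp (h k hk) with rfl | rfl <;> simp
  have h1 := Finset.card_le_card hsub
  have h2 : ({0, 1, -1} : Finset K).card ≤ 3 := Finset.card_le_three
  rw [Finset.card_univ, ← Nat.card_eq_fintype_card] at h1
  omega

section Anti

variable (C : Ctx σ F₀ J) {c : F} (hc : σ c = -c) (hc0 : c ≠ 0)

include C hc hc0 in
theorem anti_notMem : c ∉ F₀ := fun hm => by
  have h := C.fix c hm
  rw [hc] at h
  exact mul_ne_zero C.two hc0 (by linear_combination -h)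

include C hc hc0 in
theorem scalar_zero {s t : F₀} (h : (s : F) + c * t = 0) : s = 0 ∧ t = 0 := by
  have h' := congrArg σ h
  rw [map_add, map_mul, hc, C.fix _ s.2, C.fix _ t.2, map_zero] at h'
  have ht : (t : F) = 0 := by
    refine (mul_eq_zero.mp ?_).resolve_left (mul_ne_zero C.two hc0)
    linear_combination h - h'
  have hs : (s : F) = 0 := by rw [ht, mul_zero, add_zero] at h; exact h
  exact ⟨Subtype.ext hs, Subtype.ext ht⟩

include C hc hc0 in
theorem scalar_split (z : F) : ∃ s t : F₀, z = (s : F) + c * t := by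
  have := C.two
  refine ⟨⟨(z + σ z) / 2, C.mem_of _ ?_⟩, ⟨(z - σ z) / (2 * c), C.mem_of _ ?_⟩, ?_⟩
  · rw [map_div₀, map_add, map_ofNat, C.inv, add_comm]
  · rw [map_div₀, map_sub, map_mul, map_ofNat, C.inv, hc, mul_neg, div_neg, ← neg_div, neg_sub]
  · field_simp
    ring

include C hc hc0 in
theorem split (v : ι → F) : ∃ a b : ι → F₀, v = rv F₀ a + c • rv F₀ b := by
  choose a b h using fun i => scalar_split C hc hc0 (v i)
  exact ⟨a, b, funext fun i => by rw [h i]; simp [rv]⟩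

include C hc hc0 in
theorem split_zero {a b : ι → F₀} (h : rv F₀ a + c • rv F₀ b = 0) : a = 0 ∧ b = 0 := by
  have h1 : ∀ i, a i = 0 ∧ b i = 0 := fun i => scalar_zero C hc hc0 (by simpa [rv] using congrFun h i)
  exact ⟨funext fun i => (h1 i).1, funext fun i => (h1 i).2⟩

include C hc hc0 in
theorem split_inj {a b a' b' : ι → F₀} (h : rv F₀ a + c • rv F₀ b = rv F₀ a' + c • rv F₀ b') :
    a = a' ∧ b = b' := by
  obtain ⟨h1, h2⟩ := split_zero C hc hc0 (a := a - a') (b := b - b') (by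
    rw [rv_sub, rv_sub, smul_sub, sub_add_sub_comm, sub_eq_zero]; exact h)
  exact ⟨sub_eq_zero.mp h1, sub_eq_zero.mp h2⟩

include C hc in
theorem frm_split (a b a' b' : ι → F₀) :
    frm σ F₀ J (rv F₀ a + c • rv F₀ b) (rv F₀ a' + c • rv F₀ b') =
      (g0 J a a' : F) - c * c * g0 J b b' + c * ((g0 J b a' : F) - g0 J a b') := by
  simp only [frm_add_left, frm_add_right, frm_smul_left, frm_smul_right, C.frm_rv, hc]
  ring

end Anti

section Rot

/-- The reflection in a rational vector. -/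
def refl (J : Matrix ι ι F₀) (v x : ι → F₀) : ι → F₀ := x - (2 * g0 J x v / q0 J v) • v

theorem Ctx.g0_refl (C : Ctx σ F₀ J) {v : ι → F₀} (hv : q0 J v ≠ 0) (x y : ι → F₀) :
    g0 J (refl J v x) (refl J v y) = g0 J x y := by
  simp only [refl, g0_sub, g0_sub_right, g0_smul, g0_smul_right, C.g0_symm v y,
    show g0 J v v = q0 J v from rfl]
  field_simp
  ring

/-- The matrix of a reflection. -/
def reflMat (J : Matrix ι ι F₀) (v : ι → F₀) : Matrix ι ι F₀ :=
  1 - Matrix.vecMulVec ((2 / q0 J v) • v) (J *ᵥ v)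

theorem Ctx.reflMat_mulVec (_C : Ctx σ F₀ J) (v x : ι → F₀) :
    reflMat J v *ᵥ x = refl J v x := by
  rw [reflMat, Matrix.sub_mulVec, Matrix.one_mulVec, refl, Matrix.vecMulVec_mulVec,
    show (J *ᵥ v) ⬝ᵥ x = g0 J x v from dotProduct_comm _ _]
  funext i
  simp
  ring

theorem Ctx.det_reflMat (_C : Ctx σ F₀ J) {v : ι → F₀} (hv : q0 J v ≠ 0) :
    (reflMat J v).det = -1 := by
  rw [reflMat, sub_eq_add_neg, ← Matrix.neg_vecMulVec, Matrix.vecMulVec_eq Unit,
    Matrix.det_one_add_replicateCol_mul_replicateRow, dotProduct_neg, dotProduct_smul,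
    dotProduct_comm, ← show q0 J v = v ⬝ᵥ (J *ᵥ v) from rfl, smul_eq_mul, div_mul_cancel₀ _ hv]
  norm_num

variable {L : Subgroup (GL ι F)} (C : Ctx σ F₀ J) (hN : ratIso σ F₀ J ≤ L)

include C in
theorem map_rv (M : Matrix ι ι F₀) (x : ι → F₀) :
    M.map F₀.subtype *ᵥ rv F₀ x = rv F₀ (M *ᵥ x) := by
  have _ := C
  funext i
  exact (RingHom.map_mulVec F₀.subtype M x i).symm

include C hN in
/-- A rational isometry of determinant one lies in `L`. -/
theorem exists_of_mat [Finite F] (M : Matrix ι ι F₀) (hdet : M.det = 1)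
    (hM : ∀ x y, g0 J (M *ᵥ x) (M *ᵥ y) = g0 J x y) :
    ∃ g ∈ L, ∀ x, (g : Matrix ι ι F) *ᵥ rv F₀ x = rv F₀ (M *ᵥ x) := by
  have hd : (M.map F₀.subtype).det = 1 := by
    rw [← RingHom.mapMatrix_apply, ← RingHom.map_det, hdet, map_one]
  let g : GL ι F := Matrix.GeneralLinearGroup.mkOfDetNeZero _ (by rw [hd]; exact one_ne_zero)
  have hge : (g : Matrix ι ι F) = M.map F₀.subtype := rfl
  refine ⟨g, hN (Subgroup.mem_inf.mpr ⟨(mem_subfieldSubgroup_one F₀ _).mpr
    ⟨1, one_ne_zero, fun i j => by rw [one_mul, hge]; exact (M i j).2⟩,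
    mem_spIso.mpr ⟨fun u v => ?_, by rw [hge, hd]⟩⟩), fun x => by rw [hge, map_rv C]⟩
  obtain ⟨c, hc0, hc⟩ := Herm.exists_trace_zero C.ne C.inv
  have hσc : σ c = -c := eq_neg_of_add_eq_zero_right hc
  obtain ⟨a, b, rfl⟩ := split C hσc hc0 u
  obtain ⟨a', b', rfl⟩ := split C hσc hc0 v
  simp only [Matrix.mulVec_add, Matrix.mulVec_smul, hge, map_rv C, frm_split C hσc, hM]

include C hN in
/-- Products of two reflections lie in `L`. -/
theorem exists_rot [Finite F] {v w : ι → F₀} (hv : q0 J v ≠ 0) (hw : q0 J w ≠ 0) :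
    ∃ g ∈ L, ∀ x, (g : Matrix ι ι F) *ᵥ rv F₀ x = rv F₀ (refl J v (refl J w x)) := by
  obtain ⟨g, hg, hge⟩ := exists_of_mat C hN (reflMat J v * reflMat J w)
    (by rw [Matrix.det_mul, C.det_reflMat hv, C.det_reflMat hw]; norm_num)
    (fun x y => by
      simp only [← Matrix.mulVec_mulVec, C.reflMat_mulVec, C.g0_refl hv, C.g0_refl hw])
  exact ⟨g, hg, fun x => by rw [hge, ← Matrix.mulVec_mulVec, C.reflMat_mulVec, C.reflMat_mulVec]⟩

include C hN in
/-- The torus of a hyperbolic plane. -/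
theorem exists_torus [Finite F] {z w : ι → F₀} (hz : q0 J z = 0) (hw : q0 J w = 0)
    (hzw : g0 J z w = 1) {s : F₀} (hs : s ≠ 0) :
    ∃ g ∈ L, (g : Matrix ι ι F) *ᵥ rv F₀ z = rv F₀ (s • z) ∧
      (g : Matrix ι ι F) *ᵥ rv F₀ w = rv F₀ (s⁻¹ • w) ∧
      ∀ x, g0 J x z = 0 → g0 J x w = 0 → (g : Matrix ι ι F) *ᵥ rv F₀ x = rv F₀ x := by
  have h2 := C.two'
  have hwz : g0 J w z = 1 := by rw [C.g0_symm, hzw]
  have hv : q0 J (z + w) = 2 := by
    simp only [q0, g0_add, g0_add_right, show g0 J z z = 0 from hz, show g0 J w w = 0 from hw, hzw, hwz]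
    ring
  have hu : q0 J (z + s • w) = 2 * s := by
    simp only [q0, g0_add, g0_add_right, g0_smul, g0_smul_right, show g0 J z z = 0 from hz,
      show g0 J w w = 0 from hw, hzw, hwz]
    ring
  obtain ⟨g, hg, hge⟩ := exists_rot C hN (v := z + w) (w := z + s • w) (by rw [hv]; exact h2)
    (by rw [hu]; exact mul_ne_zero h2 hs)
  refine ⟨g, hg, ?_, ?_, fun x hxz hxw => ?_⟩
  · rw [hge]
    congr 1
    simp only [refl, hu, hv, g0_add_right, g0_smul_right, g0_sub, g0_add, g0_smul,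
      show g0 J z z = 0 from hz, show g0 J w w = 0 from hw, hzw, hwz]
    match_scalars <;> field_simp <;> ring
  · rw [hge]
    congr 1
    simp only [refl, hu, hv, g0_add_right, g0_smul_right, g0_sub, g0_add, g0_smul,
      show g0 J z z = 0 from hz, show g0 J w w = 0 from hw, hzw, hwz]
    match_scalars <;> field_simp <;> ring
  · rw [hge]
    congr 1
    simp only [refl, g0_add_right, g0_smul_right, g0_sub, g0_smul, hxz, hxw, mul_zero, add_zero,
      zero_div, zero_smul, sub_zero]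

include C hN in
/-- The rotation of an orthogonal pair. -/
theorem exists_rot_pair [Finite F] {e₁ e₂ : ι → F₀} (h₁ : q0 J e₁ ≠ 0) (he : g0 J e₁ e₂ = 0)
    (hn : q0 J e₁ + q0 J e₂ ≠ 0) :
    ∃ g ∈ L, ∃ μ₁ μ₂ : F₀, μ₁ ≠ 0 ∧ μ₁ + μ₂ = 2 ∧ μ₁ * q0 J e₂ = μ₂ * q0 J e₁ ∧
      (g : Matrix ι ι F) *ᵥ rv F₀ e₁ = rv F₀ ((μ₁ - 1) • e₁ - μ₁ • e₂) ∧
      (g : Matrix ι ι F) *ᵥ rv F₀ e₂ = rv F₀ (μ₂ • e₁ + (μ₁ - 1) • e₂) ∧
      ∀ x, g0 J x e₁ = 0 → g0 J x e₂ = 0 → (g : Matrix ι ι F) *ᵥ rv F₀ x = rv F₀ x := by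
  have he' : g0 J e₂ e₁ = 0 := by rw [C.g0_symm, he]
  have hu : q0 J (e₁ + e₂) = q0 J e₁ + q0 J e₂ := by
    simp only [q0, g0_add, g0_add_right, he, he']; ring
  obtain ⟨g, hg, hge⟩ := exists_rot C hN h₁ (w := e₁ + e₂) (by rw [hu]; exact hn)
  refine ⟨g, hg, 2 * q0 J e₁ / (q0 J e₁ + q0 J e₂), 2 * q0 J e₂ / (q0 J e₁ + q0 J e₂),
    div_ne_zero (mul_ne_zero C.two' h₁) hn, ?_, ?_, ?_, ?_, fun x hx₁ hx₂ => ?_⟩
  · field_simp
  · field_simp
  · rw [hge]
    congr 1
    simp only [refl, hu, g0_add_right, g0_sub, g0_add, g0_smul, he, he',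
      show g0 J e₁ e₁ = q0 J e₁ from rfl, show g0 J e₂ e₂ = q0 J e₂ from rfl]
    match_scalars <;> field_simp <;> ring
  · rw [hge]
    congr 1
    simp only [refl, hu, g0_add_right, g0_sub, g0_add, g0_smul, he, he',
      show g0 J e₁ e₁ = q0 J e₁ from rfl, show g0 J e₂ e₂ = q0 J e₂ from rfl]
    match_scalars <;> field_simp <;> ring
  · rw [hge]
    congr 1
    simp only [refl, g0_add_right, g0_sub, g0_smul, hx₁, hx₂, mul_zero, add_zero, zero_div,
      zero_smul, sub_zero]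

include C hN in
/-- The stabiliser moves a singular point to any other one. -/
theorem exists_move [Finite F] {y z : ι → F₀} (hy : q0 J y = 0) (hy0 : y ≠ 0) (hz : q0 J z = 0)
    (hz0 : z ≠ 0) :
    ∃ g ∈ L, ∃ M : Matrix ι ι F₀, (∀ x, (g : Matrix ι ι F) *ᵥ rv F₀ x = rv F₀ (M *ᵥ x)) ∧
      (∀ x x', g0 J (M *ᵥ x) (M *ᵥ x') = g0 J x x') ∧ ∃ s : F₀, s ≠ 0 ∧ M *ᵥ y = s • z := by
  have direct : ∀ y z : ι → F₀, q0 J y = 0 → q0 J z = 0 → g0 J y z ≠ 0 →
      ∃ g ∈ L, ∃ M : Matrix ι ι F₀, (∀ x, (g : Matrix ι ι F) *ᵥ rv F₀ x = rv F₀ (M *ᵥ x)) ∧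
      (∀ x x', g0 J (M *ᵥ x) (M *ᵥ x') = g0 J x x') ∧ ∃ s : F₀, s ≠ 0 ∧ M *ᵥ y = s • z := by
    intro y z hy hz hyz
    have hz0 : z ≠ 0 := fun e => hyz (by rw [e, g0_zero_right])
    have h2 := C.two'
    obtain ⟨v, hv, hqv⟩ : ∃ v ∈ perp J ![z], q0 J v ≠ 0 := by
      by_contra hne
      push Not at hne
      have h1 := C.perp_bound _ _ (C.perp_of_singular hne)
      have h3 := C.finrank_perp_ge ![z]
      have h4 := C.card
      omega
    have hd : q0 J (y - z) = -(2 * g0 J y z) := by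
      simp only [q0, g0_sub, g0_sub_right, C.g0_symm z y, show g0 J y y = 0 from hy,
        show g0 J z z = 0 from hz]
      ring
    have hd0 : q0 J (y - z) ≠ 0 := by
      rw [hd]; exact neg_ne_zero.mpr (mul_ne_zero h2 hyz)
    obtain ⟨g, hg, hge⟩ := exists_rot C hN hqv hd0
    refine ⟨g, hg, reflMat J v * reflMat J (y - z),
      fun x => by rw [hge, ← Matrix.mulVec_mulVec, C.reflMat_mulVec, C.reflMat_mulVec],
      fun x x' => by
        simp only [← Matrix.mulVec_mulVec, C.reflMat_mulVec, C.g0_refl hqv, C.g0_refl hd0],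
      1, one_ne_zero, ?_⟩
    rw [← Matrix.mulVec_mulVec, C.reflMat_mulVec, C.reflMat_mulVec]
    have e : refl J (y - z) y = z := by
      simp only [refl, hd, g0_sub_right, show g0 J y y = 0 from hy]
      match_scalars <;> field_simp <;> ring
    rw [e, refl, show g0 J z v = 0 from (C.g0_symm _ _).trans (C.mem_perp.mp hv 0), mul_zero,
      zero_div, zero_smul, sub_zero, one_smul]
  by_cases hyz : g0 J y z = 0
  swap
  · exact direct y z hy hz hyz
  obtain ⟨v, hyv, hzv⟩ : ∃ v, g0 J y v ≠ 0 ∧ g0 J z v ≠ 0 := by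
    obtain ⟨v₁, -, h1⟩ := C.exists_dual (k := 0) ![] (x := y) (by simpa using hy0)
    obtain ⟨v₂, -, h2⟩ := C.exists_dual (k := 0) ![] (x := z) (by simpa using hz0)
    by_cases h3 : g0 J z v₁ = 0
    · by_cases h4 : g0 J y v₂ = 0
      · exact ⟨v₁ + v₂, by rw [g0_add_right, h1, h4, add_zero]; exact one_ne_zero,
          by rw [g0_add_right, h3, h2, zero_add]; exact one_ne_zero⟩
      · exact ⟨v₂, h4, by rw [h2]; exact one_ne_zero⟩
    · exact ⟨v₁, by rw [h1]; exact one_ne_zero, h3⟩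
  set w := v + (-(q0 J v / (2 * g0 J y v))) • y with hwdef
  have hwq : q0 J w = 0 := by
    have := C.two'
    rw [hwdef, q0, g0_add, g0_add_right, g0_add_right, g0_smul, g0_smul, g0_smul_right, g0_smul_right,
      C.g0_symm v y, show g0 J y y = 0 from hy, q0]
    field_simp
    ring
  have hyw : g0 J y w ≠ 0 := by
    rw [hwdef, g0_add_right, g0_smul_right, show g0 J y y = 0 from hy, mul_zero, add_zero]; exact hyv
  have hwz : g0 J w z ≠ 0 := by
    rw [hwdef, g0_add, g0_smul, hyz, mul_zero, add_zero, C.g0_symm]; exact hzv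
  obtain ⟨g, hg, M, hge, hM, s, hs, hMy⟩ := direct y w hy hwq hyw
  obtain ⟨g', hg', M', hge', hM', s', hs', hMw⟩ := direct w z hwq hz hwz
  refine ⟨g' * g, L.mul_mem hg' hg, M' * M, fun x => ?_, fun x x' => ?_, s * s', mul_ne_zero hs hs', ?_⟩
  · rw [Units.val_mul, ← Matrix.mulVec_mulVec, hge, hge', Matrix.mulVec_mulVec]
  · rw [← Matrix.mulVec_mulVec, ← Matrix.mulVec_mulVec, hM', hM]
  · rw [← Matrix.mulVec_mulVec, hMy, Matrix.mulVec_smul, hMw, smul_smul]

end Rot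

end Cfsg.Lib.Linear.SUFour.Orth
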