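import Cfsg.Agent.Lib.Linear.SUFour.OrthFrames

/-!
# The orthogonal type subfield groups of `SU_4(q)`: irrational root elements give everything
-/

set_option autoImplicit false

namespace Cfsg.Lib.Linear.SUFour.Orth

open scoped Matrix
open Cfsg.Lib.Linear Cfsg.Lib.Linear.Rat0 Cfsg.Lib.Linear.SubU Module

variable {ι : Type} [Fintype ι] [DecidableEq ι] {F : Type*} [Field F] {σ : F →+* F}
  {F₀ : Subfield F} {J : Matrix ι ι F₀} {L : Subgroup (GL ι F)}

/-- An irrational root element with rational centre. -/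
def Irr (σ : F →+* F) (F₀ : Subfield F) (J : Matrix ι ι F₀) (L : Subgroup (GL ι F)) : Prop :=
  ∃ (y : ι → F₀) (p : ι → F) (l : F), q0 J y = 0 ∧ y ≠ 0 ∧ InR σ F₀ J L p (rv F₀ y) l ∧
    ∀ (d : ι → F₀) (μ : F), p ≠ rv F₀ d + μ • rv F₀ y

theorem InR.centre_smul (C : Ctx σ F₀ J) {p y : ι → F} {μ l : F} (hy : frm σ F₀ J y y = 0)
    (hμ : μ ≠ 0) (h : InR σ F₀ J L p (μ • y) l) :
    InR σ F₀ J L (σ μ • p) y (μ * σ μ * l) := by
  obtain ⟨h, -, g, hg, hge⟩ := h
  refine ⟨?_, hy, g, hg, ?_⟩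
  · rw [frm_smul_right] at h
    rw [frm_smul_left, (mul_eq_zero.mp h).resolve_left (fun e => hμ (by rw [← C.inv μ, e, map_zero])),
      mul_zero]
  · rw [hge, rootX, rootX]
    simp only [emat_smul_left, emat_smul_right, smul_smul, C.inv]
    congr 2
    rw [show l * (σ μ * μ) = μ * σ μ * l by ring]

/-- A multiple of the centre only changes the long part. -/
theorem InR.shift {p y : ι → F} {l : F} (μ : F) (h : InR σ F₀ J L p y l) :
    InR σ F₀ J L (p + μ • y) y (l - μ + σ μ) := by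
  obtain ⟨h, hy, g, hg, hge⟩ := h
  refine ⟨by rw [frm_add_left, frm_smul_left, h, hy, mul_zero, add_zero], hy, g, hg, ?_⟩
  rw [hge, rootX, rootX]
  simp only [emat_add_left, emat_add_right, emat_smul_left, emat_smul_right]
  module

/-- The long part of a root element with rational centre is determined up to an anti fixed one. -/
theorem InR.rel (C : Ctx σ F₀ J) (hLG : L ≤ spIso σ F₀ J) {p : ι → F} {y : ι → F₀} {l : F}
    (hy0 : y ≠ 0) (h : InR σ F₀ J L p (rv F₀ y) l) : l + σ l = -frm σ F₀ J p p := by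
  obtain ⟨hp, hyy, g, hg, hge⟩ := h
  obtain ⟨v, -, hv⟩ := C.exists_dual (k := 0) ![] (x := y) (by simpa using hy0)
  have hvy : frm σ F₀ J (rv F₀ v) (rv F₀ y) = 1 := by rw [C.frm_rv, C.g0_symm, hv]; rfl
  have hf := (mem_spIso.mp (hLG hg)).1 (rv F₀ v) (rv F₀ v)
  rw [hge, rootX_mulVec] at hf
  simp only [frm_add_left, frm_add_right, frm_sub_left, frm_sub_right, frm_smul_left, frm_smul_right,
    hvy, hp, C.frm_perp hp, hyy, C.herm (rv F₀ v) (rv F₀ y), C.herm (rv F₀ v) p, map_one,
    map_mul, map_zero, mul_one, one_mul, mul_zero, zero_mul, sub_zero, add_zero] at hf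
  linear_combination hf

variable (C : Ctx σ F₀ J) (hN : ratIso σ F₀ J ≤ L) (hLG : L ≤ spIso σ F₀ J)
  {c : F} (hc : σ c = -c) (hc0 : c ≠ 0)

include C hN hc hc0 in
/-- An irrational direction gives the long root elements. -/
theorem long_of_dir {z b : ι → F₀} (hz : q0 J z = 0) (hbz : g0 J b z = 0)
    (hb : b ∉ Submodule.span F₀ {z}) {m : F} (h3 : InR σ F₀ J L (c • rv F₀ b) (rv F₀ z) m)
    {e : F} (he : σ e = -e) : InR σ F₀ J L 0 (rv F₀ z) e := by
  obtain ⟨w, hwz, hbw⟩ := C.exists_dual ![z] (x := b) (by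
    rw [Matrix.range_cons, Matrix.range_empty, Set.union_empty]; exact hb)
  have h2c : (2 : F) * c ≠ 0 := mul_ne_zero C.two hc0
  have hem : e / (2 * c) ∈ F₀ := C.mem_of _ (by
    rw [map_div₀, map_mul, map_ofNat, he, hc, mul_neg, neg_div_neg_eq])
  have hB := rat_gen C hN hz (x := (⟨_, hem⟩ : F₀) • w)
    (by rw [g0_smul, show g0 J w z = 0 from hwz 0, mul_zero])
  have h := ((h3.mul C hB).mul C (h3.inv' C)).mul C (hB.inv' C)
  simp only [rv_smul, frm_add_right, frm_neg_left, frm_neg_right, frm_smul_left, frm_smul_right,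
    C.frm_rv, hbw, C.g0_symm w b, map_mul, hc, C.fix _ hem, OneMemClass.coe_one] at h
  rw [show c • rv F₀ b + (e / (2 * c)) • rv F₀ w + -(c • rv F₀ b) + -((e / (2 * c)) • rv F₀ w) = 0 by
    abel] at h
  convert h using 1
  have := C.two
  field_simp
  ring

include C hN hc hc0 hLG in
/-- An irrational root element gives long root elements everywhere and irrational directions. -/
theorem of_irr [Finite F] (hI : Irr σ F₀ J L) {z : ι → F₀} (hz : q0 J z = 0) (hz0 : z ≠ 0) :
    (∀ e : F, σ e = -e → InR σ F₀ J L 0 (rv F₀ z) e) ∧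
      ∃ (b : ι → F₀) (m : F), g0 J b z = 0 ∧ b ∉ Submodule.span F₀ {z} ∧
        InR σ F₀ J L (c • rv F₀ b) (rv F₀ z) m := by
  obtain ⟨y, p, l, hy, hy0, h, hp⟩ := hI
  obtain ⟨a, b, rfl⟩ := split C hc hc0 p
  have hperp := h.1
  rw [frm_add_left, frm_smul_left, C.frm_rv, C.frm_rv] at hperp
  obtain ⟨hay, hby⟩ := scalar_zero C hc hc0 hperp
  have hb : b ∉ Submodule.span F₀ {y} := fun hm => by
    obtain ⟨t, rfl⟩ := Submodule.mem_span_singleton.mp hm
    exact hp a (c * t) (by rw [rv_smul, smul_smul])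
  have h3 := ((rat_gen C hN hy hay).inv' C).mul C h
  rw [neg_add_cancel_left] at h3
  generalize (-(_ : F) - _) + _ - _ = m at h3
  obtain ⟨g, hg, M, hgM, hM, s, hs, hMy⟩ := exists_move C hN hy hy0 hz hz0
  have hs0 : (s : F) ≠ 0 := fun e => hs (Subtype.ext e)
  have h4 := InR.conj hLG hg h3
  rw [Matrix.mulVec_smul, hgM, hgM, hMy, rv_smul] at h4
  have h5 := h4.centre_smul C (iso_rv C hz) hs0
  rw [C.fix _ s.2, smul_comm, ← rv_smul] at h5
  have hMb : g0 J (M *ᵥ b) z = 0 := by
    have e := hM b y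
    rw [hMy, g0_smul_right, hby] at e
    exact (mul_eq_zero.mp e).resolve_left hs
  have hsb : s • (M *ᵥ b) ∉ Submodule.span F₀ {z} := by
    intro hm
    obtain ⟨t, ht⟩ := Submodule.mem_span_singleton.mp hm
    refine hb (Submodule.mem_span_singleton.mpr ⟨t / (s * s), ?_⟩)
    refine sub_eq_zero.mp (C.nondeg' _ fun w => ?_)
    rw [b0_apply, g0_sub, g0_smul, ← hM y w, ← hM b w, hMy, g0_smul]
    have e := congrArg (g0 J · (M *ᵥ w)) ht
    simp only [g0_smul] at e
    field_simp
    linear_combination 2 * e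
  exact ⟨fun e he => long_of_dir C hN hc hc0 hz (by rw [g0_smul, hMb, mul_zero]) hsb h5 he,
    _, _, by rw [g0_smul, hMb, mul_zero], hsb, h5⟩

include C hc in
/-- Two long root elements in a singular plane give a short one. -/
theorem short_of_longs {y w : ι → F₀} (hy : q0 J y = 0) (hw : q0 J w = 0) (hwy : g0 J w y = 0)
    (hlong : ∀ z : ι → F₀, q0 J z = 0 → ∀ e : F, σ e = -e → InR σ F₀ J L 0 (rv F₀ z) e) :
    InR σ F₀ J L (c • rv F₀ w) (rv F₀ y) 0 := by
  have hyw : g0 J y w = 0 := by rw [C.g0_symm, hwy]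
  have hs : q0 J (y + w) = 0 := by
    rw [q0, g0_add, g0_add_right, g0_add_right, show g0 J y y = 0 from hy,
      show g0 J w w = 0 from hw, hyw, hwy]
    ring
  have hnc : σ (-c) = - -c := by rw [map_neg, hc]
  obtain ⟨-, -, g₁, hg₁, e₁⟩ := hlong _ hs c hc
  obtain ⟨-, -, g₂, hg₂, e₂⟩ := hlong _ hy (-c) hnc
  obtain ⟨-, -, g₃, hg₃, e₃⟩ := hlong _ hw (-c) hnc
  refine ⟨by rw [frm_smul_left, perp_rv C hwy, mul_zero], iso_rv C hy, g₁ * g₂ * g₃,
    L.mul_mem (L.mul_mem hg₁ hg₂) hg₃, ?_⟩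
  rw [Units.val_mul, Units.val_mul, e₁, e₂, e₃]
  simp only [rootX, rv_add, emat_zero_left, emat_zero_right, emat_add_left, emat_add_right,
    emat_smul_left, emat_smul_right, sub_zero, zero_add, zero_smul, add_zero, mul_add, add_mul,
    one_mul, mul_one, smul_mul_assoc, mul_smul_comm, emat_mul, smul_add, iso_rv C hy, iso_rv C hw,
    perp_rv C hwy, perp_rv C hyw, smul_zero, hc]
  module

include C hN hLG in
/-- Every root element with rational centre. -/
theorem root_all [Finite F] (hI : Irr σ F₀ J L) {y : ι → F₀}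
    (hy : q0 J y = 0) (hy0 : y ≠ 0) {p : ι → F} (hp : frm σ F₀ J p (rv F₀ y) = 0) {l : F}
    (hl : l + σ l = -frm σ F₀ J p p) : InR σ F₀ J L p (rv F₀ y) l := by
  obtain ⟨c, hc0, hc'⟩ := Herm.exists_trace_zero C.ne C.inv
  have hc : σ c = -c := eq_neg_of_add_eq_zero_right hc'
  have hlong : ∀ z : ι → F₀, q0 J z = 0 → ∀ e : F, σ e = -e → InR σ F₀ J L 0 (rv F₀ z) e := by
    intro z hz e he
    rcases eq_or_ne z 0 with rfl | hz0
    · exact ⟨frm_zero_left _, iso_rv C hz, 1, L.one_mem,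
        by simp [rootX, rv_zero, emat_zero_left, emat_zero_right]⟩
    · exact (of_irr C hN hLG hc hc0 hI hz hz0).1 e he
  obtain ⟨b, m, hby, hb, hbR⟩ := (of_irr C hN hLG hc hc0 hI hy hy0).2
  let K : AddSubgroup (ι → F) :=
    { carrier := {v | ∃ l, InR σ F₀ J L v (rv F₀ y) l}
      add_mem' := fun {u v} ⟨a, ha⟩ ⟨b, hb⟩ => ⟨_, ha.mul C hb⟩
      zero_mem' := ⟨0, inR_zero (iso_rv C hy)⟩
      neg_mem' := fun {u} ⟨a, ha⟩ => ⟨_, ha.inv' C⟩ }
  have hline : ∀ μ : F, μ • rv F₀ y ∈ K := fun μ =>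
    ⟨_, by simpa using (inR_zero (L := L) (iso_rv C hy)).shift μ⟩
  obtain ⟨y', hy', -, hyy⟩ := C.exists_sing (k := 0) ![] hy (fun i => i.elim0) (by simpa using hy0)
  have hy'y : g0 J y' y = 1 := by rw [C.g0_symm, hyy]
  have hsmul : ∀ (s : F₀) (z : ι → F₀), g0 J z y = 0 → c • rv F₀ z ∈ K → c • rv F₀ (s • z) ∈ K := by
    intro s z hzy hz
    rcases eq_or_ne s 0 with rfl | hs
    · rw [zero_smul, rv_zero, smul_zero]; exact K.zero_mem
    set zP := z - g0 J z y' • y with hzP
    have h1 : c • rv F₀ zP ∈ K := by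
      rw [hzP, rv_sub, smul_sub, rv_smul, smul_smul]; exact K.sub_mem hz (hline _)
    obtain ⟨n, hn⟩ := h1
    obtain ⟨g, hg, hgy, -, hgx⟩ := exists_torus C hN hy hy' hyy hs
    have h2 := InR.conj hLG hg hn
    rw [Matrix.mulVec_smul, hgy, hgx zP
      (by rw [hzP, g0_sub, g0_smul, hzy, show g0 J y y = 0 from hy, mul_zero, sub_zero])
      (by rw [hzP, g0_sub, g0_smul, hyy, mul_one, sub_self]), rv_smul] at h2
    have h3 := h2.centre_smul C (iso_rv C hy) (fun e => hs (Subtype.ext e))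
    rw [C.fix _ s.2, smul_comm] at h3
    have e : c • rv F₀ (s • z) = c • ((s : F) • rv F₀ zP) + (c * (s * g0 J z y')) • rv F₀ y := by
      rw [hzP, rv_sub, rv_smul, rv_smul, smul_sub, smul_sub, smul_smul, smul_smul, smul_smul]
      rw [mul_assoc c]
      abel
    rw [e]
    exact K.add_mem ⟨_, h3⟩ (hline _)
  let D : Submodule F₀ (ι → F₀) :=
    { carrier := {z | g0 J z y = 0 ∧ c • rv F₀ z ∈ K}
      add_mem' := fun {a b} ⟨ha, ha'⟩ ⟨hb, hb'⟩ => ⟨by rw [g0_add, ha, hb, add_zero],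
        by rw [rv_add, smul_add]; exact K.add_mem ha' hb'⟩
      zero_mem' := ⟨g0_zero_left _, by rw [rv_zero, smul_zero]; exact K.zero_mem⟩
      smul_mem' := fun s z ⟨hz, hz'⟩ => ⟨by rw [g0_smul, hz, mul_zero], hsmul s z hz hz'⟩ }
  have hyD : y ∈ D := ⟨hy, hline c⟩
  have hbD : b ∈ D := ⟨hby, m, hbR⟩
  -- the whole perpendicular space
  have hD : ∀ z, g0 J z y = 0 → z ∈ D := by
    by_cases hP : ∃ w ∈ perp J ![y, y'], q0 J w = 0 ∧ w ≠ 0
    · obtain ⟨w, hw, hwq, hw0⟩ := hP
      have hwy : g0 J w y = 0 := C.mem_perp.mp hw 0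
      have hwy' : g0 J w y' = 0 := C.mem_perp.mp hw 1
      obtain ⟨w', hwq', hw's, hww⟩ := C.exists_sing ![y, y'] hwq
        (fun i => by fin_cases i; exacts [hwy, hwy']) (by
          intro hm
          rw [Matrix.range_cons, Matrix.range_cons, Matrix.range_empty, Set.union_empty,
            Set.singleton_union, Submodule.mem_span_pair] at hm
          obtain ⟨s, t, e⟩ := hm
          rw [← e] at hwy hwy'
          simp only [g0_add, g0_smul, show g0 J y y = 0 from hy, show g0 J y' y' = 0 from hy', hyy,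
            hy'y, mul_zero, mul_one, add_zero, zero_add] at hwy hwy'
          exact hw0 (by rw [← e, hwy, hwy', zero_smul, zero_smul, add_zero]))
      have hw'y : g0 J w' y = 0 := hw's 0
      have hw'y' : g0 J w' y' = 0 := hw's 1
      have hwD : ∀ v : ι → F₀, q0 J v = 0 → g0 J v y = 0 → v ∈ D := fun v hv hvy =>
        ⟨hvy, 0, short_of_longs C hc hy hv hvy hlong⟩
      intro z hzy
      obtain ⟨a, b, d, e, rfl⟩ := C.span_four (C.indep_hyp hy hy' hyy hwq hwq' hww
        ((C.g0_symm _ _).trans hwy) ((C.g0_symm _ _).trans hw'y) ((C.g0_symm _ _).trans hwy')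
        ((C.g0_symm _ _).trans hw'y')) z
      simp only [g0_add, g0_smul, show g0 J y y = 0 from hy, hy'y, hwy, hw'y, mul_zero, mul_one,
        add_zero, zero_add] at hzy
      rw [hzy, zero_smul, add_zero]
      exact D.add_mem (D.add_mem (D.smul_mem _ hyD) (D.smul_mem _ (hwD w hwq hwy)))
        (D.smul_mem _ (hwD w' hwq' hw'y))
    · push Not at hP
      obtain ⟨e₁, e₂, he₁, he₂, he, hq₁, hq₂, hani⟩ := C.exists_orth (a := y) (b := y') hP
      have p1 := C.mem_perp.mp he₁
      have p2 := C.mem_perp.mp he₂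
      have hy1 : g0 J y e₁ = 0 := (C.g0_symm _ _).trans (p1 0)
      have hy2 : g0 J y e₂ = 0 := (C.g0_symm _ _).trans (p2 0)
      have hdec := C.span_four (C.indep_pair hy hy' hyy hq₁ hq₂ he hy1 hy2
        ((C.g0_symm _ _).trans (p1 1)) ((C.g0_symm _ _).trans (p2 1)))
      have hzero : ∀ {a b d e : F₀}, g0 J (a • y + b • y' + d • e₁ + e • e₂) y = 0 → b = 0 := by
        intro a b d e h
        simpa [g0_add, g0_smul, show g0 J y y = 0 from hy, hy'y, show g0 J e₁ y = 0 from p1 0,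
          show g0 J e₂ y = 0 from p2 0] using h
      obtain ⟨a, b', d, e, rfl⟩ := hdec b
      obtain rfl := hzero hby
      rw [zero_smul, add_zero] at hb hbD
      set P := d • e₁ + e • e₂ with hPdef
      have hPD : P ∈ D := by
        have := D.sub_mem hbD (D.smul_mem a hyD)
        rwa [add_assoc, add_sub_cancel_left] at this
      have hde : d ≠ 0 ∨ e ≠ 0 := by
        by_contra hne
        push Not at hne
        refine hb (Submodule.mem_span_singleton.mpr ⟨a, ?_⟩)
        rw [hne.1, hne.2, zero_smul, zero_smul, add_zero, add_zero]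
      obtain ⟨g, hg, μ₁, μ₂, hμ, hμs, hμe, hg1, hg2, hgx⟩ := exists_rot_pair C hN hq₁ he
        (fun h => one_ne_zero (hani 1 1 (by linear_combination h)).1)
      have hgP : ((d * (μ₁ - 1) + e * μ₂) • e₁ + (-(d * μ₁) + e * (μ₁ - 1)) • e₂) ∈ D := by
        refine ⟨by simp [g0_add, g0_smul, show g0 J e₁ y = 0 from p1 0, show g0 J e₂ y = 0 from p2 0],
          ?_⟩
        obtain ⟨n, hn⟩ := hPD.2
        have h := InR.conj hLG hg hn
        rw [hgx y hy1 hy2, Matrix.mulVec_smul] at h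
        refine ⟨n, ?_⟩
        convert h using 2
        rw [hPdef]
        simp only [rv_add, rv_smul, Matrix.mulVec_add, Matrix.mulVec_smul, hg1, hg2, rv_sub,
          AddSubgroupClass.coe_sub, MulMemClass.coe_mul, NegMemClass.coe_neg, OneMemClass.coe_one,
          AddMemClass.coe_add]
        module
      set d' := d * (μ₁ - 1) + e * μ₂
      set e' := -(d * μ₁) + e * (μ₁ - 1)
      have hdet : d * e' - e * d' ≠ 0 := by
        intro h
        have h' : d ^ 2 * μ₁ + e ^ 2 * μ₂ = 0 := by linear_combination -h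
        have := hani d e ((mul_eq_zero.mp (show μ₁ * (d ^ 2 * q0 J e₁ + e ^ 2 * q0 J e₂) = 0 by
          linear_combination q0 J e₁ * h' + e ^ 2 * hμe)).resolve_left hμ)
        exact hde.elim (fun h => h this.1) (fun h => h this.2)
      intro z hzy
      obtain ⟨s, t, u, w, rfl⟩ := hdec z
      obtain rfl := hzero hzy
      rw [zero_smul, add_zero]
      have hkey : u • e₁ + w • e₂ = ((u * e' - w * d') / (d * e' - e * d')) • P +
          ((d * w - e * u) / (d * e' - e * d')) • (d' • e₁ + e' • e₂) := by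
        rw [hPdef]
        generalize hk : d * e' - e * d' = k at hdet ⊢
        match_scalars
        · field_simp
          linear_combination (-u) * hk
        · field_simp
          linear_combination (-w) * hk
      rw [add_assoc, hkey]
      exact D.add_mem (D.smul_mem _ hyD) (D.add_mem (D.smul_mem _ hPD) (D.smul_mem _ hgP))
  obtain ⟨a, b, rfl⟩ := split C hc hc0 p
  rw [frm_add_left, frm_smul_left, C.frm_rv, C.frm_rv] at hp
  obtain ⟨hay, hby'⟩ := scalar_zero C hc hc0 hp
  obtain ⟨l₀, h₀⟩ : rv F₀ a + c • rv F₀ b ∈ K := K.add_mem ⟨_, rat_gen C hN hy hay⟩ (hD _ hby').2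
  have h₀' := h₀.rel C hLG hy0
  have h := h₀.mul C (hlong y hy (l - l₀) (by rw [map_sub]; linear_combination hl - h₀'))
  rwa [add_zero, frm_zero_left, sub_zero, add_sub_cancel] at h

include C hN hLG in
/-- Long root elements with rational centre. -/
theorem long_all [Finite F] (hI : Irr σ F₀ J L) {y : ι → F₀} (hy : q0 J y = 0) {c : F}
    (hc : σ c = -c) : InR σ F₀ J L 0 (rv F₀ y) c := by
  rcases eq_or_ne y 0 with rfl | hy0
  · exact ⟨frm_zero_left _, iso_rv C hy, 1, L.one_mem,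
      by simp [rootX, rv_zero, emat_zero_left, emat_zero_right]⟩
  · exact root_all C hN hLG hI hy hy0 (frm_zero_left _) (by rw [hc, frm_zero_left]; ring)

include C hN hLG in
/-- Long root elements with any centre. -/
theorem long_any [Finite F] (hI : Irr σ F₀ J L) {u : ι → F}
    (hu : frm σ F₀ J u u = 0) {c : F} (hc : σ c = -c) : InR σ F₀ J L 0 u c := by
  rcases eq_or_ne u 0 with rfl | hu0
  · exact ⟨frm_zero_left _, hu, 1, L.one_mem, by simp [rootX, emat_zero_left]⟩
  obtain ⟨y, hy, hy0, hδ⟩ : ∃ y : ι → F₀, q0 J y = 0 ∧ y ≠ 0 ∧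
      frm σ F₀ J u (rv F₀ y) ≠ 0 := by
    by_contra hne
    push Not at hne
    let K' : Submodule F₀ (ι → F₀) :=
      { carrier := {z | frm σ F₀ J u (rv F₀ z) = 0}
        add_mem' := fun {a b} ha hb => by
          simp only [Set.mem_ofPred_eq] at ha hb ⊢
          rw [rv_add, frm_add_right, ha, hb, add_zero]
        zero_mem' := frm_zero_right _
        smul_mem' := fun c a ha => by
          simp only [Set.mem_ofPred_eq] at ha ⊢
          rw [rv_smul, frm_smul_right, ha, mul_zero] }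
    have hall0 : ∀ z : ι → F₀, z ∈ K' := fun z => by
      refine (Submodule.span_le (p := K')).mpr (fun w hw => ?_)
        (Sing.singular_span q0_smul C.polar C.nondeg (perp J (![] : Fin 0 → ι → F₀)) (by
          have h1 := C.finrank_perp_ge (![] : Fin 0 → ι → F₀)
          have := C.card
          rw [finrank_fintype_fun_eq_card]
          omega) (C.mem_perp.mpr fun i => i.elim0))
      by_cases hw0 : w = 0
      · rw [hw0]; exact K'.zero_mem
      · exact hne w hw.2 hw0
    refine hu0 (funext fun i => ?_)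
    obtain ⟨q, hq⟩ := C.exists_cov (Pi.single i 1)
    have : frm σ F₀ J u (rv F₀ q) = 0 := hall0 q
    rwa [frm, C.cov_rv, hq, rv_single, dotProduct_single, mul_one] at this
  obtain ⟨y', hy', -, hyy⟩ := C.exists_sing (k := 0) ![] hy (fun i => i.elim0) (by simpa using hy0)
  set δ := frm σ F₀ J u (rv F₀ y) with hδdef
  set η := frm σ F₀ J u (rv F₀ y') with hηdef
  set p : ι → F := rv F₀ y' - δ⁻¹ • u with hpdef
  have e1 : frm σ F₀ J (rv F₀ y') (rv F₀ y) = 1 := by rw [C.frm_rv, C.g0_symm, hyy]; rfl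
  have e3 : frm σ F₀ J (rv F₀ y') u = σ η := by rw [C.herm u]
  have hpy : frm σ F₀ J p (rv F₀ y) = 0 := by
    rw [frm_sub_left, e1, frm_smul_left, ← hδdef, inv_mul_cancel₀ hδ, sub_self]
  have hup : frm σ F₀ J u p = η := by
    rw [frm_sub_right, frm_smul_right, hu, mul_zero, sub_zero, ← hηdef]
  have hl : η / δ + σ (η / δ) = -frm σ F₀ J p p := by
    simp only [hpdef, frm_sub_left, frm_sub_right, frm_smul_left, frm_smul_right, hu,
      iso_rv C hy', e3, ← hηdef, map_inv₀, map_div₀]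
    ring
  obtain ⟨-, -, g, hg, hge⟩ := root_all C hN hLG hI hy hy0 hpy hl
  have himg : (g : Matrix ι ι F) *ᵥ u = δ • rv F₀ y' := by
    rw [hge, rootX_mulVec, hup, ← hδdef, hpdef, smul_sub, smul_smul, mul_inv_cancel₀ hδ, one_smul,
      div_mul_cancel₀ _ hδ]
    abel
  have h1 := inR_scale C hδ (long_all C hN hLG hI hy' (c := c * (δ * σ δ))
    (by rw [map_mul, map_mul, hc, C.inv]; ring))
  rw [← himg] at h1
  have h2 := InR.conj hLG (L.inv_mem hg) h1
  rwa [Matrix.mulVec_zero, Matrix.mulVec_mulVec, ← Units.val_mul, inv_mul_cancel, Units.val_one,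
    Matrix.one_mulVec] at h2

include C hN hLG in
theorem irr_full [Finite F] (hI : Irr σ F₀ J L) : spIso σ F₀ J ≤ L := by
  let B : (ι → F) →ₛₗ[σ] (ι → F) →ₗ[F] F :=
    LinearMap.mk₂'ₛₗ σ (RingHom.id F) (fun u v => frm σ F₀ J v u)
      (fun a b v => frm_add_right a b v)
      (fun c a v => frm_smul_right c a v)
      (fun a u v => frm_add_left u v a)
      (fun c a v => frm_smul_left c v a)
  have hB : ∀ u v, B u v = frm σ F₀ J v u := fun u v => rfl
  have hS : B.IsSymm := ⟨fun u v => (C.herm v u).symm⟩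
  have hB' : B.Nondegenerate := by
    have hright : ∀ v, (∀ u, B u v = 0) → v = 0 := fun v hv => funext fun i => by
      obtain ⟨q, hq⟩ := C.exists_cov (Pi.single i 1)
      have h := (hB (rv F₀ q) v).symm.trans (hv _)
      rwa [frm, C.cov_rv, hq, rv_single, dotProduct_single, mul_one] at h
    exact ⟨fun u hu => hright u fun w => hS.isRefl _ _ (hu w), hright⟩
  let φ : GL ι F →* ((ι → F) ≃ₗ[F] (ι → F)) :=
    { toFun := fun g => LinearEquiv.ofLinear (Matrix.toLin' (g : Matrix ι ι F))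
        (Matrix.toLin' ((g⁻¹ : GL ι F) : Matrix ι ι F))
        (by rw [← Matrix.toLin'_mul, ← Units.val_mul, mul_inv_cancel, Units.val_one,
          Matrix.toLin'_one])
        (by rw [← Matrix.toLin'_mul, ← Units.val_mul, inv_mul_cancel, Units.val_one,
          Matrix.toLin'_one])
      map_one' := LinearEquiv.ext fun x => by simp
      map_mul' := fun g g' => LinearEquiv.ext fun x => (Matrix.mulVec_mulVec x _ _).symm }
  have hle : Herm.tvGroup B ≤ L.map φ := by
    rw [Herm.tvGroup, Subgroup.closure_le]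
    rintro _ ⟨w, m, hm, hw, rfl⟩
    have hm' : m + σ m = 0 := by rwa [hw, mul_zero, add_zero] at hm
    obtain ⟨-, -, g, hg, hge⟩ := long_any C hN hLG hI (u := w) hw (c := m)
      (eq_neg_of_add_eq_zero_right hm')
    refine ⟨g, hg, LinearEquiv.ext fun x => ?_⟩
    show (g : Matrix ι ι F) *ᵥ x = _
    rw [hge, rootX_mulVec, Herm.qrefl_apply, hB]
    simp [frm_zero_right]
  intro g hg
  obtain ⟨hgf, hgd⟩ := mem_spIso.mp hg
  have hdim : 4 ≤ Module.finrank F (ι → F) := by
    rw [Module.finrank_fintype_fun_eq_card]; have := C.card; omega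
  have hmem : φ g ∈ Herm.tvGroup B := by
    refine (Herm.mem_tvGroup_iff C.ne C.inv hS hB' (Or.inl hdim) _).mpr ⟨fun u v => hgf v u, ?_⟩
    refine Units.ext ?_
    rw [LinearEquiv.coe_det]
    show LinearMap.det (Matrix.toLin' (g : Matrix ι ι F)) = 1
    rw [LinearMap.det_toLin', hgd]
  obtain ⟨g', hg', he⟩ := hle hmem
  rwa [show g = g' from Units.ext (Matrix.toLin'.injective (LinearMap.ext fun x =>
    (LinearEquiv.congr_fun he x).symm))]


end Cfsg.Lib.Linear.SUFour.Orth
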