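import Cfsg.Agent.Lib.Linear.SUFour.OrthElliptic

/-!
# The orthogonal type subfield groups of `SU_4(q)`: maximality

Without irrational root elements rational singular points go to rational points: in the remaining
case a root element at the image point sends a rational singular point to one spanning an elliptic
plane.
-/

set_option autoImplicit false

namespace Cfsg.Lib.Linear.SUFour.Orth

open scoped Matrix
open Cfsg.Lib.Linear Cfsg.Lib.Linear.Rat0 Cfsg.Lib.Linear.SubU Module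

variable {ι : Type} [Fintype ι] [DecidableEq ι] {F : Type*} [Field F] {σ : F →+* F}
  {F₀ : Subfield F} {J : Matrix ι ι F₀} {L : Subgroup (GL ι F)}

/-- Squares are not invariant under subtracting a fixed non-square. -/
theorem not_all_square {K : Type*} [Field K] [Finite K] (h2 : (2 : K) ≠ 0) {d B : K}
    (hd : ∀ r : K, r * r ≠ d) (hB : B ≠ 0)
    (h : ∀ X : K, X ≠ 0 → IsSquare (d * (d * (X * X) - B * B))) : False := by
  have hd0 : d ≠ 0 := fun e => hd 0 (by rw [e, mul_zero])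
  have step : ∀ s t : K, IsSquare s → s ≠ 0 →
      IsSquare (s - d * (t * t)) ∧ s - d * (t * t) ≠ 0 := by
    rintro s t ⟨w, rfl⟩ hs
    have hw : w ≠ 0 := fun e => hs (by rw [e, mul_zero])
    have hne : w * w - d * (t * t) ≠ 0 := by
      intro e
      by_cases ht : t = 0
      · rw [ht] at e; exact hs (by linear_combination e)
      · exact hd (w / t) (by field_simp; linear_combination e)
    refine ⟨?_, hne⟩
    by_cases ht : t = 0
    · rw [ht, mul_zero, mul_zero, sub_zero]; exact ⟨w, rfl⟩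
    obtain ⟨r, hr⟩ := h (w / t * B / d) (div_ne_zero (mul_ne_zero (div_ne_zero hw ht) hB) hd0)
    refine ⟨t * r / B, ?_⟩
    field_simp at hr ⊢
    linear_combination hr
  obtain ⟨a, b, hab⟩ := exists_binary h2 hd0 hd0 1
  obtain ⟨h1, h10⟩ := step 1 a ⟨1, (one_mul 1).symm⟩ one_ne_zero
  exact (step _ b h1 h10).2 (by linear_combination -hab)

variable (C : Ctx σ F₀ J) (hN : ratIso σ F₀ J ≤ L) (hLG : L ≤ spIso σ F₀ J) (hI : ¬Irr σ F₀ J L)
  {c : F} (hc : σ c = -c) (hc0 : c ≠ 0) {δ : F₀} (hδ : c * c = δ)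

include C hN hLG hI hc hc0 hδ in
/-- The planes of images of rational singular points are never elliptic. -/
theorem isSquare_disc [Finite F] (h5 : 5 ≤ Nat.card F₀) {h : GL ι F} (hh : h ∈ L) {x : ι → F₀}
    (hx : q0 J x = 0) (hx0 : x ≠ 0) {a b : ι → F₀}
    (hu : (h : Matrix ι ι F) *ᵥ rv F₀ x = rv F₀ a + c • rv F₀ b) : IsSquare (disc J a b) := by
  by_contra hd
  exact nonsq_false C hN hLG hI hc hc0 hδ hh hx hx0 hu h5 hd

include C hN hLG hI hc hc0 hδ in
/-- A root element at `z₁ + r c z₂` moves `z₁` to an elliptic image. -/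
theorem quad_false [Finite F] (h5 : 5 ≤ Nat.card F₀) {z₁ z₂ e₁ e₂ : ι → F₀} (hz₁ : q0 J z₁ = 0)
    (hz10 : z₁ ≠ 0) (hz₂ : q0 J z₂ = 0) (hz : g0 J z₁ z₂ = 1) (h11 : g0 J z₁ e₁ = 0)
    (h12 : g0 J z₁ e₂ = 0) (h21 : g0 J z₂ e₁ = 0) (h22 : g0 J z₂ e₂ = 0) (he : g0 J e₁ e₂ = 0)
    (h₁ : q0 J e₁ ≠ 0) (h₂ : q0 J e₂ ≠ 0) {r : F₀} (hr : r ≠ 0) {l₀ l₁ : F₀} (hl : l₀ ≠ 0)
    (hR : ∀ A B : F₀, InR σ F₀ J L (((l₀ : F) + c * l₁) • rv F₀ (A • e₁ + B • e₂))
      (rv F₀ z₁ + (c * r) • rv F₀ z₂)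
      (-(((l₀ * l₀ - δ * (l₁ * l₁)) * q0 J (A • e₁ + B • e₂) / 2 : F₀) : F))) : False := by
  have hns := not_square C hc hc0 hδ
  have h2 := C.two'
  set N := l₀ * l₀ - δ * (l₁ * l₁) with hNdef
  have hN0 : N ≠ 0 := by
    intro e
    rw [hNdef] at e
    by_cases h10 : l₁ = 0
    · rw [h10] at e; exact mul_ne_zero hl hl (by linear_combination e)
    · exact hns (l₀ / l₁) (by field_simp; linear_combination e)
  set X₀ := l₀ * l₁
  have key : ∀ X : F₀, X ≠ X₀ → IsSquare (δ * (δ * (X * X) - l₀ ^ 2 * l₀ ^ 2)) := by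
    intro X hX
    obtain ⟨A, B, hAB⟩ := exists_binary h2 h₁ h₂ (4 * (X - X₀) / (r * N * N))
    set e := A • e₁ + B • e₂ with hedef
    have hqe : q0 J e = 4 * (X - X₀) / (r * N * N) := by
      rw [← hAB]
      simp only [hedef, q0, g0_add, g0_add_right, g0_smul, g0_smul_right, he, C.g0_symm e₂ e₁]
      ring
    have hz1e : g0 J z₁ e = 0 := by
      simp [hedef, g0_add_right, g0_smul_right, h11, h12]
    have hz2e : g0 J z₂ e = 0 := by
      simp [hedef, g0_add_right, g0_smul_right, h21, h22]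
    obtain ⟨-, -, g, hg, hge⟩ := hR A B
    rw [← hedef] at hge
    set Q := N * q0 J e / 2 with hQ
    set a' := z₁ + (Q * r * r * δ) • z₂ - (r * δ * l₁) • e with ha'
    set b' := (Q * r) • z₁ - (r * l₀) • e with hb'
    have himg : (g : Matrix ι ι F) *ᵥ rv F₀ z₁ = rv F₀ a' + c • rv F₀ b' := by
      rw [hge, rootX_mulVec]
      have hσr : σ (c * r) = -(c * r) := by rw [map_mul, hc, C.fix _ r.2]; ring
      simp only [frm_add_right, frm_smul_right, hσr, C.frm_rv, show g0 J z₁ z₁ = 0 from hz₁, hz,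
        hz1e, ha', hb', rv_add, rv_sub, rv_smul, ZeroMemClass.coe_zero, OneMemClass.coe_one,
        zero_add, mul_one, mul_zero, zero_smul, sub_zero]
      push_cast
      match_scalars <;> first
        | ring1
        | linear_combination (-(r : F) * l₁) * hδ
        | linear_combination ((Q : F) * r * r) * hδ
    obtain ⟨w, hw⟩ := isSquare_disc C hN hLG hI hc hc0 hδ h5 hg hz₁ hz10 himg
    have hqe0 : q0 J e ≠ 0 := by
      rw [hqe]
      exact div_ne_zero (mul_ne_zero (by rw [show (4 : F₀) = 2 * 2 by norm_num]; exact mul_ne_zero h2 h2)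
        (sub_ne_zero.mpr hX)) (mul_ne_zero (mul_ne_zero hr hN0) hN0)
    have hG : g0 J a' b' = r * r * δ * q0 J e * X := by
      have hk : r * N * N * q0 J e = 4 * (X - X₀) := by
        rw [hqe]; exact mul_div_cancel₀ _ (mul_ne_zero (mul_ne_zero hr hN0) hN0)
      simp only [ha', hb', g0_add, g0_sub, g0_sub_right, g0_smul, g0_smul_right, C.g0_symm z₂ z₁,
        C.g0_symm e z₁, C.g0_symm e z₂, show g0 J z₁ z₁ = 0 from hz₁, hz, hz1e, hz2e,
        show g0 J e e = q0 J e from rfl, hQ]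
      field_simp
      linear_combination (r * δ * q0 J e) * hk
    have hb'q : q0 J b' = r * r * (l₀ * l₀) * q0 J e := by
      simp only [hb', q0, g0_sub, g0_sub_right, g0_smul, g0_smul_right,
        C.g0_symm e z₁, show g0 J z₁ z₁ = 0 from hz₁, hz1e]
      ring
    have ha'q : q0 J a' = δ * q0 J b' := qa_eq C hLG hc hδ hg hz₁ himg
    rw [disc, hG, ha'q, hb'q] at hw
    refine ⟨w / (r * r * q0 J e), ?_⟩
    field_simp
    linear_combination hw
  refine not_all_square h2 hns (mul_ne_zero hl hl) fun X hX => ?_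
  by_cases hX0 : X = X₀
  · have := key (-X) (fun e => hX ?_)
    · rw [neg_mul_neg, pow_two] at this
      exact this
    · exact (mul_eq_zero.mp (show (2 : F₀) * X = 0 by
        linear_combination hX0 - e)).resolve_left h2
  · have := key X hX0
    rw [pow_two] at this
    exact this

variable {h : GL ι F} (hh : h ∈ L) {x : ι → F₀} (hx : q0 J x = 0) (hx0 : x ≠ 0) {a b : ι → F₀}
  (hu : (h : Matrix ι ι F) *ᵥ rv F₀ x = rv F₀ a + c • rv F₀ b)

include C hN hLG hI hc hc0 hδ hh hx hx0 hu in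
/-- The plane is not hyperbolic. -/
theorem hyp_false [Finite F] (h5 : 5 ≤ Nat.card F₀) (hd : disc J a b ≠ 0)
    (hsq : IsSquare (disc J a b)) : False := by
  have hani : ∀ w ∈ perp J ![a, b], q0 J w = 0 → w = 0 := fun w hw hq => by
    by_contra hw0
    exact perp_sing_false C hN hLG hI hc hc0 hh hx hx0 hu h5 hd hw hq hw0
  obtain ⟨e₁, e₂, he₁, he₂, he, h₁, h₂, hane⟩ := C.exists_orth hani
  have p1 := C.mem_perp.mp he₁
  have p2 := C.mem_perp.mp he₂
  have h1a : g0 J e₁ a = 0 := p1 0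
  have h1b : g0 J e₁ b = 0 := p1 1
  have h2a : g0 J e₂ a = 0 := p2 0
  have h2b : g0 J e₂ b = 0 := p2 1
  obtain ⟨w₀, hw₀⟩ := hsq
  have hqa := qa_eq C hLG hc hδ hh hx hu
  -- a singular vector of the plane
  obtain ⟨z₁, s, t, hz₁e, hz₁, hz10⟩ : ∃ (z : ι → F₀) (s t : F₀),
      z = s • a + t • b ∧ q0 J z = 0 ∧ z ≠ 0 := by
    have hne : ∀ s t : F₀, s • a + t • b = 0 → s = 0 ∧ t = 0 := by
      intro s t e
      have e1 := congrArg (g0 J · a) e
      have e2 := congrArg (g0 J · b) e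
      simp only [g0_add, g0_smul, g0_zero_left, C.g0_symm b a] at e1 e2
      rw [show g0 J a a = q0 J a from rfl] at e1
      rw [show g0 J b b = q0 J b from rfl] at e2
      refine ⟨(mul_eq_zero.mp ?_).resolve_right hd, (mul_eq_zero.mp ?_).resolve_right hd⟩
      · rw [disc]; linear_combination g0 J a b * e2 - q0 J b * e1
      · rw [disc]; linear_combination g0 J a b * e1 - q0 J a * e2
    by_cases hqb : q0 J b = 0
    · exact ⟨b, 0, 1, by simp, hqb, fun e => one_ne_zero (hne 0 1 (by simp [e])).2⟩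
    refine ⟨_, q0 J b, -(g0 J a b - w₀), rfl, ?_, fun e => hqb (hne _ _ e).1⟩
    rw [disc] at hw₀
    simp only [q0, g0_add, g0_add_right, g0_smul, g0_smul_right, C.g0_symm b a] at hw₀ ⊢
    linear_combination (-(g0 J b b)) * hw₀
  have hz1e1 : g0 J z₁ e₁ = 0 := by
    simp [hz₁e, g0_add, g0_smul, C.g0_symm a e₁, h1a, C.g0_symm b e₁, h1b]
  have hz1e2 : g0 J z₁ e₂ = 0 := by
    simp [hz₁e, g0_add, g0_smul, C.g0_symm a e₂, h2a, C.g0_symm b e₂, h2b]
  obtain ⟨z₂, hz₂, hz₂s, hzz⟩ := C.exists_sing ![e₁, e₂] hz₁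
    (fun i => by fin_cases i; exacts [hz1e1, hz1e2]) (by
      intro hm
      rw [Matrix.range_cons, Matrix.range_cons, Matrix.range_empty, Set.union_empty,
        Set.singleton_union, Submodule.mem_span_pair] at hm
      obtain ⟨s', t', e⟩ := hm
      have e1 := hz1e1
      have e2 := hz1e2
      rw [← e, g0_add, g0_smul, g0_smul, C.g0_symm e₂ e₁, he, mul_zero, add_zero] at e1
      rw [← e, g0_add, g0_smul, g0_smul, he, mul_zero, zero_add] at e2
      exact hz10 (by rw [← e, (mul_eq_zero.mp e1).resolve_right h₁,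
        (mul_eq_zero.mp e2).resolve_right h₂, zero_smul, zero_smul, add_zero]))
  have h21 : g0 J z₂ e₁ = 0 := hz₂s 0
  have h22 : g0 J z₂ e₂ = 0 := hz₂s 1
  set u := rv F₀ a + c • rv F₀ b with hudef
  have hf := (mem_spIso.mp (hLG hh)).1
  have huu : frm σ F₀ J u u = 0 := by rw [← hu, hf, iso_rv C hx]
  have hu1 : frm σ F₀ J u (rv F₀ e₁) = 0 := by
    simp [hudef, frm_add_left, frm_smul_left, C.frm_rv, C.g0_symm a e₁, h1a, C.g0_symm b e₁, h1b]
  have hu2 : frm σ F₀ J u (rv F₀ e₂) = 0 := by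
    simp [hudef, frm_add_left, frm_smul_left, C.frm_rv, C.g0_symm a e₂, h2a, C.g0_symm b e₂, h2b]
  set α := frm σ F₀ J u (rv F₀ z₂) with hαdef
  set β := frm σ F₀ J u (rv F₀ z₁) with hβdef
  have huz : u = α • rv F₀ z₁ + β • rv F₀ z₂ := by
    refine sub_eq_zero.mp (C.eq_zero_four
      (C.indep_pair hz₁ hz₂ hzz h₁ h₂ he hz1e1 hz1e2 h21 h22) ?_ ?_ ?_ ?_)
    · simp [frm_sub_left, frm_add_left, frm_smul_left, C.frm_rv, show g0 J z₁ z₁ = 0 from hz₁,
        C.g0_symm z₂ z₁, hzz, ← hβdef]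
    · simp [frm_sub_left, frm_add_left, frm_smul_left, C.frm_rv, show g0 J z₂ z₂ = 0 from hz₂,
        hzz, ← hαdef]
    · simp [frm_sub_left, frm_add_left, frm_smul_left, C.frm_rv, hu1, hz1e1, h21]
    · simp [frm_sub_left, frm_add_left, frm_smul_left, C.frm_rv, hu2, hz1e2, h22]
  have hline : ∀ (γ : F) (z : ι → F₀), u ≠ γ • rv F₀ z := by
    intro γ z e
    obtain ⟨s', t', rfl⟩ := scalar_split C hc hc0 γ
    obtain ⟨ea, eb⟩ := split_inj C hc hc0 (a := a) (b := b) (a' := s' • z) (b' := t' • z)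
      (by rw [← hudef, e, rv_smul, rv_smul]; module)
    exact hd (by rw [ea, eb, disc, q0_smul, q0_smul, g0_smul, g0_smul_right,
      show g0 J z z = q0 J z from rfl]; ring)
  have hα : α ≠ 0 := fun e => hline β z₂ (by rw [huz, e, zero_smul, zero_add])
  have hβ : β ≠ 0 := fun e => hline α z₁ (by rw [huz, e, zero_smul, add_zero])
  have hαβ : α * σ β + β * σ α = 0 := by
    have e := huu
    rw [huz] at e
    simp only [frm_add_left, frm_add_right, frm_smul_left, frm_smul_right, C.frm_rv,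
      show g0 J z₁ z₁ = 0 from hz₁, show g0 J z₂ z₂ = 0 from hz₂, C.g0_symm z₂ z₁, hzz,
      ZeroMemClass.coe_zero, OneMemClass.coe_one] at e
    linear_combination e
  have hσα : σ α ≠ 0 := fun e => hα (by rw [← C.inv α, e, map_zero])
  obtain ⟨r, hr⟩ : ∃ r : F₀, β / α = c * r := by
    refine ⟨⟨β / α / c, C.mem_of _ ?_⟩, by field_simp⟩
    rw [map_div₀, map_div₀, hc]
    field_simp
    linear_combination -hαβ
  have hr0 : r ≠ 0 := fun e => hβ (by
    rw [e, ZeroMemClass.coe_zero, mul_zero, div_eq_zero_iff] at hr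
    exact hr.resolve_right hα)
  have hu' : u = α • (rv F₀ z₁ + (c * r) • rv F₀ z₂) := by
    rw [← hr, smul_add, smul_smul, mul_div_cancel₀ _ hα, huz]
  -- a vector with a rational preimage
  obtain ⟨d, hdx, hqd⟩ : ∃ d, g0 J d x = 0 ∧ q0 J d ≠ 0 := by
    by_contra hne
    push Not at hne
    have h3 := C.perp_bound _ _ (C.perp_of_singular (U := perp J ![x]) fun u hu =>
      hne u (C.mem_perp.mp hu 0))
    have h4 := C.finrank_perp_ge ![x]
    have := C.card
    omega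
  set v := (h : Matrix ι ι F) *ᵥ rv F₀ d with hvdef
  have hvu : frm σ F₀ J v u = 0 := by rw [← hu, hvdef, hf, perp_rv C hdx]
  have hdec := dec_perp C hLG hc hc0 hδ hh hx hu hd he h₁ h₂ he₁ he₂ hvu
  rw [← hudef] at hdec
  obtain ⟨g, hg, μ₁, μ₂, hμ, hμs, hμe, hg1, hg2, hgx⟩ := exists_rot_pair C hN h₁ he
    (fun e => one_ne_zero (hane 1 1 (by linear_combination e)).1)
  have hμ2 : μ₂ ≠ 0 := fun e => by
    rw [e, zero_mul] at hμe
    exact mul_ne_zero hμ h₂ hμe
  rw [rv_sub, rv_smul, rv_smul] at hg1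
  rw [rv_add, rv_smul, rv_smul] at hg2
  have hfg := (mem_spIso.mp (hLG hg)).1
  have hgu : (g : Matrix ι ι F) *ᵥ u = u := by
    rw [hudef, Matrix.mulVec_add, Matrix.mulVec_smul,
      hgx a ((C.g0_symm _ _).trans h1a) ((C.g0_symm _ _).trans h2a),
      hgx b ((C.g0_symm _ _).trans h1b) ((C.g0_symm _ _).trans h2b)]
  obtain ⟨r₁, ν₁, hr₁, himg⟩ := image_rel C hN hLG hI hh hx hx0 hg one_ne_zero
    (by rw [one_smul, hu]; exact hgu) hdx
  rw [map_one, one_smul, hu] at himg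
  set α₁ := frm σ F₀ J v (rv F₀ e₁) / (q0 J e₁ : F) with hα₁
  set β₁ := frm σ F₀ J v (rv F₀ e₂) / (q0 J e₂ : F) with hβ₁
  generalize hν : frm σ F₀ J v (rv F₀ b) / frm σ F₀ J u (rv F₀ b) = ν at hdec
  clear_value α₁ β₁
  clear hα₁ hβ₁
  have hu1' := C.frm_perp hu1
  have hu2' := C.frm_perp hu2
  have hreal : α₁ * σ β₁ = β₁ * σ α₁ := by
    have e : frm σ F₀ J ((g : Matrix ι ι F) *ᵥ v) v = (g0 J r₁ d : F) := by
      rw [himg, frm_add_left, frm_smul_left, C.frm_perp hvu, mul_zero, add_zero, hvdef, hf, C.frm_rv]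
    have e' := congrArg σ e
    rw [C.fix _ (g0 J r₁ d).2, ← e, hdec] at e'
    simp only [Matrix.mulVec_add, Matrix.mulVec_smul, hg1, hg2, hgu, frm_add_left, frm_add_right,
      frm_sub_left, frm_smul_left, frm_smul_right, C.frm_rv, C.g0_symm e₂ e₁, he, hu1, hu2, hu1',
      hu2', huu, show g0 J e₁ e₁ = q0 J e₁ from rfl, show g0 J e₂ e₂ = q0 J e₂ from rfl, map_add,
      map_sub, map_neg, map_mul, C.inv, C.fix _ (SetLike.coe_mem _), map_zero, ZeroMemClass.coe_zero,
      mul_zero, zero_mul, add_zero, sub_zero, zero_sub, zero_add] at e'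
    have hμe' : (μ₁ : F) * q0 J e₂ = μ₂ * q0 J e₁ := congrArg Subtype.val hμe
    have hne : (2 : F) * ((μ₁ : F) * q0 J e₂) ≠ 0 :=
      mul_ne_zero C.two (mul_ne_zero (fun e => hμ (Subtype.ext e)) (fun e => h₂ (Subtype.ext e)))
    refine sub_eq_zero.mp ((mul_eq_zero.mp ?_).resolve_left hne)
    push_cast at e'
    linear_combination e' + (α₁ * σ β₁ - β₁ * σ α₁) * hμe'
  obtain ⟨l, E₁, E₂, hl, hE₁, hE₂, hE0⟩ : ∃ (l : F) (E₁ E₂ : F₀), l ≠ 0 ∧ α₁ = l * E₁ ∧
      β₁ = l * E₂ ∧ (E₁ ≠ 0 ∨ E₂ ≠ 0) := by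
    by_cases hα0 : α₁ = 0
    · refine ⟨β₁, 0, 1, fun e => hqd (Subtype.ext ?_), by simp [hα0], by simp, Or.inr one_ne_zero⟩
      rw [← show frm σ F₀ J v v = (q0 J d : F) by rw [hvdef, hf, C.frm_rv]; rfl, hdec, hα0, e]
      simp [frm_smul_left, frm_smul_right, huu]
    · refine ⟨α₁, 1, ⟨β₁ / α₁, C.mem_of _ ?_⟩, hα0, by simp, by field_simp, Or.inl one_ne_zero⟩
      rw [map_div₀]
      have : σ α₁ ≠ 0 := fun e => hα0 (by rw [← C.inv α₁, e, map_zero])
      field_simp
      linear_combination hreal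
  set p := μ₁ - 1 with hpdef
  have hcover : ∀ A B : F₀, ∃ (d' : ι → F₀) (ν' : F), g0 J d' x = 0 ∧
      (h : Matrix ι ι F) *ᵥ rv F₀ d' = l • rv F₀ (A • e₁ + B • e₂) + ν' • u := by
    intro A B
    set D₁ := E₁ * p + E₂ * μ₂ with hD₁
    set D₂ := -(E₁ * μ₁) + E₂ * p with hD₂
    have hdet : E₁ * D₂ - E₂ * D₁ ≠ 0 := by
      intro e
      have := hane E₁ E₂ ((mul_eq_zero.mp (show μ₁ * (E₁ ^ 2 * q0 J e₁ + E₂ ^ 2 * q0 J e₂) = 0 by
        rw [hD₁, hD₂] at e
        linear_combination (-(q0 J e₁)) * e + E₂ ^ 2 * hμe)).resolve_left hμ)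
      exact hE0.elim (fun h => h this.1) (fun h => h this.2)
    generalize hk : E₁ * D₂ - E₂ * D₁ = k at hdet
    set S := (A * D₂ - B * D₁) / k with hS
    set S' := (E₁ * B - E₂ * A) / k with hS'
    refine ⟨S • d + S' • r₁, (S : F) * ν + (S' : F) * (ν - ν₁),
      by rw [g0_add, g0_smul, g0_smul, hdx, hr₁, mul_zero, mul_zero, add_zero], ?_⟩
    have e1 : S * E₁ + S' * D₁ = A := by rw [hS, hS']; field_simp; linear_combination A * hk
    have e2 : S * E₂ + S' * D₂ = B := by rw [hS, hS']; field_simp; linear_combination B * hk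
    have hhr : (h : Matrix ι ι F) *ᵥ rv F₀ r₁ = (g : Matrix ι ι F) *ᵥ v - ν₁ • u := by
      rw [himg]; abel
    rw [rv_add, rv_smul, rv_smul, Matrix.mulVec_add, Matrix.mulVec_smul, Matrix.mulVec_smul,
      ← hvdef, hhr, hdec, Matrix.mulVec_add, Matrix.mulVec_add, Matrix.mulVec_smul,
      Matrix.mulVec_smul, Matrix.mulVec_smul, hg1, hg2, hgu, ← e1, ← e2, hD₁, hD₂, hE₁, hE₂,
      rv_add, rv_smul, rv_smul]
    push_cast
    match_scalars <;> ring
  set m := σ α * l with hmdef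
  obtain ⟨l₀, l₁, hm⟩ := scalar_split C hc hc0 m
  have hmm : m * σ m = ((l₀ * l₀ - δ * (l₁ * l₁) : F₀) : F) := by
    rw [hm, map_add, map_mul, hc, C.fix _ l₀.2, C.fix _ l₁.2]
    push_cast
    linear_combination (-((l₁ : F) * l₁)) * hδ
  have hc2 : ((2 : F₀) : F) = 2 := map_ofNat F₀.subtype 2
  have hR : ∀ A B : F₀, InR σ F₀ J L (((l₀ : F) + c * l₁) • rv F₀ (A • e₁ + B • e₂))
      (rv F₀ z₁ + (c * r) • rv F₀ z₂)
      (-(((l₀ * l₀ - δ * (l₁ * l₁)) * q0 J (A • e₁ + B • e₂) / 2 : F₀) : F)) := by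
    intro A B
    obtain ⟨d', ν', hd', hhd'⟩ := hcover ((A + B) / 2) ((μ₂ * B - μ₁ * A) / (2 * μ₂))
    set A' := (A + B) / 2 with hA'
    set B' := (μ₂ * B - μ₁ * A) / (2 * μ₂) with hB'
    have q1 := InR.conj hLG hh (rat_gen C hN hx hd')
    rw [hu] at q1
    have q2 := InR.conj hLG hg q1
    rw [hgu] at q2
    have q3 := q1.mul C (q2.inv' C)
    have hsum : (h : Matrix ι ι F) *ᵥ rv F₀ d' +
        -((g : Matrix ι ι F) *ᵥ ((h : Matrix ι ι F) *ᵥ rv F₀ d')) =
        l • rv F₀ (A • e₁ + B • e₂) := by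
      have hA : A' - (A' * p + B' * μ₂) = A := by
        rw [hA', hB', hpdef]
        have := C.two'
        field_simp
        linear_combination (-B) * hμs
      have hB : B' - (-(A' * μ₁) + B' * p) = B := by
        rw [hA', hB', hpdef]
        have := C.two'
        field_simp
        linear_combination (A * μ₁) * hμs
      rw [hhd', ← hA, ← hB]
      simp only [rv_add, rv_smul, Matrix.mulVec_add, Matrix.mulVec_smul, hg1, hg2, hgu]
      push_cast
      module
    have hzero : frm σ F₀ J (rv F₀ z₁ + (c * r) • rv F₀ z₂)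
        (rv F₀ z₁ + (c * r) • rv F₀ z₂) = 0 := by
      have e := huu
      rw [hu', frm_smul_left, frm_smul_right] at e
      exact (mul_eq_zero.mp ((mul_eq_zero.mp e).resolve_left hα)).resolve_left hσα
    have hQe : (q0 J d' : F) = frm σ F₀ J ((h : Matrix ι ι F) *ᵥ rv F₀ d')
        ((h : Matrix ι ι F) *ᵥ rv F₀ d') := by rw [hf, C.frm_rv]; rfl
    have hself : frm σ F₀ J (l • rv F₀ (A • e₁ + B • e₂)) (l • rv F₀ (A • e₁ + B • e₂)) =
        l * σ l * (q0 J (A • e₁ + B • e₂) : F) := by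
      rw [frm_smul_left, frm_smul_right, C.frm_rv,
        show g0 J (A • e₁ + B • e₂) (A • e₁ + B • e₂) = q0 J (A • e₁ + B • e₂) from rfl]; ring
    rw [← hsum, ← sub_eq_add_neg, frm_sub_left, frm_sub_right, frm_sub_right, hfg,
      C.herm ((g : Matrix ι ι F) *ᵥ ((h : Matrix ι ι F) *ᵥ rv F₀ d'))
        ((h : Matrix ι ι F) *ᵥ rv F₀ d')] at hself
    have hreal' : σ (frm σ F₀ J ((g : Matrix ι ι F) *ᵥ ((h : Matrix ι ι F) *ᵥ rv F₀ d'))
          ((h : Matrix ι ι F) *ᵥ rv F₀ d')) =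
        frm σ F₀ J ((g : Matrix ι ι F) *ᵥ ((h : Matrix ι ι F) *ᵥ rv F₀ d'))
          ((h : Matrix ι ι F) *ᵥ rv F₀ d') := by
      obtain ⟨r', ν'', -, e⟩ := image_rel C hN hLG hI hh hx hx0 hg one_ne_zero
        (by rw [one_smul, hu]; exact hgu) hd'
      rw [map_one, one_smul] at e
      rw [e, frm_add_left, frm_smul_left, hf, hf, C.frm_rv, C.frm_rv,
        show g0 J x d' = 0 from (C.g0_symm _ _).trans hd', ZeroMemClass.coe_zero, mul_zero, add_zero,
        C.fix _ (g0 J r' d').2]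
    rw [hreal'] at hself
    rw [hsum, hu'] at q3
    have q4 := q3.centre_smul C hzero hα
    rw [smul_smul, ← hmdef, hm] at q4
    convert q4 using 1
    rw [frm_neg_left, hfg]
    push_cast [hc2] at hmm ⊢
    rw [← hmm, hmdef, map_mul, C.inv]
    have := C.two
    field_simp
    linear_combination hself
  by_cases hl0 : l₀ = 0
  swap
  · exact quad_false C hN hLG hI hc hc0 hδ h5 hz₁ hz10 hz₂ hzz hz1e1 hz1e2 h21 h22 he h₁ h₂ hr0
      hl0 hR
  -- otherwise exchange the two singular vectors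
  have hl1 : l₁ ≠ 0 := fun e => mul_ne_zero hσα hl (by
    rw [← hmdef, hm, hl0, e, ZeroMemClass.coe_zero, mul_zero, add_zero])
  have hz20 : z₂ ≠ 0 := fun e => by
    rw [e, g0_zero_right] at hzz
    exact zero_ne_one hzz
  have hδ0 := delta_ne_zero C hc hc0 hδ
  have hcr : c * (r : F) ≠ 0 := mul_ne_zero hc0 fun e => hr0 (Subtype.ext e)
  refine quad_false C hN hLG hI hc hc0 hδ h5 hz₂ hz20 hz₁ (by rw [C.g0_symm, hzz]) h21 h22 hz1e1
    hz1e2 he h₁ h₂ (r := (δ * r)⁻¹) (inv_ne_zero (mul_ne_zero hδ0 hr0)) (l₀ := -(δ * r * l₁))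
    (l₁ := 0) (neg_ne_zero.mpr (mul_ne_zero (mul_ne_zero hδ0 hr0) hl1)) fun A B => ?_
  have q := hR A B
  have hrr : c * ((r : F)) * (c * (((δ * r)⁻¹ : F₀) : F)) = 1 := by
    have : ((δ * r : F₀) : F) ≠ 0 := fun e => mul_ne_zero hδ0 hr0 (Subtype.ext e)
    rw [show (((δ * r)⁻¹ : F₀) : F) = ((δ * r : F₀) : F)⁻¹ from rfl]
    field_simp
    push_cast
    linear_combination (r : F) * hδ
  have heq : rv F₀ z₁ + (c * r) • rv F₀ z₂ =
      (c * r) • (rv F₀ z₂ + (c * (((δ * r)⁻¹ : F₀) : F)) • rv F₀ z₁) := by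
    rw [smul_add, smul_smul, hrr, one_smul, add_comm]
  rw [heq] at q
  have hzero : frm σ F₀ J (rv F₀ z₂ + (c * (((δ * r)⁻¹ : F₀) : F)) • rv F₀ z₁)
      (rv F₀ z₂ + (c * (((δ * r)⁻¹ : F₀) : F)) • rv F₀ z₁) = 0 := by
    simp only [frm_add_left, frm_add_right, frm_smul_left, frm_smul_right, C.frm_rv,
      show g0 J z₁ z₁ = 0 from hz₁, show g0 J z₂ z₂ = 0 from hz₂, C.g0_symm z₂ z₁, hzz,
      map_mul, hc, C.fix _ (SetLike.coe_mem _), ZeroMemClass.coe_zero, OneMemClass.coe_one]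
    ring
  have q' := q.centre_smul C hzero hcr
  rw [map_mul, hc, C.fix _ r.2, hl0, smul_smul] at q'
  convert q' using 1
  · congr 1
    push_cast
    linear_combination (r : F) * l₁ * hδ
  · push_cast [hc2]
    linear_combination ((r : F) * r * l₁ * l₁ * δ * (q0 J (A • e₁ + B • e₂) : F) / 2) * hδ

include C hN hLG hI hh hx hx0 in
/-- Rational singular points go to rational points. -/
theorem image_point [Finite F] (h5 : 5 ≤ Nat.card F₀) :
    ∃ (r : ι → F₀) (μ : F), μ ≠ 0 ∧ r ≠ 0 ∧ (h : Matrix ι ι F) *ᵥ rv F₀ x = μ • rv F₀ r := by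
  obtain ⟨c, hc0, hc'⟩ := Herm.exists_trace_zero C.ne C.inv
  have hc : σ c = -c := eq_neg_of_add_eq_zero_right hc'
  obtain ⟨δ, hδ⟩ : ∃ δ : F₀, c * c = δ :=
    ⟨⟨c * c, C.mem_of _ (by rw [map_mul, hc]; ring)⟩, rfl⟩
  obtain ⟨a, b, hu⟩ := split C hc hc0 ((h : Matrix ι ι F) *ᵥ rv F₀ x)
  have hu0 : (h : Matrix ι ι F) *ᵥ rv F₀ x ≠ 0 := fun e => rv_ne_zero F₀ hx0
    (Matrix.mulVec_injective_of_isUnit h.isUnit (e.trans (Matrix.mulVec_zero _).symm))
  by_cases hb : b = 0
  · rw [hb, rv_zero, smul_zero, add_zero] at hu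
    exact ⟨a, 1, one_ne_zero, fun e => hu0 (by rw [hu, e, rv_zero]), by rw [one_smul, hu]⟩
  by_cases hab : a ∈ Submodule.span F₀ {b}
  · obtain ⟨t, rfl⟩ := Submodule.mem_span_singleton.mp hab
    have e : (h : Matrix ι ι F) *ᵥ rv F₀ x = ((t : F) + c) • rv F₀ b := by
      rw [hu, rv_smul, add_smul]
    exact ⟨b, _, fun e0 => hu0 (by rw [e, e0, zero_smul]), hb, e⟩
  exfalso
  by_cases hd : disc J a b = 0
  · have hqb : q0 J b = 0 := by
      by_contra hqb
      refine not_square C hc hc0 hδ (g0 J a b / q0 J b) ?_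
      rw [disc, qa_eq C hLG hc hδ hh hx hu] at hd
      field_simp
      linear_combination hd
    rw [disc, hqb, mul_zero, sub_zero, mul_self_eq_zero] at hd
    exact ts_false C hN hLG hI hc hc0 hδ hh hx hx0 hu h5 hab hb hqb hd
  · exact hyp_false C hN hLG hI hc hc0 hδ hh hx hx0 hu h5 hd
      (isSquare_disc C hN hLG hI hc hc0 hδ h5 hh hx hx0 hu)

include C hN hLG hI in
theorem ratG_of_not [Finite F] (h5 : 5 ≤ Nat.card F₀) {h : GL ι F} (hh : h ∈ L) : RatG F₀ h := by
  have hspan : ∀ z : ι → F₀, z ∈ Submodule.span F₀ {w | q0 J w = 0} := fun z => by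
    refine Submodule.span_mono (fun w hw => hw.2) ((Sing.singular_span q0_smul C.polar C.nondeg
      (perp J (![] : Fin 0 → ι → F₀)) ?_) (C.mem_perp.mpr fun i => i.elim0))
    have h1 := C.finrank_perp_ge (![] : Fin 0 → ι → F₀)
    have := C.card
    rw [finrank_fintype_fun_eq_card]
    omega
  obtain ⟨x₀, hx₀, hx00⟩ : ∃ x : ι → F₀, q0 J x = 0 ∧ x ≠ 0 := by
    by_contra hne
    push Not at hne
    have : Nonempty ι := Fintype.card_pos_iff.mp (by rw [C.card]; norm_num)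
    obtain ⟨i⟩ := this
    have h1 : (Pi.single i 1 : ι → F₀) = 0 := (Submodule.mem_bot F₀).mp
      (Submodule.span_le.mpr (fun w hw => (Submodule.mem_bot F₀).mpr (hne w hw)) (hspan _))
    exact one_ne_zero (Pi.single_eq_zero_iff.mp h1)
  obtain ⟨r₀, μ, hμ, hr₀, h₀⟩ := image_point C hN hLG hI hh hx₀ hx00 h5
  set A := (h : Matrix ι ι F)
  let T : Submodule F₀ (ι → F₀) :=
    { carrier := {x | ∀ l, μ⁻¹ * (A *ᵥ rv F₀ x) l ∈ F₀}
      add_mem' := fun {a b} ha hb l => by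
        rw [rv_add, Matrix.mulVec_add, Pi.add_apply, mul_add]; exact F₀.add_mem (ha l) (hb l)
      zero_mem' := fun l => by
        rw [rv_zero, Matrix.mulVec_zero, Pi.zero_apply, mul_zero]; exact F₀.zero_mem
      smul_mem' := fun c a ha l => by
        rw [rv_smul, Matrix.mulVec_smul, Pi.smul_apply, smul_eq_mul, mul_left_comm]
        exact F₀.mul_mem c.2 (ha l) }
  -- multipliers of points which are not perpendicular agree
  have ratio : ∀ x x' : ι → F₀, q0 J x = 0 → q0 J x' = 0 → g0 J x x' ≠ 0 → x ∈ T → x' ∈ T := by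
    intro x x' hx hx' hxx hxT
    have hx0 : x ≠ 0 := fun e => hxx (by rw [e, g0_zero_left])
    have hx'0 : x' ≠ 0 := fun e => hxx (by rw [e, g0_zero_right])
    obtain ⟨r, ν, hν, hr, e⟩ := image_point C hN hLG hI hh hx hx0 h5
    obtain ⟨r', ν', hν', hr', e'⟩ := image_point C hN hLG hI hh hx' hx'0 h5
    obtain ⟨l, hl⟩ := Function.ne_iff.mp hr
    have hrl : (r l : F) ≠ 0 := fun e => hl (Subtype.ext e)
    have hνm : μ⁻¹ * ν ∈ F₀ := by
      have h1 := F₀.div_mem (hxT l) (r l).2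
      rw [e, Pi.smul_apply, smul_eq_mul, ← mul_assoc] at h1
      rwa [show rv F₀ r l = (r l : F) from rfl, mul_div_cancel_right₀ _ hrl] at h1
    have hp : ν * σ ν' * (g0 J r r' : F) = g0 J x x' := by
      rw [← C.frm_rv x x', ← (mem_spIso.mp (hLG hh)).1, e, e', frm_smul_left, frm_smul_right,
        C.frm_rv]
      ring
    have hσν' : σ ν' ≠ 0 := fun e => hν' (by rw [← C.inv ν', e, map_zero])
    have hgr : (g0 J r r' : F) ≠ 0 := fun e0 => hxx (Subtype.ext (by
      rw [← hp, e0, mul_zero]; rfl))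
    have hνν : ν * σ ν' ∈ F₀ := by
      have : ν * σ ν' = (g0 J x x' : F) / g0 J r r' := by rw [eq_div_iff hgr, hp]
      rw [this]; exact F₀.div_mem (g0 J x x').2 (g0 J r r').2
    have hN' : ν' * σ ν' ∈ F₀ := C.mem_of _ (by rw [map_mul, C.inv, mul_comm])
    intro l
    rw [e', Pi.smul_apply, smul_eq_mul, ← mul_assoc]
    refine F₀.mul_mem ?_ (r' l).2
    have := F₀.div_mem (F₀.mul_mem hνm hN') hνν
    convert this using 1
    field_simp
  have hbase : x₀ ∈ T := fun l => by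
    rw [h₀, Pi.smul_apply, smul_eq_mul, ← mul_assoc, inv_mul_cancel₀ hμ, one_mul]; exact (r₀ l).2
  have hT : ∀ x : ι → F₀, x ∈ T := fun x => by
    refine (Submodule.span_le (p := T)).mpr ?_ (hspan x)
    intro z hz
    rcases eq_or_ne z 0 with rfl | hz0
    · exact T.zero_mem
    by_cases hxz : g0 J x₀ z = 0
    swap
    · exact ratio x₀ z hx₀ hz hxz hbase
    obtain ⟨v, hxv, hzv⟩ : ∃ v, g0 J x₀ v ≠ 0 ∧ g0 J z v ≠ 0 := by
      obtain ⟨v₁, -, h1⟩ := C.exists_dual (k := 0) ![] (x := x₀) (by simpa using hx00)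
      obtain ⟨v₂, -, h2⟩ := C.exists_dual (k := 0) ![] (x := z) (by simpa using hz0)
      by_cases h3 : g0 J z v₁ = 0
      · by_cases h4 : g0 J x₀ v₂ = 0
        · exact ⟨v₁ + v₂, by rw [g0_add_right, h1, h4, add_zero]; exact one_ne_zero,
            by rw [g0_add_right, h3, h2, zero_add]; exact one_ne_zero⟩
        · exact ⟨v₂, h4, by rw [h2]; exact one_ne_zero⟩
      · exact ⟨v₁, by rw [h1]; exact one_ne_zero, h3⟩
    set w := v + (-(q0 J v / (2 * g0 J x₀ v))) • x₀ with hw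
    have hwq : q0 J w = 0 := by
      have := C.two'
      rw [hw, q0, g0_add, g0_add_right, g0_add_right, g0_smul, g0_smul, g0_smul_right, g0_smul_right,
        C.g0_symm v x₀, show g0 J x₀ x₀ = 0 from hx₀, q0]
      field_simp
      ring
    refine ratio w z hwq hz ?_ (ratio x₀ w hx₀ hwq ?_ hbase)
    · rw [hw, g0_add, g0_smul, hxz, mul_zero, add_zero, C.g0_symm]; exact hzv
    · rw [hw, g0_add_right, g0_smul_right, show g0 J x₀ x₀ = 0 from hx₀, mul_zero, add_zero]
      exact hxv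
  refine ⟨μ⁻¹, inv_ne_zero hμ, fun k l => ?_⟩
  have h1 := hT (Pi.single l 1) k
  rwa [rv_single, Matrix.mulVec_single_one] at h1

omit L in
/-- The rational part is maximal in the special isometry group. -/
theorem isMaximal [Finite F] (C : Ctx σ F₀ J) (h5 : 5 ≤ Nat.card F₀) :
    Cfsg.Geo.IsMaximalIn (spIso σ F₀ J) (ratIso σ F₀ J) := by
  refine ⟨lt_of_le_of_ne inf_le_right fun e => ?_, fun L hN hLG => ?_⟩
  · obtain ⟨c, hc0, hc'⟩ := Herm.exists_trace_zero C.ne C.inv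
    have hc : σ c = -c := eq_neg_of_add_eq_zero_right hc'
    obtain ⟨y, hyU, hy0, hy⟩ := Sing.exists_singular q0_smul C.polar (perp J (![] : Fin 0 → ι → F₀))
      (by have h1 := C.finrank_perp_ge (![] : Fin 0 → ι → F₀); have := C.card; omega)
    obtain ⟨y', hy', -, hyy⟩ := C.exists_sing (k := 0) ![] hy (fun i => i.elim0) (by simpa using hy0)
    have hyy' : frm σ F₀ J (rv F₀ y) (rv F₀ y) = 0 := iso_rv C hy
    set M := 1 + rootX σ F₀ J 0 (rv F₀ y) c with hM
    have hM' : M = 1 + Matrix.vecMulVec (c • rv F₀ y) (cov σ F₀ J (rv F₀ y)) := by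
      rw [hM, rootX, emat_zero_left, emat_zero_right, sub_zero, zero_add, emat,
        Matrix.smul_vecMulVec]
    have hdet : M.det = 1 := by
      rw [hM', Matrix.vecMulVec_eq Unit, Matrix.det_one_add_replicateCol_mul_replicateRow,
        dotProduct_smul, dotProduct_comm,
        show rv F₀ y ⬝ᵥ cov σ F₀ J (rv F₀ y) = 0 from hyy', smul_zero, add_zero]
    let g : GL ι F := Matrix.GeneralLinearGroup.mkOfDetNeZero _ (by rw [hdet]; exact one_ne_zero)
    have hge : (g : Matrix ι ι F) = M := rfl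
    have hg : g ∈ spIso σ F₀ J := by
      refine mem_spIso.mpr ⟨fun u v => ?_, hdet⟩
      simp only [hge, hM, rootX_mulVec, frm_zero_right, frm_zero_left, smul_zero, zero_smul,
        sub_zero, add_zero, zero_add, frm_add_left, frm_add_right, frm_smul_left, frm_smul_right,
        hyy', map_mul, hc, C.herm v (rv F₀ y)]
      ring
    rw [← e] at hg
    obtain ⟨k, hk, hrat⟩ := (mem_subfieldSubgroup_one F₀ _).mp hg.1
    have himg : ∀ z : ι → F₀, ∀ i, k * ((g : Matrix ι ι F) *ᵥ rv F₀ z) i ∈ F₀ := fun z i => by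
      rw [Matrix.mulVec, dotProduct, Finset.mul_sum]
      exact F₀.sum_mem fun j _ => by rw [← mul_assoc]; exact F₀.mul_mem (hrat i j) (z j).2
    obtain ⟨i, hi⟩ := Function.ne_iff.mp hy0
    have hyi : (y i : F) ≠ 0 := fun e => hi (Subtype.ext e)
    have hkm : k ∈ F₀ := by
      have h1 := himg y i
      rw [hge, hM, rootX_mulVec, frm_zero_right, hyy'] at h1
      simp only [zero_smul, mul_zero, smul_zero, sub_zero, add_zero] at h1
      have h2 := F₀.div_mem h1 (y i).2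
      rwa [show (rv F₀ y) i = (y i : F) from rfl, mul_div_cancel_right₀ _ hyi] at h2
    have h1 := himg y' i
    have hy'y : frm σ F₀ J (rv F₀ y') (rv F₀ y) = 1 := by rw [C.frm_rv, C.g0_symm, hyy]; rfl
    rw [hge, hM, rootX_mulVec, frm_zero_right, hy'y] at h1
    simp only [zero_smul, smul_zero, sub_zero, add_zero, Pi.add_apply, Pi.smul_apply, smul_eq_mul,
      mul_one, rv] at h1
    refine anti_notMem C hc hc0 ?_
    have h2 := F₀.div_mem (F₀.sub_mem h1 (F₀.mul_mem hkm (y' i).2)) (F₀.mul_mem hkm (y i).2)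
    convert h2 using 1
    field_simp
    ring
  · by_cases hI : Irr σ F₀ J L
    · exact Or.inr (le_antisymm hLG (irr_full C hN hLG hI))
    · exact Or.inl (le_antisymm (fun g hg => Subgroup.mem_inf.mpr
        ⟨(mem_subfieldSubgroup_one F₀ g).mpr (ratG_of_not C hN hLG hI h5 hg), hLG hg⟩) hN)

/-- The orthogonal type subfield groups of `SU_4(q)`. -/
theorem orth_maximal {F : Type*} [Field F] [Fintype F] {q : ℕ} (hF : Fintype.card F = q ^ 2)
    (hodd : Odd q) (h5 : 5 ≤ q) (F₀ : Subfield F) (hcard : Fintype.card F = Nat.card F₀ ^ 2)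
    (P : GL (Fin 4) F)
    (hP : Cfsg.Geo.IsFormRationalStructure (Cfsg.hermForm 4 F q) F₀ 1 P) :
    Cfsg.Geo.IsMaximalIn (Cfsg.GU 4 F q ⊓ Cfsg.Geo.specialLinear (Fin 4) F)
      (Cfsg.Geo.subfieldSubgroup F₀ P ⊓
        (Cfsg.GU 4 F q ⊓ Cfsg.Geo.specialLinear (Fin 4) F)) := by
  have hq : Nat.card F₀ = q := Nat.pow_left_injective two_ne_zero (hcard.symm.trans hF)
  have hfrob : ∀ x : F, Herm.frob hF x = frobRel F₀ x := fun x => by
    letI := Fintype.ofFinite F₀
    show _ = x ^ Fintype.card F₀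
    rw [Herm.frob_apply, ← Nat.card_eq_fintype_card, hq]
  have C : Ctx (Herm.frob hF) F₀ (gram hP) :=
    { inv := Herm.frob_frob hF
      ne := Herm.frob_ne_id hF
      fix := fun x hx => by rw [hfrob]; exact frobRel_mem F₀ ⟨x, hx⟩
      mem_of := fun x hx => mem_of_frobRel_eq F₀ (by rw [← hfrob]; exact hx)
      det := det_gram hF hP one_ne_zero
      herm := fun u v => by
        rw [frm_gram, frm_gram, one_mul, one_mul, Cfsg.hermForm, Cfsg.hermForm, map_sum]
        refine Finset.sum_congr rfl fun i _ => ?_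
        rw [← Herm.frob_apply hF, ← Herm.frob_apply hF, map_mul, Herm.frob_frob, mul_comm]
      two := fun h => by
        haveI : CharP F 2 := CharTwo.of_one_ne_zero_of_two_eq_zero one_ne_zero h
        have h2 := FiniteField.even_card_of_char_two (ringChar.eq F 2)
        rw [hF, Nat.pow_mod, Nat.odd_iff.mp hodd] at h2
        omega
      card := Fintype.card_fin 4 }
  exact maximal_transfer hF hP one_ne_zero (isMaximal C (hq ▸ h5))

end Cfsg.Lib.Linear.SUFour.Orth
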