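import Cfsg.Agent.S5657

/-!
# The stabiliser of two complementary singular planes is maximal in `SU_4(q)`, `q ≥ 4`

A short root element outside the stabiliser, conjugated once more, has a singular plane meeting
one of the two planes; this gives a long root element there.
-/

set_option autoImplicit false

namespace Cfsg.Lib.Linear.SUFour.Pair

open Cfsg Module Cfsg.Lib.Linear Cfsg.Lib.Linear.Herm Cfsg.Agent.S5657

variable {F V : Type*} [Field F] [Finite F] [AddCommGroup V] [Module F V] {σ : F →+* F}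
  {B : V →ₛₗ[σ] V →ₗ[F] F} {z : F} {W₁ W₂ : Submodule F V}

theorem long_at [FiniteDimensional F V] (hσ : σ ≠ RingHom.id F) (hσ2 : ∀ a, σ (σ a) = a) (hS : B.IsSymm)
    (hB : B.Nondegenerate) (hc : IsCompl W₁ W₂)
    (h1 : ∀ x ∈ W₁, ∀ y ∈ W₁, B x y = 0) (h2 : ∀ x ∈ W₂, ∀ y ∈ W₂, B x y = 0)
    (hz : z + σ z = 0) (hz0 : z ≠ 0) {L : Subgroup (V ≃ₗ[F] V)}
    (hsr : ∀ a ∈ W₁, ∀ b ∈ W₂, ∀ h : OPair B a b, srP hz h ∈ L) {u v : V}
    (huv : ∀ (s : F) (h : OPair B (s • u) v), srP hz h ∈ L)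
    (h : OPair B u v) {u₁ u₂ v₁ v₂ : V} (hu₁ : u₁ ∈ W₁) (hu₂ : u₂ ∈ W₂) (hv₁ : v₁ ∈ W₁)
    (hv₂ : v₂ ∈ W₂) (hu : u₁ + u₂ = u) (hv : v₁ + v₂ = v) (hu0 : u₂ ≠ 0)
    (huv₂ : ∀ t : F, v₂ ≠ t • u₂) {y : V} (hyW : y ∈ W₂) (hyu : B u y = 0) (hyv : B v y = 0)
    (hy0 : y ≠ 0) :
    ∃ y ∈ W₂, y ≠ 0 ∧ Centre B L y := by
  have hv0 : v₂ ≠ 0 := fun e => huv₂ 0 (by rw [e, zero_smul])
  by_cases hyu₂ : ∃ t : F, u₂ = t • y
  · obtain ⟨t, ht⟩ := hyu₂
    exact long_degen hσ hσ2 hS hB hc h1 h2 hz hz0 hsr huv h hu₁ hu₂ hv₁ hv₂ hu hv hu0 huv₂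
      (by rw [ht, map_smul, hyu, smul_zero]) (by rw [ht, map_smul, hyv, smul_zero])
  by_cases hyv₂ : ∃ t : F, v₂ = t • y
  · obtain ⟨t, ht⟩ := hyv₂
    refine long_degen hσ hσ2 hS hB hc h1 h2 hz hz0 hsr (fun s hh => ?_) h.symm hv₁ hv₂ hu₁ hu₂ hv hu hv0
      (fun t' e => ?_) (by rw [ht, map_smul, hyv, smul_zero]) (by rw [ht, map_smul, hyu, smul_zero])
    · have h' : OPair B (σ s • u) v := ⟨by simp [h.1], h.2.1, by simp [h.2.2.1], by simp [h.2.2.2]⟩
      rw [srP_smul_swap hσ2 hz s hh h']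
      exact huv _ h'
    · rcases eq_or_ne t' 0 with rfl | ht'
      · exact hu0 (by rw [e, zero_smul])
      · exact huv₂ t'⁻¹ (by rw [e, smul_smul, inv_mul_cancel₀ ht', one_smul])
  push Not at hyu₂ hyv₂
  obtain ⟨a₁, a1W, a1y, a1u⟩ := exists_sep hS hB hc h2 hyW hu₂
    hyu₂
  obtain ⟨a₂, a2W, a2y, a2v⟩ := exists_sep hS hB hc h2 hyW hv₂
    hyv₂
  obtain ⟨a, haW, hay, hau, hav⟩ : ∃ a ∈ W₁, B a y = 0 ∧ B a u₂ ≠ 0 ∧ B a v₂ ≠ 0 := by
    by_cases e1 : B a₁ v₂ = 0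
    · by_cases e2 : B a₂ u₂ = 0
      · exact ⟨a₁ + a₂, add_mem a1W a2W, by simp [a1y, a2y], by simp [e2, a1u], by simp [e1, a2v]⟩
      · exact ⟨a₂, a2W, a2y, e2, a2v⟩
    · exact ⟨a₁, a1W, a1y, a1u, e1⟩
  have hau' : B a u = B a u₂ := by rw [← hu, map_add, h1 a haW u₁ hu₁, zero_add]
  have hav' : B a v = B a v₂ := by rw [← hv, map_add, h1 a haW v₁ hv₁, zero_add]
  -- choose the scalar
  obtain ⟨x₀, hx₀⟩ : ∃ x₀ : F, x₀ + σ x₀ = 1 := exists_trace_eq hσ hσ2 (map_one σ)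
  have hX : B v a * B a u ≠ 0 := mul_ne_zero
    (fun e => hav (by rw [← hav', ← hS.eq v a, e, map_zero])) (hau' ▸ hau)
  let s := x₀ / (B v a * B a u)
  have hP : OPair B (s • u) v := ⟨by simp [h.1], h.2.1, by simp [h.2.2.1], by simp [h.2.2.2]⟩
  have haP : OPair B a y := ⟨h1 a haW a haW, h2 y hyW y hyW, hay, hS.isRefl _ _ hay⟩
  have hgi := srP_mem_iso hS hz hP
  set g := srP hz hP with hgdef
  have hg := L.mul_mem (L.mul_mem (huv s hP) (hsr a haW y hyW haP)) (L.inv_mem (huv s hP))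
  have hgy : g y = y := by rw [hgdef, srP_apply]; simp [hyu, hyv]
  set a' := g a with ha'
  have hP' : OPair B a' (g y) := ⟨by rw [hgi, haP.1], by rw [hgi, haP.2.1], by rw [hgi, hay], by rw [hgi, haP.2.2.2]⟩
  rw [show srP hz hP = g from rfl, srP_conj hz hgi haP hP'] at hg
  have hyP : OPair B y a' := by rw [← hgy]; exact hP'.symm
  have hy' : srP hz hyP ∈ L := by
    convert hg using 1
    rw [srP_comm hz hP']
    congr 1
    exact hgy.symm
  have hγ : B a' a ≠ 0 := by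
    intro e
    have e' : B a a' = 0 := hS.isRefl _ _ e
    rw [ha', hgdef, srP_apply] at e'
    simp only [map_add, map_smul, LinearMap.map_smulₛₗ, LinearMap.smul_apply, smul_eq_mul,
      RingHom.id_apply, haP.1, zero_add] at e'
    have hsX : s * (B v a * B a u) = x₀ := div_mul_cancel₀ _ hX
    have hsX' : σ s * (B a v * B u a) = σ x₀ := by
      rw [← hsX, map_mul, map_mul, hS.eq v a, hS.eq a u]
    have : z * (x₀ + σ x₀) = 0 := by
      rw [← hsX', ← hsX]; linear_combination e'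
    rw [hx₀, mul_one] at this
    exact hz0 this
  refine ⟨y, hyW, hy0, h2 y hyW y hyW, fun c hc => ?_⟩
  have hcz : c + σ c = 0 := by rwa [h2 y hyW y hyW, mul_zero, add_zero] at hc
  -- the partner is a multiple of `a`
  obtain ⟨δ, hδ⟩ : ∃ δ : F, δ + σ δ = c / z := exists_trace_eq hσ hσ2 (by
    rw [map_div₀, eq_neg_of_add_eq_zero_right hcz, eq_neg_of_add_eq_zero_right hz, neg_div_neg_eq])
  let t := δ / (z * B a' a)
  have hPt : OPair B (t • a) y := ⟨by simp [haP.1], haP.2.1, by simp [hay], by simp [haP.2.2.2]⟩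
  have hval : z * B a' (t • a) = δ := by
    simp only [map_smul, smul_eq_mul, t]; field_simp
  have hl : z * (z * B a' (t • a) + σ (z * B a' (t • a))) = c := by
    rw [hval, hδ, mul_div_cancel₀ _ hz0]
  exact long_of_short hS hσ2 hz hyP hPt hy' (hsr _ (W₁.smul_mem t haW) y hyW hPt) c hl.symm hc

omit [Finite F] in
/-- Two perpendicular isotropic vectors span an isotropic plane. -/
theorem perp_of_comb {u v x y : V} (h : OPair B u v) {a b a' b' : F} (hx : x = a • u + b • v)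
    (hy : y = a' • u + b' • v) : B x y = 0 := by
  subst hx hy
  simp [h.1, h.2.1, h.2.2.1, h.2.2.2]

/-- The plane of a pair meeting the second subspace but not the first. -/
theorem long_meet [FiniteDimensional F V] (hσ : σ ≠ RingHom.id F) (hσ2 : ∀ a, σ (σ a) = a)
    (hS : B.IsSymm) (hB : B.Nondegenerate) (hc : IsCompl W₁ W₂)
    (h1 : ∀ x ∈ W₁, ∀ y ∈ W₁, B x y = 0) (h2 : ∀ x ∈ W₂, ∀ y ∈ W₂, B x y = 0)
    (hz : z + σ z = 0) (hz0 : z ≠ 0) {L : Subgroup (V ≃ₗ[F] V)}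
    (hsr : ∀ a ∈ W₁, ∀ b ∈ W₂, ∀ h : OPair B a b, srP hz h ∈ L) {u v : V}
    (huv : ∀ (s : F) (h : OPair B (s • u) v), srP hz h ∈ L) (h : OPair B u v)
    (hind : ∀ a b : F, a • u + b • v = 0 → a = 0 ∧ b = 0)
    (hW : ∀ a b : F, a • u + b • v ∈ W₁ → a • u + b • v = 0)
    {a b : F} (hy : a • u + b • v ∈ W₂) (hy0 : a • u + b • v ≠ 0) :
    ∃ y ∈ W₂, y ≠ 0 ∧ Centre B L y := by
  obtain ⟨u₁, hu₁, u₂, hu₂, hu⟩ := Submodule.mem_sup.mp
    (hc.sup_eq_top ▸ Submodule.mem_top : u ∈ W₁ ⊔ W₂)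
  obtain ⟨v₁, hv₁, v₂, hv₂, hv⟩ := Submodule.mem_sup.mp
    (hc.sup_eq_top ▸ Submodule.mem_top : v ∈ W₁ ⊔ W₂)
  have hu0 : u₂ ≠ 0 := fun e => by
    have e1 := hW 1 0 (by simpa [← hu, e] using hu₁)
    exact one_ne_zero (hind 1 0 e1).1
  have hne : ∀ t : F, v₂ ≠ t • u₂ := fun t e => by
    have e1 := hW (-t) 1 (by
      rw [show (-t) • u + (1 : F) • v = v₁ - t • u₁ by rw [← hu, ← hv, e]; module]
      exact sub_mem hv₁ (W₁.smul_mem _ hu₁))
    exact one_ne_zero (hind _ 1 e1).2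
  exact long_at hσ hσ2 hS hB hc h1 h2 hz hz0 hsr huv h hu₁ hu₂ hv₁ hv₂ hu hv hu0 hne hy
    (perp_of_comb h (a := 1) (b := 0) (by simp) rfl) (perp_of_comb h (a := 0) (b := 1) (by simp) rfl)
    hy0

/-- A plane meeting both subspaces, with an oblique pair. -/
theorem long_split [FiniteDimensional F V] (hσ : σ ≠ RingHom.id F) (hσ2 : ∀ a, σ (σ a) = a)
    (hz : z + σ z = 0) (hz0 : z ≠ 0) {L : Subgroup (V ≃ₗ[F] V)} (hL : L ≤ iso B)
    (h1 : ∀ x ∈ W₁, ∀ y ∈ W₁, B x y = 0) (h2 : ∀ x ∈ W₂, ∀ y ∈ W₂, B x y = 0)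
    (hsr : ∀ a ∈ W₁, ∀ b ∈ W₂, ∀ h : OPair B a b, srP hz h ∈ L)
    {r : F} (hr : σ r = r) (hr0 : r ≠ 0) (hr1 : r * r ≠ 1)
    {u v p y : V} (hp : p ∈ W₁) (hy : y ∈ W₂) (hp0 : p ≠ 0) (hy0 : y ≠ 0) (hP : OPair B p y)
    (hdil : ∃ n ∈ L, n p = p ∧ n y = r⁻¹ • y)
    {α β γ ε : F} (hu : u = α • p + β • y) (hv : v = γ • p + ε • y) (hαγ : α * γ ≠ 0)
    (huv : ∀ (s : F) (h : OPair B (s • u) v), srP hz h ∈ L) :
    (∃ x ∈ W₁, x ≠ 0 ∧ Centre B L x) ∨ ∃ x ∈ W₂, x ≠ 0 ∧ Centre B L x := by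
  have hpp := h1 p hp p hp
  have hyy := h2 y hy y hy
  have hpy := hP.2.2.1
  have hyp := hP.2.2.2
  have hanti : ∀ w : F, z * (w + σ w) + σ (z * (w + σ w)) = 0 := fun w => by
    rw [map_mul, map_add, hσ2, eq_neg_of_add_eq_zero_right hz]; ring
  -- the product of the two long parts lies in `L`
  have hT : ∀ s : F, qrefl p (z * (s * σ γ * α + σ (s * σ γ * α))) (tv_cond hpp (hanti _)) *
      qrefl y (z * (s * σ ε * β + σ (s * σ ε * β))) (tv_cond hyy (hanti _)) ∈ L := by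
    intro s
    have hsu : OPair B (s • u) v := by
      subst hu hv
      refine ⟨?_, ?_, ?_, ?_⟩ <;> simp [hpp, hyy, hpy, hyp]
    set s' := s * σ ε * α + σ s * σ β * γ
    have hs' : OPair B (s' • p) y :=
      ⟨by simp [hpp], hyy, by simp [hpy], by simp [hyp]⟩
    have e : srP hz hsu = srP hz hs' *
        (qrefl p (z * (s * σ γ * α + σ (s * σ γ * α))) (tv_cond hpp (hanti _)) *
          qrefl y (z * (s * σ ε * β + σ (s * σ ε * β))) (tv_cond hyy (hanti _))) := by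
      refine LinearEquiv.ext fun x => ?_
      subst hu hv
      simp only [LinearEquiv.mul_apply, srP_apply, qrefl_apply, map_add, map_smul, map_mul, hσ2,
        LinearMap.map_smulₛₗ, LinearMap.add_apply, LinearMap.smul_apply, smul_eq_mul, hpp, hyy, hpy,
        hyp, mul_zero, add_zero, s']
      module
    have := huv s hsu
    rw [e] at this
    exact (Subgroup.mul_mem_cancel_left L (hsr _ (W₁.smul_mem s' hp) y hy hs')).1 this
  have hsurj : ∀ (κ : F), κ ≠ 0 → ∀ d : F, d + σ d = 0 →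
      ∃ s : F, z * (s * κ + σ (s * κ)) = d := by
    intro κ hκ d hd
    obtain ⟨t, ht⟩ := exists_trace_eq hσ hσ2 (a := d / z) (by
      rw [map_div₀, eq_neg_of_add_eq_zero_right hd, eq_neg_of_add_eq_zero_right hz, neg_div_neg_eq])
    exact ⟨t / κ, by rw [div_mul_cancel₀ _ hκ, ht, mul_div_cancel₀ _ hz0]⟩
  have hα : α ≠ 0 := left_ne_zero_of_mul hαγ
  have hγ : σ γ ≠ 0 := fun e => right_ne_zero_of_mul hαγ (by rw [← hσ2 γ, e, map_zero])
  by_cases hεβ : σ ε * β = 0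
  · left
    refine ⟨p, hp, hp0, hpp, fun d hd => ?_⟩
    obtain ⟨s, hs⟩ := hsurj (σ γ * α) (mul_ne_zero hγ hα) d (by rwa [hpp, mul_zero, add_zero] at hd)
    have h := hT s
    have e : qrefl p (z * (s * σ γ * α + σ (s * σ γ * α))) (tv_cond hpp (hanti _)) *
        qrefl y (z * (s * σ ε * β + σ (s * σ ε * β))) (tv_cond hyy (hanti _)) = qrefl p d hd := by
      refine LinearEquiv.ext fun x => ?_
      simp only [LinearEquiv.mul_apply, qrefl_apply, mul_assoc s, hεβ, hs, mul_zero, map_zero,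
        add_zero, zero_mul, zero_smul]
    rwa [e] at h
  · right
    obtain ⟨n, hn, hnp, hny⟩ := hdil
    refine ⟨y, hy, hy0, hyy, fun d hd => ?_⟩
    have hd' : d + σ d = 0 := by rwa [hyy, mul_zero, add_zero] at hd
    have hκ : r⁻¹ * r⁻¹ - 1 ≠ 0 := by
      intro e
      apply hr1
      have : r⁻¹ * r⁻¹ = 1 := sub_eq_zero.mp e
      field_simp at this
      linear_combination -this
    obtain ⟨s, hs⟩ := hsurj (σ ε * β) hεβ (d / (r⁻¹ * r⁻¹ - 1)) (by
      rw [map_div₀, map_sub, map_mul, map_inv₀, hr, map_one, ← add_div, hd', zero_div])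
    have hA := hT s
    set c₁ := z * (s * σ γ * α + σ (s * σ γ * α))
    set c₂ := z * (s * σ ε * β + σ (s * σ ε * β))
    have hc₂ : c₂ * (r⁻¹ * r⁻¹ - 1) = d := by
      rw [show c₂ = d / (r⁻¹ * r⁻¹ - 1) by rw [← hs]; simp only [c₂, mul_assoc],
        div_mul_cancel₀ _ hκ]
    set A := qrefl p c₁ (tv_cond hpp (hanti _)) * qrefl y c₂ (tv_cond hyy (hanti _))
    have hB := L.mul_mem (L.mul_mem hn hA) (L.inv_mem hn)
    have e : n * A * n⁻¹ = A * qrefl y d hd := by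
      refine LinearEquiv.ext fun x => ?_
      have hx : n (n⁻¹ x) = x := by rw [← LinearEquiv.mul_apply, mul_inv_cancel]; rfl
      have ep : B p (n⁻¹ x) = B p x := by rw [← hL hn p, hnp, hx]
      have ey : B y (n⁻¹ x) = r⁻¹ * B y x := by
        rw [← hL hn y, hny, hx]; simp [hr]
      simp only [A, LinearEquiv.mul_apply, qrefl_apply, map_add, map_smul, hx, hnp, hny, ep, ey,
        smul_eq_mul, hpy, hyp, hyy, mul_zero, add_zero]
      rw [← hc₂]
      module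
    rw [e] at hB
    exact (Subgroup.mul_mem_cancel_left L hA).1 hB

omit [Finite F] in
/-- The dilations of a hyperbolic pair. -/
theorem exists_dil (hσ2 : ∀ a, σ (σ a) = a) (hS : B.IsSymm) (hz : z + σ z = 0) (hz0 : z ≠ 0)
    {a y : V} (ha : B a a = 0) (hy : B y y = 0) (hay : B a y = 1) {r : F} (hr : σ r = r)
    (hr0 : r ≠ 0) :
    ∃ n ∈ tvGroup B, n a = r • a ∧ n y = r⁻¹ • y ∧ ∀ x, B a x = 0 → B y x = 0 → n x = x := by
  have hya : B y a = 1 := by rw [← hS.eq, hay, map_one]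
  have hw : ∀ t : F, t + σ t = 0 → t ≠ 0 → ∃ w ∈ tvGroup B, w a = (-t⁻¹) • y ∧ w y = t • a ∧
      ∀ x, B a x = 0 → B y x = 0 → w x = x := by
    intro t ht ht0
    have ht' : -t⁻¹ + σ (-t⁻¹) = 0 := by
      rw [map_neg, map_inv₀, eq_neg_of_add_eq_zero_right ht, inv_neg]; ring
    refine ⟨qrefl a t (tv_cond ha ht) * qrefl y (-t⁻¹) (tv_cond hy ht') * qrefl a t (tv_cond ha ht),
      mul_mem (mul_mem (Subgroup.subset_closure ⟨_, _, _, ha, rfl⟩)
        (Subgroup.subset_closure ⟨_, _, _, hy, rfl⟩)) (Subgroup.subset_closure ⟨_, _, _, ha, rfl⟩),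
      ?_, ?_, fun x h h' => by simp [LinearEquiv.mul_apply, h, h']⟩
    · simp only [LinearEquiv.mul_apply, qrefl_apply, map_add, map_smul, smul_eq_mul, ha, hay, hya,
        mul_zero, mul_one, zero_smul, add_zero, zero_add]
      match_scalars <;> field_simp <;> ring
    · simp only [LinearEquiv.mul_apply, qrefl_apply, map_add, map_smul, smul_eq_mul, ha, hy, hay, hya,
        mul_zero, mul_one, zero_smul, add_zero, zero_add]
      match_scalars <;> field_simp <;> ring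
  have h1 : r * z + σ (r * z) = 0 := by rw [map_mul, hr]; linear_combination r * hz
  have h2 : -z + σ (-z) = 0 := by rw [map_neg]; linear_combination -hz
  obtain ⟨w, hwT, hwa, hwy, hwx⟩ := hw (r * z) h1 (mul_ne_zero hr0 hz0)
  obtain ⟨w', hw'T, hw'a, hw'y, hw'x⟩ := hw (-z) h2 (neg_ne_zero.mpr hz0)
  refine ⟨w * w', mul_mem hwT hw'T, ?_, ?_, fun x h h' => by
    rw [LinearEquiv.mul_apply, hw'x x h h', hwx x h h']⟩
  · rw [LinearEquiv.mul_apply, hw'a, map_smul, hwy, smul_smul]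
    congr 1
    field_simp
  · rw [LinearEquiv.mul_apply, hw'y, map_smul, hwa, smul_smul]
    congr 1
    field_simp

/-- An oblique plane can be moved to one meeting the second subspace obliquely. -/
theorem exists_moved [FiniteDimensional F V] (hσ : σ ≠ RingHom.id F) (hσ2 : ∀ a, σ (σ a) = a)
    (hS : B.IsSymm) (hB : B.Nondegenerate) (hc : IsCompl W₁ W₂)
    (h1 : ∀ x ∈ W₁, ∀ y ∈ W₁, B x y = 0) (h2 : ∀ x ∈ W₂, ∀ y ∈ W₂, B x y = 0)
    (hd1 : finrank F W₁ = 2) (hd2 : finrank F W₂ = 2)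
    (hz : z + σ z = 0) (hz0 : z ≠ 0) {L : Subgroup (V ≃ₗ[F] V)} (hL : L ≤ iso B)
    (hsr : ∀ a ∈ W₁, ∀ b ∈ W₂, ∀ h : OPair B a b, srP hz h ∈ L)
    {r : F} (hr : σ r = r) (hr0 : r ≠ 0) (hr1 : r * r ≠ 1) {u v : V}
    (huv : ∀ (s : F) (h : OPair B (s • u) v), srP hz h ∈ L) (h : OPair B u v)
    (hind : ∀ a b : F, a • u + b • v = 0 → a = 0 ∧ b = 0)
    (hW1 : ∀ a b : F, a • u + b • v ∈ W₁ → a • u + b • v = 0)
    (hW2 : ∀ a b : F, a • u + b • v ∈ W₂ → a • u + b • v = 0) :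
    ∃ w₁ ∈ W₁, ∃ w₂ ∈ W₂, OPair B w₁ w₂ ∧ ∃ k ∈ L, w₁ ≠ 0 ∧ w₂ ≠ 0 ∧ k (w₁ + w₂) ∈ W₂ := by
  obtain ⟨u₁, hu₁, u₂, hu₂, hu⟩ := Submodule.mem_sup.mp
    (hc.sup_eq_top ▸ Submodule.mem_top : u ∈ W₁ ⊔ W₂)
  obtain ⟨v₁, hv₁, v₂, hv₂, hv⟩ := Submodule.mem_sup.mp
    (hc.sup_eq_top ▸ Submodule.mem_top : v ∈ W₁ ⊔ W₂)
  have hli : ∀ a b : F, a • u₁ + b • v₁ = 0 → a = 0 ∧ b = 0 := fun a b e => hind a b (hW2 a b (by
    rw [show a • u + b • v = (a • u₁ + b • v₁) + (a • u₂ + b • v₂) by rw [← hu, ← hv]; module, e,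
      zero_add]
    exact add_mem (W₂.smul_mem _ hu₂) (W₂.smul_mem _ hv₂)))
  have hspan : ∀ a ∈ W₁, ∃ s t : F, a = s • u₁ + t • v₁ := by
    intro a ha
    have hle : Submodule.span F (Set.range ![u₁, v₁]) ≤ W₁ := by
      rw [Submodule.span_le]
      rintro _ ⟨i, rfl⟩
      fin_cases i
      exacts [hu₁, hv₁]
    have heq := Submodule.eq_of_le_of_finrank_le hle (by
      rw [hd1, finrank_span_eq_card (LinearIndependent.pair_iff.mpr hli), Fintype.card_fin])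
    rw [← heq, Matrix.range_cons, Matrix.range_cons, Matrix.range_empty, Set.union_empty,
      Set.singleton_union, Submodule.mem_span_pair] at ha
    obtain ⟨s, t, e⟩ := ha
    exact ⟨s, t, e.symm⟩
  have hBu : ∀ a ∈ W₁, B u a = B u₂ a ∧ B v a = B v₂ a := fun a ha => by
    rw [← hu, ← hv]; simp [h1 u₁ hu₁ a ha, h1 v₁ hv₁ a ha]
  have hPs : ∀ s : F, OPair B (s • u) v := fun s =>
    ⟨by simp [h.1], h.2.1, by simp [h.2.2.1], by simp [h.2.2.2]⟩
  -- a parameter for which no vector of the first subspace is moved to the second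
  obtain ⟨t, htr, ht0, hdet⟩ : ∃ t : F, σ t = t ∧ t ≠ 0 ∧
      (1 + z * t * B v₂ u₁) * (1 + z * t * B u₂ v₁) - z * t * B v₂ v₁ * (z * t * B u₂ u₁) ≠ 0 := by
    by_contra hne
    push Not at hne
    have e1 := hne 1 (map_one σ) one_ne_zero
    have e2 := hne r hr hr0
    have e3 := hne (r * r) (by rw [map_mul, hr]) (mul_ne_zero hr0 hr0)
    set A := z * B v₂ u₁ + z * B u₂ v₁ with hA
    set C := z * z * (B v₂ u₁ * B u₂ v₁ - B v₂ v₁ * B u₂ u₁) with hC
    have f : ∀ t : F, (1 + z * t * B v₂ u₁) * (1 + z * t * B u₂ v₁) -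
        z * t * B v₂ v₁ * (z * t * B u₂ u₁) = 1 + A * t + C * (t * t) := fun t => by
      rw [hA, hC]; ring
    rw [f] at e1 e2 e3
    have hr' : r - 1 ≠ 0 := fun e => hr1 (by rw [sub_eq_zero.mp e, one_mul])
    have g1 : A + C * (r + 1) = 0 := (mul_eq_zero.mp (show (r - 1) * (A + C * (r + 1)) = 0 by
      linear_combination e2 - e1)).resolve_left hr'
    have g2 : A + C * (r * r + 1) = 0 := (mul_eq_zero.mp
      (show (r * r - 1) * (A + C * (r * r + 1)) = 0 by linear_combination e3 - e1)).resolve_left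
        (sub_ne_zero.mpr hr1)
    have g3 : C = 0 := (mul_eq_zero.mp (show (r * (r - 1)) * C = 0 by
      linear_combination g2 - g1)).resolve_left (mul_ne_zero hr0 hr')
    rw [g3, zero_mul, add_zero] at g1
    rw [g1, g3] at e1
    simp at e1
  set k := srP hz (hPs t) with hkdef
  have hk : k ∈ L := huv t (hPs t)
  have hkx : ∀ x, k x = x + (z * t * B v x) • u + (z * t * B u x) • v := fun x => by
    rw [hkdef, srP_apply, LinearMap.map_smulₛₗ, LinearMap.smul_apply, smul_eq_mul, htr, smul_smul]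
    module
  have hno : ∀ a ∈ W₁, k a ∈ W₂ → a = 0 := by
    intro a ha hka
    obtain ⟨x, y, rfl⟩ := hspan a ha
    rw [hkx] at hka
    obtain ⟨e1, e2⟩ := hBu _ ha
    rw [e1, e2] at hka
    set X := z * t * B v₂ (x • u₁ + y • v₁) with hX
    set Y := z * t * B u₂ (x • u₁ + y • v₁) with hY
    have hm : (x + X) • u₁ + (y + Y) • v₁ ∈ W₁ ⊓ W₂ := by
      refine ⟨add_mem (W₁.smul_mem _ hu₁) (W₁.smul_mem _ hv₁), ?_⟩
      rw [show (x + X) • u₁ + (y + Y) • v₁ =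
        (x • u₁ + y • v₁ + X • u + Y • v) - (X • u₂ + Y • v₂) by rw [← hu, ← hv]; module]
      exact sub_mem hka (add_mem (W₂.smul_mem _ hu₂) (W₂.smul_mem _ hv₂))
    rw [hc.inf_eq_bot, Submodule.mem_bot] at hm
    obtain ⟨f1, f2⟩ := hli _ _ hm
    simp only [hX, hY, map_add, map_smul, smul_eq_mul] at f1 f2
    have gx : x = 0 := (mul_eq_zero.mp (show x * ((1 + z * t * B v₂ u₁) * (1 + z * t * B u₂ v₁) -
        z * t * B v₂ v₁ * (z * t * B u₂ u₁)) = 0 by
      linear_combination (1 + z * t * B u₂ v₁) * f1 - (z * t * B v₂ v₁) * f2)).resolve_right hdet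
    have gy : y = 0 := (mul_eq_zero.mp (show y * ((1 + z * t * B v₂ u₁) * (1 + z * t * B u₂ v₁) -
        z * t * B v₂ v₁ * (z * t * B u₂ u₁)) = 0 by
      linear_combination (1 + z * t * B v₂ u₁) * f2 - (z * t * B u₂ u₁) * f1)).resolve_right hdet
    rw [gx, gy, zero_smul, zero_smul, add_zero]
  -- an isotropic point of the pulled back form
  let P₁ : V →ₗ[F] V := W₁.subtype.comp (W₁.projectionOnto W₂ hc)
  have hP1 : ∀ x, P₁ x ∈ W₁ := fun x => (W₁.projectionOnto W₂ hc x).2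
  have hP2 : ∀ x, x - P₁ x ∈ W₂ := fun x => by
    obtain ⟨a, ha, b, hb, rfl⟩ := Submodule.mem_sup.mp
      (hc.sup_eq_top ▸ Submodule.mem_top : x ∈ W₁ ⊔ W₂)
    have e : P₁ (a + b) = a := by
      simp only [P₁, LinearMap.comp_apply, map_add, Submodule.coe_subtype,
        Submodule.projectionOnto_apply_left hc ⟨a, ha⟩, Submodule.projectionOnto_apply_right hc ⟨b, hb⟩,
        Submodule.coe_zero, add_zero]
    rw [e, add_sub_cancel_left]; exact hb
  let C : W₂ →ₛₗ[σ] W₂ →ₗ[F] F :=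
    LinearMap.mk₂'ₛₗ σ (RingHom.id F)
      (fun x y => z * B (P₁ (k⁻¹ (x : V))) (k⁻¹ (y : V) - P₁ (k⁻¹ (y : V))))
      (fun a b y => by simp only [Submodule.coe_add, map_add, LinearMap.add_apply]; ring)
      (fun e a y => by simp [mul_left_comm])
      (fun a b y => by simp only [Submodule.coe_add, map_add, add_sub_add_comm]; ring)
      (fun e a y => by simp [← smul_sub, mul_left_comm])
  have hki : k⁻¹ ∈ iso B := hL (L.inv_mem hk)
  have hCs : C.IsSymm := ⟨fun x y => by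
    show σ (z * B _ _) = z * B _ _
    have e := hki (y : V) (x : V)
    rw [h2 _ y.2 _ x.2] at e
    nth_rw 1 [← add_sub_cancel (P₁ (k⁻¹ (y : V))) (k⁻¹ (y : V))] at e
    nth_rw 1 [← add_sub_cancel (P₁ (k⁻¹ (x : V))) (k⁻¹ (x : V))] at e
    simp only [map_add, LinearMap.add_apply, h1 _ (hP1 (k⁻¹ (y : V))) _ (hP1 _),
      h2 _ (hP2 (k⁻¹ (y : V))) _ (hP2 _), zero_add, add_zero] at e
    rw [map_mul, hS.eq, eq_neg_of_add_eq_zero_right hz]
    linear_combination (-z) * e⟩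
  obtain ⟨⟨y, hyW⟩, -, hy0, hyC⟩ := exists_iso_ne_zero hσ hσ2 hCs ⊤ (by rw [finrank_top, hd2])
  have hy0' : y ≠ 0 := fun e => hy0 (Subtype.ext e)
  set w := k⁻¹ y with hwdef
  have hkw : k w = y := by rw [hwdef, ← LinearEquiv.mul_apply, mul_inv_cancel]; rfl
  have hw12 : B (P₁ w) (w - P₁ w) = 0 := (mul_eq_zero.mp hyC).resolve_left hz0
  refine ⟨P₁ w, hP1 w, w - P₁ w, hP2 w, ⟨h1 _ (hP1 w) _ (hP1 w), h2 _ (hP2 w) _ (hP2 w), hw12,
    hS.isRefl _ _ hw12⟩, k, hk, fun e => ?_, fun e => ?_, by rw [add_sub_cancel, hkw]; exact hyW⟩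
  · -- the point would be fixed
    have hwW : w ∈ W₂ := by simpa [e] using hP2 w
    have hm : (z * t * B v w) • u₁ + (z * t * B u w) • v₁ ∈ W₁ ⊓ W₂ := by
      refine ⟨add_mem (W₁.smul_mem _ hu₁) (W₁.smul_mem _ hv₁), ?_⟩
      rw [show (z * t * B v w) • u₁ + (z * t * B u w) • v₁ = (w + (z * t * B v w) • u +
        (z * t * B u w) • v) - (w + (z * t * B v w) • u₂ + (z * t * B u w) • v₂) by
          rw [← hu, ← hv]; module, ← hkx, hkw]
      exact sub_mem hyW (add_mem (add_mem hwW (W₂.smul_mem _ hu₂)) (W₂.smul_mem _ hv₂))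
    rw [hc.inf_eq_bot, Submodule.mem_bot] at hm
    obtain ⟨f1, f2⟩ := hli _ _ hm
    have hvw : B v₁ w = 0 := by
      have := (mul_eq_zero.mp f1).resolve_left (mul_ne_zero hz0 ht0)
      rwa [← hv, map_add, LinearMap.add_apply, h2 v₂ hv₂ w hwW, add_zero] at this
    have huw : B u₁ w = 0 := by
      have := (mul_eq_zero.mp f2).resolve_left (mul_ne_zero hz0 ht0)
      rwa [← hu, map_add, LinearMap.add_apply, h2 u₂ hu₂ w hwW, add_zero] at this
    have hw0 := pairing hS hB hc h2 hwW fun a ha => by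
      obtain ⟨x, x', rfl⟩ := hspan a ha
      simp [huw, hvw]
    exact hy0' (by rw [← hkw, hw0, map_zero])
  · have hwW : w ∈ W₁ := by rw [sub_eq_zero] at e; rw [e]; exact hP1 w
    exact hy0' (by rw [← hkw, hno w hwW (by rw [hkw]; exact hyW), map_zero])

omit [Finite F] in
/-- A singular plane of vectors with perpendicular components is one of the subspaces or meets both. -/
theorem plane_class [FiniteDimensional F V] {lam : F} (hlam : σ lam ≠ lam) (hS : B.IsSymm)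
    (hB : B.Nondegenerate) (hc : IsCompl W₁ W₂) (h2 : ∀ x ∈ W₂, ∀ y ∈ W₂, B x y = 0)
    (h1 : ∀ x ∈ W₁, ∀ y ∈ W₁, B x y = 0) (hd1 : finrank F W₁ = 2) (hd2 : finrank F W₂ = 2)
    {T : Submodule F V} (hT : finrank F T = 2)
    (hperp : ∀ a ∈ W₁, ∀ b ∈ W₂, a + b ∈ T → B a b = 0) :
    T = W₁ ∨ T = W₂ ∨ ∃ p ∈ W₁, ∃ y ∈ W₂, p ≠ 0 ∧ y ≠ 0 ∧ p ∈ T ∧ y ∈ T := by
  by_cases hT1 : ∀ a ∈ W₁, ∀ b ∈ W₂, a + b ∈ T → b = 0
  · refine Or.inl (Submodule.eq_of_le_of_finrank_le (fun x hx => ?_) (by rw [hT, hd1]))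
    obtain ⟨a, ha, b, hb, rfl⟩ := Submodule.mem_sup.mp
      (hc.sup_eq_top ▸ Submodule.mem_top : x ∈ W₁ ⊔ W₂)
    rw [hT1 a ha b hb hx, add_zero]; exact ha
  by_cases hT2 : ∀ a ∈ W₁, ∀ b ∈ W₂, a + b ∈ T → a = 0
  · refine Or.inr (Or.inl (Submodule.eq_of_le_of_finrank_le (fun x hx => ?_) (by rw [hT, hd2])))
    obtain ⟨a, ha, b, hb, rfl⟩ := Submodule.mem_sup.mp
      (hc.sup_eq_top ▸ Submodule.mem_top : x ∈ W₁ ⊔ W₂)
    rw [hT2 a ha b hb hx, zero_add]; exact hb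
  push Not at hT1 hT2
  obtain ⟨a', ha', b₀, hb₀, hb₀T, hb0⟩ := hT1
  obtain ⟨a₀, ha₀, b', hb', ha₀T, ha0⟩ := hT2
  -- cross terms vanish
  have cross : ∀ a ∈ W₁, ∀ b ∈ W₂, a + b ∈ T → ∀ c ∈ W₁, ∀ d ∈ W₂, c + d ∈ T → B a d = 0 := by
    intro a ha b hb hab c hc' d hd hcd
    have e1 := hperp a ha b hb hab
    have e2 := hperp c hc' d hd hcd
    have key : ∀ s : F, σ s * B c b + s * B a d + s * σ s * B c d = 0 := fun s => by
      have := hperp (a + s • c) (add_mem ha (W₁.smul_mem _ hc')) (b + s • d)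
        (add_mem hb (W₂.smul_mem _ hd)) (by
          rw [show a + s • c + (b + s • d) = (a + b) + s • (c + d) by module]
          exact add_mem hab (T.smul_mem _ hcd))
      simp [e1, e2] at this ⊢
      linear_combination this
    have k1 := key 1
    have k2 := key lam
    rw [map_one, e2] at k1
    rw [e2] at k2
    refine (mul_eq_zero.mp ?_).resolve_left (sub_ne_zero.mpr hlam)
    linear_combination σ lam * k1 - k2
  -- a vector of the plane in each subspace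
  obtain ⟨p, hpW, hp0, hpT⟩ : ∃ p ∈ W₁, p ≠ 0 ∧ p ∈ T := by
    by_contra hno
    push Not at hno
    -- the second projection would be onto
    have hmap : T.map (W₂.subtype.comp (W₂.projectionOnto W₁ hc.symm)) = W₂ := by
      refine Submodule.eq_of_le_of_finrank_le ?_ ?_
      · rintro _ ⟨x, -, rfl⟩; exact (W₂.projectionOnto W₁ hc.symm x).2
      · rw [hd2, ← hT]
        refine le_of_eq (LinearEquiv.finrank_eq (LinearEquiv.ofInjective
          ((W₂.subtype.comp (W₂.projectionOnto W₁ hc.symm)).domRestrict T) ?_ |>.trans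
          (LinearEquiv.ofEq _ _ ?_)))
        · rw [injective_iff_map_eq_zero]
          rintro ⟨x, hx⟩ e
          obtain ⟨a, ha, b, hb, rfl⟩ := Submodule.mem_sup.mp
            (hc.sup_eq_top ▸ Submodule.mem_top : x ∈ W₁ ⊔ W₂)
          simp only [LinearMap.domRestrict_apply, LinearMap.comp_apply, map_add, Submodule.coe_subtype,
            Submodule.projectionOnto_apply_left hc.symm ⟨b, hb⟩,
            Submodule.projectionOnto_apply_right hc.symm ⟨a, ha⟩, Submodule.coe_zero, zero_add,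
            Submodule.coe_add] at e
          subst e
          rw [add_zero] at hx
          by_cases ha'' : a = 0
          · exact Subtype.ext (by simp [ha''])
          · exact absurd hx (hno a ha ha'')
        · rw [LinearMap.range_domRestrict]
    refine ha0 (pairing hS hB hc.symm h1 ha₀ fun d hd => hS.isRefl _ _ ?_)
    rw [← hmap] at hd
    obtain ⟨x, hx, rfl⟩ := hd
    obtain ⟨a, ha, b, hb, rfl⟩ := Submodule.mem_sup.mp
      (hc.sup_eq_top ▸ Submodule.mem_top : x ∈ W₁ ⊔ W₂)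
    simp only [LinearMap.comp_apply, map_add, Submodule.coe_subtype,
      Submodule.projectionOnto_apply_left hc.symm ⟨b, hb⟩,
      Submodule.projectionOnto_apply_right hc.symm ⟨a, ha⟩, Submodule.coe_zero, zero_add]
    exact cross a₀ ha₀ b' hb' ha₀T a ha b hb hx
  -- the second component of another vector
  refine Or.inr (Or.inr ⟨p, hpW, b₀, hb₀, hp0, hb0, hpT, ?_⟩)
  by_contra hb₀n
  have ha'n : ∀ s : F, a' ≠ s • p := fun s e => hb₀n (by
    have := sub_mem hb₀T (T.smul_mem s hpT)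
    rwa [e, add_sub_cancel_left] at this)
  have hle : Submodule.span F (Set.range ![p, a']) ≤ W₁ := by
    rw [Submodule.span_le]
    rintro _ ⟨i, rfl⟩
    fin_cases i
    exacts [hpW, ha']
  have hli : LinearIndependent F ![p, a'] :=
    (LinearIndependent.pair_iff' hp0).mpr fun s e => ha'n s e.symm
  have heq := Submodule.eq_of_le_of_finrank_le hle (by
    rw [hd1, finrank_span_eq_card hli, Fintype.card_fin])
  refine hb0 (pairing hS hB hc h2 hb₀ fun c hc' => ?_)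
  rw [← heq, Matrix.range_cons, Matrix.range_cons, Matrix.range_empty, Set.union_empty,
    Set.singleton_union, Submodule.mem_span_pair] at hc'
  obtain ⟨s, t, rfl⟩ := hc'
  have e1 := cross p hpW 0 W₂.zero_mem (by rw [add_zero]; exact hpT) a' ha' b₀ hb₀ hb₀T
  have e2 := hperp a' ha' b₀ hb₀ hb₀T
  simp [e1, e2]

end Cfsg.Lib.Linear.SUFour.Pair
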