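import Cfsg.Agent.Lib.Linear.SUFour.PairBase

/-!
# Maximality of the stabiliser of two complementary singular planes in `SU_4(q)`
-/

set_option autoImplicit false

namespace Cfsg.Lib.Linear.SUFour.Pair

open Cfsg Module Cfsg.Lib.Linear Cfsg.Lib.Linear.Herm Cfsg.Agent.S5657
open scoped Matrix

variable {F V : Type*} [Field F] [Finite F] [AddCommGroup V] [Module F V] {σ : F →+* F}
  {B : V →ₛₗ[σ] V →ₗ[F] F} {z : F} {W₁ W₂ : Submodule F V}

omit [Finite F] in
/-- Components with respect to complementary subspaces are unique. -/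
theorem comp_eq (hc : IsCompl W₁ W₂) {a b a' b' : V} (ha : a ∈ W₁) (hb : b ∈ W₂) (ha' : a' ∈ W₁)
    (hb' : b' ∈ W₂) (h : a + b = a' + b') : a = a' ∧ b = b' := by
  have hm : a - a' ∈ W₁ ⊓ W₂ := ⟨sub_mem ha ha', by
    rw [show a - a' = (a + b) - b - a' by abel, h, show a' + b' - b - a' = b' - b by abel]
    exact sub_mem hb' hb⟩
  rw [hc.inf_eq_bot, Submodule.mem_bot, sub_eq_zero] at hm
  subst hm
  exact ⟨rfl, add_left_cancel h⟩

omit [Finite F] in
/-- A plane meeting both subspaces in the basis it gets from them. -/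
theorem change_basis (hc : IsCompl W₁ W₂) {u v p y : V} {l m l' m' : F} (hp : p ∈ W₁) (hy : y ∈ W₂)
    (hp0 : p ≠ 0) (hy0 : y ≠ 0) (hpe : p = l • u + m • v) (hye : y = l' • u + m' • v) :
    l * m' - m * l' ≠ 0 ∧ u = (m' / (l * m' - m * l')) • p + (-m / (l * m' - m * l')) • y ∧
      v = (-l' / (l * m' - m * l')) • p + (l / (l * m' - m * l')) • y := by
  have hD : l * m' - m * l' ≠ 0 := by
    intro hD
    have e1 : m' • p + (-m) • y = 0 + 0 := by
      rw [hpe, hye, add_zero, ← zero_smul F u, ← hD]; module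
    obtain ⟨f1, f2⟩ := comp_eq hc (W₁.smul_mem _ hp) (W₂.smul_mem _ hy) W₁.zero_mem W₂.zero_mem e1
    have g1 : m' = 0 := (smul_eq_zero.mp f1).resolve_right hp0
    have g2 : m = 0 := neg_eq_zero.mp ((smul_eq_zero.mp f2).resolve_right hy0)
    subst g1 g2
    rw [zero_smul, add_zero] at hpe hye
    have e2 : l' • p + (-l) • y = 0 + 0 := by rw [hpe, hye, add_zero]; module
    obtain ⟨-, f4⟩ := comp_eq hc (W₁.smul_mem _ hp) (W₂.smul_mem _ hy) W₁.zero_mem W₂.zero_mem e2
    have g4 : l = 0 := neg_eq_zero.mp ((smul_eq_zero.mp f4).resolve_right hy0)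
    exact hp0 (by rw [hpe, g4, zero_smul])
  have hu : (l * m' - m * l') • u = m' • p + (-m) • y := by rw [hpe, hye]; module
  have hv : (l * m' - m * l') • v = (-l') • p + l • y := by rw [hpe, hye]; module
  refine ⟨hD, ?_, ?_⟩
  · rw [eq_inv_smul_iff₀ hD |>.mpr hu, smul_add, smul_smul, smul_smul, inv_mul_eq_div, inv_mul_eq_div]
  · rw [eq_inv_smul_iff₀ hD |>.mpr hv, smul_add, smul_smul, smul_smul, inv_mul_eq_div, inv_mul_eq_div]

/-- If no vector of the two subspaces is a centre, planes of pairs meet both of them. -/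
theorem split_plane [FiniteDimensional F V] (hσ : σ ≠ RingHom.id F) (hσ2 : ∀ a, σ (σ a) = a)
    (hS : B.IsSymm) (hB : B.Nondegenerate) (hc : IsCompl W₁ W₂)
    (h1 : ∀ x ∈ W₁, ∀ y ∈ W₁, B x y = 0) (h2 : ∀ x ∈ W₂, ∀ y ∈ W₂, B x y = 0)
    (hd1 : finrank F W₁ = 2) (hd2 : finrank F W₂ = 2)
    (hz : z + σ z = 0) (hz0 : z ≠ 0) {L : Subgroup (V ≃ₗ[F] V)} (hL : L ≤ iso B)
    (hsr : ∀ a ∈ W₁, ∀ b ∈ W₂, ∀ h : OPair B a b, srP hz h ∈ L)
    (hsr' : ∀ a ∈ W₂, ∀ b ∈ W₁, ∀ h : OPair B a b, srP hz h ∈ L)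
    {r : F} (hr : σ r = r) (hr0 : r ≠ 0) (hr1 : r * r ≠ 1)
    (hdil : ∀ p ∈ W₁, ∀ y ∈ W₂, y ≠ 0 → B p y = 0 → ∃ n ∈ L, n p = p ∧ n y = r⁻¹ • y)
    (hno1 : ∀ x ∈ W₁, x ≠ 0 → ¬ Centre B L x) (hno2 : ∀ x ∈ W₂, x ≠ 0 → ¬ Centre B L x)
    {u v : V} (h : OPair B u v) (huv : ∀ (s : F) (h : OPair B (s • u) v), srP hz h ∈ L)
    (hind : ∀ a b : F, a • u + b • v = 0 → a = 0 ∧ b = 0) :
    ∃ p ∈ W₁, ∃ y ∈ W₂, p ≠ 0 ∧ y ≠ 0 ∧ B p y = 0 ∧
      ∃ α β γ δ : F, u = α • p + β • y ∧ v = γ • p + δ • y := by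
  by_cases hW1 : ∀ a b : F, a • u + b • v ∈ W₁ → a • u + b • v = 0
  · exfalso
    by_cases hW2 : ∀ a b : F, a • u + b • v ∈ W₂ → a • u + b • v = 0
    · obtain ⟨w₁, hw₁, w₂, hw₂, hw, k, hk, hw10, hw20, hkw⟩ := exists_moved hσ hσ2 hS hB hc h1 h2
        hd1 hd2 hz hz0 hL hsr hr hr0 hr1 huv h hind hW1 hW2
      have hki := hL hk
      have hP : OPair B (k w₁) (k w₂) :=
        ⟨by rw [hki, hw.1], by rw [hki, hw.2.1], by rw [hki, hw.2.2.1], by rw [hki, hw.2.2.2]⟩
      have hkuv : ∀ (s : F) (h : OPair B (s • k w₁) (k w₂)), srP hz h ∈ L := by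
        intro s h
        have hP' : OPair B (s • w₁) w₂ :=
          ⟨by simp [hw.1], hw.2.1, by simp [hw.2.2.1], by simp [hw.2.2.2]⟩
        have := L.mul_mem (L.mul_mem hk (hsr _ (W₁.smul_mem s hw₁) w₂ hw₂ hP')) (L.inv_mem hk)
        rw [srP_conj hz hki hP' (by rw [map_smul]; exact h)] at this
        convert this using 1
        congr 1
        rw [map_smul]
      have hkind : ∀ a b : F, a • k w₁ + b • k w₂ = 0 → a = 0 ∧ b = 0 := by
        intro a b e
        have e' : a • w₁ + b • w₂ = 0 + 0 := k.injective (by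
          rw [map_add, map_smul, map_smul, e, add_zero, map_zero])
        obtain ⟨f1, f2⟩ := comp_eq hc (W₁.smul_mem _ hw₁) (W₂.smul_mem _ hw₂) W₁.zero_mem W₂.zero_mem e'
        exact ⟨(smul_eq_zero.mp f1).resolve_right hw10, (smul_eq_zero.mp f2).resolve_right hw20⟩
      set y := k (w₁ + w₂) with hydef
      have hye : y = (1 : F) • k w₁ + (1 : F) • k w₂ := by rw [hydef, map_add, one_smul, one_smul]
      have hy0 : y ≠ 0 := fun e => one_ne_zero (hkind 1 1 (by rw [← hye, e])).1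
      by_cases hW : ∀ a b : F, a • k w₁ + b • k w₂ ∈ W₁ → a • k w₁ + b • k w₂ = 0
      · obtain ⟨x, hx, hx0, hC⟩ := long_meet hσ hσ2 hS hB hc h1 h2 hz hz0 hsr hkuv hP hkind hW
          (hye ▸ hkw) (hye ▸ hy0)
        exact hno2 x hx hx0 hC
      · push Not at hW
        obtain ⟨l, m, hpW, hp0⟩ := hW
        obtain ⟨hD, hu, hv⟩ := change_basis hc hpW hkw hp0 hy0 rfl hye
        have hpy : B (l • k w₁ + m • k w₂) y = 0 := perp_of_comb hP rfl hye
        rcases long_split hσ hσ2 hz hz0 hL h1 h2 hsr hr hr0 hr1 hpW hkw hp0 hy0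
          ⟨h1 _ hpW _ hpW, h2 _ hkw _ hkw, hpy, hS.isRefl _ _ hpy⟩
          (hdil _ hpW y hkw hy0 hpy) hu hv
          (mul_ne_zero (div_ne_zero one_ne_zero hD) (div_ne_zero (neg_ne_zero.mpr one_ne_zero) hD))
          hkuv with ⟨x, hx, hx0, hC⟩ | ⟨x, hx, hx0, hC⟩
        · exact hno1 x hx hx0 hC
        · exact hno2 x hx hx0 hC
    · push Not at hW2
      obtain ⟨a, b, hy, hy0⟩ := hW2
      obtain ⟨x, hx, hx0, hC⟩ := long_meet hσ hσ2 hS hB hc h1 h2 hz hz0 hsr huv h hind hW1 hy hy0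
      exact hno2 x hx hx0 hC
  · push Not at hW1
    obtain ⟨l, m, hp, hp0⟩ := hW1
    by_cases hW2 : ∀ a b : F, a • u + b • v ∈ W₂ → a • u + b • v = 0
    · exfalso
      obtain ⟨x, hx, hx0, hC⟩ := long_meet hσ hσ2 hS hB hc.symm h2 h1 hz hz0 hsr' huv h hind hW2 hp hp0
      exact hno1 x hx hx0 hC
    · push Not at hW2
      obtain ⟨l', m', hy, hy0⟩ := hW2
      obtain ⟨-, hu, hv⟩ := change_basis hc hp hy hp0 hy0 rfl rfl
      exact ⟨_, hp, _, hy, hp0, hy0, perp_of_comb h rfl rfl, _, _, _, _, hu, hv⟩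

omit [Finite F] in
/-- A fixed scalar of square different from one. -/
theorem exists_real {F : Type*} [Field F] [Fintype F] {q : ℕ} (hF : Fintype.card F = q ^ 2)
    (hq : 4 ≤ q) : ∃ r : F, frob hF r = r ∧ r ≠ 0 ∧ r * r ≠ 1 := by
  classical
  obtain ⟨g, hg⟩ := IsCyclic.exists_ofOrder_eq_natCard (α := Fˣ)
  rw [Nat.card_eq_fintype_card, Fintype.card_units, hF] at hg
  have hsq : (q + 1) * q = (q + 1) + (q ^ 2 - 1) := by
    have : 1 ≤ q ^ 2 := Nat.one_le_pow _ _ (by omega)
    have : (q + 1) * q = q ^ 2 + q := by ring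
    omega
  refine ⟨((g ^ (q + 1) : Fˣ) : F), ?_, Units.ne_zero _, fun h => ?_⟩
  · rw [frob_apply, ← Units.val_pow_eq_pow_val, ← pow_mul, hsq, pow_add, ← hg, pow_orderOf_eq_one,
      mul_one]
  · have h1 : g ^ ((q + 1) + (q + 1)) = 1 := Units.ext (by rw [pow_add, Units.val_mul, Units.val_one]; exact h)
    have h2 := Nat.le_of_dvd (by omega) (orderOf_dvd_of_pow_eq_one h1)
    rw [hg] at h2
    have : 4 * q ≤ q ^ 2 := by rw [pow_two]; exact Nat.mul_le_mul_right q hq
    omega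

/-- The stabiliser of two complementary singular planes is maximal. -/
theorem pair_maximal {F : Type*} [Field F] [Fintype F] {q : ℕ} (hF : Fintype.card F = q ^ 2)
    (hq : 4 ≤ q) (D : Fin 2 → Submodule F (Fin 4 → F)) (hD : Cfsg.Geo.IsMDecomposition 2 D)
    (hts : ∀ i, Cfsg.Geo.IsTotallySingularFor (Cfsg.hermForm 4 F q) (D i)) :
    Cfsg.Geo.IsMaximalIn (Cfsg.GU 4 F q ⊓ Cfsg.Geo.specialLinear (Fin 4) F)
      (Cfsg.Geo.decompositionStabilizer D ⊓ (Cfsg.GU 4 F q ⊓ Cfsg.Geo.specialLinear (Fin 4) F)) := by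
  classical
  set B := hB hF 4 with hBdef
  have hσ := frob_ne_id hF
  have hσ2 := frob_frob hF
  have hS : B.IsSymm := hB_isSymm hF 4
  have hB' : B.Nondegenerate := hB_nondegenerate hF 4
  obtain ⟨z, hz0, hz⟩ := exists_trace_zero hσ hσ2
  obtain ⟨r, hr, hr0, hr1⟩ := exists_real hF hq
  have hfin := hD.finrank_eq
  have hsing : ∀ i, ∀ x ∈ D i, ∀ y ∈ D i, B x y = 0 := fun i x hx y hy => hts i y hy x hx
  have hc : ∀ i : Fin 2, IsCompl (D i) (D (Equiv.swap 0 1 i)) := by
    have h01 : IsCompl (D 0) (D 1) := by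
      refine ⟨hD.indep.pairwiseDisjoint (by decide : (0 : Fin 2) ≠ 1), ?_⟩
      rw [codisjoint_iff, eq_top_iff, ← hD.iSup_eq_top, iSup_le_iff, Fin.forall_fin_two]
      exact ⟨le_sup_left, le_sup_right⟩
    rw [Fin.forall_fin_two]
    exact ⟨by simpa using h01, by simpa using h01.symm⟩
  let e : GL (Fin 4) F ≃* ((Fin 4 → F) ≃ₗ[F] (Fin 4 → F)) := toEquiv
  have hsp : ∀ g, g ∈ Cfsg.GU 4 F q ⊓ Cfsg.Geo.specialLinear (Fin 4) F ↔ e g ∈ tvGroup B := by
    intro g
    rw [mem_tvGroup_iff hσ hσ2 hS hB' (Or.inl (by rw [Module.finrank_fin_fun])),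
      Subgroup.mem_inf]
    refine and_congr ⟨fun h u v => h v u, fun h u v => h v u⟩ ?_
    have hd : (LinearEquiv.det (e g) : F) = (Matrix.GeneralLinearGroup.det g : F) := by
      rw [LinearEquiv.coe_det, show ((e g : (Fin 4 → F) ≃ₗ[F] (Fin 4 → F)) : (Fin 4 → F) →ₗ[F] (Fin 4 → F)) =
          Matrix.toLin' (g : Matrix (Fin 4) (Fin 4) F) from LinearMap.ext fun x => rfl,
        LinearMap.det_toLin']
      rfl
    constructor
    · intro h
      exact Units.ext (hd.trans (congrArg Units.val (MonoidHom.mem_ker.mp h)))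
    · intro h
      exact MonoidHom.mem_ker.mpr (Units.ext (hd.symm.trans (congrArg Units.val h)))
  set N := Cfsg.Geo.decompositionStabilizer D ⊓ (Cfsg.GU 4 F q ⊓ Cfsg.Geo.specialLinear (Fin 4) F)
  have hmemN : ∀ g : GL (Fin 4) F, e g ∈ tvGroup B → ∀ σ : Equiv.Perm (Fin 2),
      (∀ i, ∀ x ∈ D i, e g x ∈ D (σ i)) → g ∈ N := by
    intro g hg σ hσ
    refine Subgroup.mem_inf.mpr ⟨⟨σ, fun i => ?_⟩, (hsp g).mpr hg⟩
    refine Submodule.eq_of_le_of_finrank_le ?_ (le_of_eq ?_)
    · rintro _ ⟨x, hx, rfl⟩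
      exact hσ i x hx
    · rw [hfin, show Matrix.toLin' (g : Matrix _ _ F) = (e g).toLinearMap from
        LinearMap.ext fun x => rfl, LinearEquiv.finrank_map_eq, hfin]
  refine ⟨lt_of_le_of_ne inf_le_right fun heq => ?_, fun L hNL hLG => ?_⟩
  · have h01 := hc 0
    rw [Equiv.swap_apply_left] at h01
    obtain ⟨b, hb, hb0⟩ := Submodule.exists_mem_ne_zero_of_ne_bot
      (fun he : D 1 = ⊥ => by have := hfin 1; rw [he, finrank_bot] at this; omega)
    obtain ⟨x, hx, hxb⟩ : ∃ x ∈ D 0, B x b ≠ 0 := by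
      by_contra h; push Not at h; exact hb0 (pairing hS hB' h01 (hsing 1) hb h)
    have hbx : B b x ≠ 0 := fun e => hxb (hS.isRefl _ _ e)
    let t := qrefl b z (tv_cond (B := B) (hsing 1 b hb b hb) hz)
    have hmem : e.symm t ∈ N := by
      rw [heq, hsp, MulEquiv.apply_symm_apply]
      exact Subgroup.subset_closure ⟨_, _, _, hsing 1 b hb b hb, rfl⟩
    obtain ⟨σ', hσ'⟩ := hmem.1
    have h1 : e (e.symm t) x ∈ D (σ' 0) := by rw [← hσ' 0]; exact ⟨x, hx, rfl⟩
    rw [MulEquiv.apply_symm_apply, qrefl_apply] at h1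
    have hsm : (z * B b x) • b ∈ D 1 := (D 1).smul_mem _ hb
    rcases Fin.exists_fin_two.mp ⟨σ' 0, rfl⟩ with hσ0 | hσ0 <;> rw [hσ0] at h1
    · have : (z * B b x) • b ∈ D 0 ⊓ D 1 := ⟨by simpa using sub_mem h1 hx, hsm⟩
      rw [h01.inf_eq_bot, Submodule.mem_bot, smul_eq_zero] at this
      exact this.elim (mul_ne_zero hz0 hbx) hb0
    · have : x ∈ D 0 ⊓ D 1 := ⟨hx, by simpa using sub_mem h1 hsm⟩
      rw [h01.inf_eq_bot, Submodule.mem_bot] at this
      exact hxb (by simp [this])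
  · by_cases hLN : L ≤ N
    · exact Or.inl (le_antisymm hLN hNL)
    right
    obtain ⟨g, hgL, hgN⟩ := SetLike.not_le_iff_exists.mp hLN
    let L' := L.map e.toMonoidHom
    have hLT : L' ≤ tvGroup B := by
      rintro _ ⟨h, hh, rfl⟩
      exact (hsp h).mp (hLG hh)
    have hL' : L' ≤ iso B := hLT.trans (tvGroup_le_iso hS)
    have hsub : ∀ x, e.symm x ∈ N → x ∈ L' := fun x hx => ⟨e.symm x, hNL hx, e.apply_symm_apply x⟩
    have hsr : ∀ i, ∀ a ∈ D i, ∀ b ∈ D (Equiv.swap 0 1 i), ∀ h : OPair B a b, srP hz h ∈ L' := by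
      intro i a ha b hb hab
      refine hsub _ (hmemN _ (by rw [MulEquiv.apply_symm_apply]; exact srP_mem_tv hz hab) 1 fun j x hx => ?_)
      rw [MulEquiv.apply_symm_apply, srP_apply, Equiv.Perm.one_apply]
      have hji : j = i ∨ j = Equiv.swap 0 1 i :=
        (by decide : ∀ i j : Fin 2, j = i ∨ j = Equiv.swap 0 1 i) i j
      rcases hji with rfl | rfl
      · rw [hsing j a ha x hx, mul_zero, zero_smul, add_zero]
        exact add_mem hx ((D j).smul_mem _ ha)
      · rw [hsing _ b hb x hx, mul_zero, zero_smul, add_zero]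
        exact add_mem hx ((D _).smul_mem _ hb)
    obtain ⟨s, hs, hs0, hs1⟩ := exists_swap hσ2 hS hB' (by simpa using hc 0 : IsCompl (D 0) (D 1))
      (hsing 0) (hsing 1) ((hfin 0).trans (hfin 1).symm) hz hz0
    have hsswap : ∀ i, ∀ x ∈ D i, s x ∈ D (Equiv.swap 0 1 i) := by
      rw [Fin.forall_fin_two]; exact ⟨by simpa using hs0, by simpa using hs1⟩
    have hsL : s ∈ L' := hsub s (hmemN _ (by rw [MulEquiv.apply_symm_apply]; exact hs) (Equiv.swap 0 1)
      fun i x hx => by rw [MulEquiv.apply_symm_apply]; exact hsswap i x hx)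
    -- a long root element with centre in one of the two subspaces
    obtain ⟨i, y, hy, hy0, hlong⟩ : ∃ i, ∃ y ∈ D i, y ≠ 0 ∧ Centre B L' y := by
      by_contra hno
      push Not at hno
      have h01 : IsCompl (D 0) (D 1) := by simpa using hc 0
      have hd : ∀ i, finrank F (D i) = 2 := hfin
      have hg' : e g ∈ L' := ⟨g, hgL, rfl⟩
      have hgi := hL' hg'
      have hdil : ∀ p ∈ D 0, ∀ y ∈ D 1, y ≠ 0 → B p y = 0 → ∃ n ∈ L', n p = p ∧ n y = r⁻¹ • y := by
        intro p hp y hy hy0 hpy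
        obtain ⟨a₀, ha₀, hay₀⟩ : ∃ a₀ ∈ D 0, B a₀ y ≠ 0 := by
          by_contra h; push Not at h; exact hy0 (pairing hS hB' h01 (hsing 1) hy h)
        obtain ⟨a, haD, hay⟩ : ∃ a ∈ D 0, B a y = 1 :=
          ⟨frob hF (B a₀ y)⁻¹ • a₀, (D 0).smul_mem _ ha₀, by simp [hσ2, inv_mul_cancel₀ hay₀]⟩
        have hya : B y a = 1 := by rw [← hS.eq, hay, map_one]
        obtain ⟨n, hn, hna, hny, hnx⟩ :=
          exists_dil hσ2 hS hz hz0 (hsing 0 a haD a haD) (hsing 1 y hy y hy) hay hr hr0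
        refine ⟨n, hsub n (hmemN _ (by rw [MulEquiv.apply_symm_apply]; exact hn) 1 fun j => ?_),
          hnx p (hsing 0 a haD p hp) (hS.isRefl _ _ hpy), hny⟩
        revert j
        rw [Fin.forall_fin_two]
        refine ⟨fun x hx => ?_, fun x hx => ?_⟩ <;> rw [MulEquiv.apply_symm_apply, Equiv.Perm.one_apply]
        · rw [← sub_add_cancel x ((B y x) • a), map_add, map_smul, hna,
            hnx _ (by simp [hsing 0 a haD x hx, hsing 0 a haD a haD]) (by simp [hya])]
          exact add_mem (sub_mem hx ((D 0).smul_mem _ haD)) ((D 0).smul_mem _ ((D 0).smul_mem _ haD))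
        · rw [← sub_add_cancel x ((B a x) • y), map_add, map_smul, hny,
            hnx _ (by simp [hay]) (by simp [hsing 1 y hy x hx, hsing 1 y hy y hy])]
          exact add_mem (sub_mem hx ((D 1).smul_mem _ hy)) ((D 1).smul_mem _ ((D 1).smul_mem _ hy))
      -- the image of every perpendicular pair spans a plane meeting both subspaces
      have split : ∀ i, ∀ a ∈ D i, a ≠ 0 → ∀ b ∈ D (Equiv.swap 0 1 i), b ≠ 0 → B a b = 0 →
          ∃ p ∈ D 0, ∃ y ∈ D 1, p ≠ 0 ∧ y ≠ 0 ∧ B p y = 0 ∧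
            ∃ α β γ δ : F, e g a = α • p + β • y ∧ e g b = γ • p + δ • y := by
        intro i a ha ha0 b hb hb0 hab
        refine split_plane hσ hσ2 hS hB' h01 (hsing 0) (hsing 1) (hd 0) (hd 1) hz hz0 hL'
          (by simpa using hsr 0) (by simpa using hsr 1) hr hr0 hr1 hdil
          (fun x hx hx0 hC => hno 0 x hx hx0 hC) (fun x hx hx0 hC => hno 1 x hx hx0 hC)
          (u := e g a) (v := e g b)
          ⟨by rw [hgi, hsing i a ha a ha], by rw [hgi, hsing _ b hb b hb], by rw [hgi, hab],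
            by rw [hgi, hS.isRefl _ _ hab]⟩ (fun s h => ?_) (fun c d h => ?_)
        · have hP' : OPair B (s • a) b := ⟨by simp [hsing i a ha a ha], hsing _ b hb b hb,
            by simp [hab], by simp [hS.isRefl _ _ hab]⟩
          have := L'.mul_mem (L'.mul_mem hg' (hsr i _ ((D i).smul_mem s ha) b hb hP'))
            (L'.inv_mem hg')
          rw [srP_conj hz hgi hP' (by rw [map_smul]; exact h)] at this
          convert this using 1
          congr 1
          rw [map_smul]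
        · have h0 : c • a + d • b = 0 :=
            (e g).injective (by rw [map_add, map_smul, map_smul, h, map_zero])
          have hm : c • a ∈ D i ⊓ D (Equiv.swap 0 1 i) := ⟨(D i).smul_mem _ ha, by
            rw [eq_neg_of_add_eq_zero_left h0]; exact neg_mem ((D _).smul_mem _ hb)⟩
          rw [(hc i).inf_eq_bot, Submodule.mem_bot] at hm
          rw [hm, zero_add] at h0
          exact ⟨(smul_eq_zero.mp hm).resolve_right ha0, (smul_eq_zero.mp h0).resolve_right hb0⟩
      have mate : ∀ i, ∀ x ∈ D i, ∃ b ∈ D (Equiv.swap 0 1 i), b ≠ 0 ∧ B x b = 0 := by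
        intro i x _
        have h1 := LinearMap.finrank_range_add_finrank_ker ((B x).comp (D (Equiv.swap 0 1 i)).subtype)
        have h2 := Submodule.finrank_le (LinearMap.range ((B x).comp (D (Equiv.swap 0 1 i)).subtype))
        rw [Module.finrank_self] at h2
        rw [hd] at h1
        obtain ⟨⟨b, hb⟩, hb', hb0⟩ := Submodule.exists_mem_ne_zero_of_ne_bot
          (fun he : LinearMap.ker ((B x).comp (D (Equiv.swap 0 1 i)).subtype) = ⊥ => by
            rw [he, finrank_bot] at h1; omega)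
        exact ⟨b, hb, fun h => hb0 (Subtype.ext h), hb'⟩
      have hone : ∀ i, ∃ j, ∀ x ∈ D i, e g x ∈ D j := by
        intro i
        obtain ⟨lam, hlam⟩ : ∃ lam, frob hF lam ≠ lam := by
          by_contra h; push Not at h; exact hσ (RingHom.ext h)
        rcases plane_class hlam hS hB' h01 (hsing 1) (hsing 0) (hd 0) (hd 1)
          (T := (D i).map (e g).toLinearMap) (by rw [LinearEquiv.finrank_map_eq, hd])
          (fun c hc' d hd' hcd => by
            obtain ⟨x, hx, hxe⟩ := hcd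
            replace hxe : e g x = c + d := hxe
            rcases eq_or_ne x 0 with rfl | hx0
            · rw [map_zero] at hxe
              have hm : c ∈ D 0 ⊓ D 1 :=
                ⟨hc', by rw [eq_neg_of_add_eq_zero_left hxe.symm]; exact neg_mem hd'⟩
              rw [h01.inf_eq_bot, Submodule.mem_bot] at hm
              rw [hm, map_zero, LinearMap.zero_apply]
            obtain ⟨b, hb, hb0, hxb⟩ := mate i x hx
            obtain ⟨p, hp, y, hy, -, -, hpy, α, β, γ, δ, he, -⟩ := split i x hx hx0 b hb hb0 hxb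
            obtain ⟨e1, e2⟩ := comp_eq h01 hc' hd' ((D 0).smul_mem α hp) ((D 1).smul_mem β hy)
              (hxe.symm.trans he)
            simp [e1, e2, hpy]) with hT | hT | ⟨p, hp, y, hy, hp0, hy0, hpT, hyT⟩
        · exact ⟨0, fun x hx => hT ▸ ⟨x, hx, rfl⟩⟩
        · exact ⟨1, fun x hx => hT ▸ ⟨x, hx, rfl⟩⟩
        · exfalso
          obtain ⟨x, hx, hxe⟩ := add_mem hpT hyT
          replace hxe : e g x = p + y := hxe
          have hx0 : x ≠ 0 := fun h => by
            rw [h, map_zero] at hxe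
            have hm : p ∈ D 0 ⊓ D 1 :=
              ⟨hp, by rw [eq_neg_of_add_eq_zero_left hxe.symm]; exact neg_mem hy⟩
            rw [h01.inf_eq_bot, Submodule.mem_bot] at hm
            exact hp0 hm
          obtain ⟨b, hb, hb0, hxb⟩ := mate i x hx
          obtain ⟨p', hp', y', hy', -, -, -, α, β, γ, δ, he, he'⟩ := split i x hx hx0 b hb hb0 hxb
          obtain ⟨e1, e2⟩ := comp_eq h01 hp hy ((D 0).smul_mem α hp') ((D 1).smul_mem β hy')
            (hxe.symm.trans he)
          have hα : α ≠ 0 := fun h => hp0 (by rw [e1, h, zero_smul])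
          have hβ : β ≠ 0 := fun h => hy0 (by rw [e2, h, zero_smul])
          have hm : e g b ∈ (D i).map (e g).toLinearMap := by
            rw [he', show γ • p' + δ • y' = (γ / α) • p + (δ / β) • y by
              rw [e1, e2, smul_smul, smul_smul, div_mul_cancel₀ _ hα, div_mul_cancel₀ _ hβ]]
            exact add_mem (Submodule.smul_mem _ _ hpT) (Submodule.smul_mem _ _ hyT)
          obtain ⟨x', hx', hxe'⟩ := hm
          have hbx : b = x' := (e g).injective hxe'.symm
          have : b ∈ D i ⊓ D (Equiv.swap 0 1 i) := ⟨hbx ▸ hx', hb⟩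
          rw [(hc i).inf_eq_bot, Submodule.mem_bot] at this
          exact hb0 this
      choose π hπ using hone
      have hinj : Function.Injective π := by
        intro a b hab
        by_contra hne
        have h1 : (D a ⊔ D b).map (e g).toLinearMap ≤ D (π a) := by
          rw [Submodule.map_sup, sup_le_iff]
          exact ⟨fun _ ⟨z, hz, he⟩ => he ▸ hπ a z hz, fun _ ⟨z, hz, he⟩ => by rw [hab]; exact he ▸ hπ b z hz⟩
        have h2 := Submodule.finrank_mono h1
        rw [LinearEquiv.finrank_map_eq] at h2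
        have h3 := Submodule.finrank_sup_add_finrank_inf_eq (D a) (D b)
        rw [disjoint_iff.mp (hD.indep.pairwiseDisjoint hne), finrank_bot, hfin, hfin] at h3
        rw [hfin] at h2
        omega
      exact hgN (hmemN g ((hsp g).mp (hLG hgL))
        (Equiv.ofBijective π (Finite.injective_iff_bijective.mp hinj)) (fun i x hx => hπ i x hx))
    -- all centres
    have hi' : ∀ i : Fin 2, Equiv.swap 0 1 (Equiv.swap 0 1 i) = i := Equiv.swap_apply_self 0 1
    have hWi : ∀ y' ∈ D i, Centre B L' y' :=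
      spread hσ2 hS hB' (hc i).symm (hsing _) (hsing i) hz hz0 hL'
        (fun a ha b hb h => hsr _ a ha b (by rw [hi']; exact hb) h) hy hy0 hlong
    have hWj : ∀ x ∈ D (Equiv.swap 0 1 i), Centre B L' x := by
      intro x hx
      have h1 := hsswap _ x hx
      rw [hi'] at h1
      have h2 := centre_invariant hL' (L'.inv_mem hsL) (hWi _ h1)
      rwa [show s⁻¹ (s x) = x by rw [← LinearEquiv.mul_apply, inv_mul_cancel]; rfl] at h2
    have hall : tvGroup B ≤ L' := by
      rw [tvGroup, Subgroup.closure_le]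
      rintro _ ⟨v, c, hc', hv, rfl⟩
      suffices h : Centre B L' v from h.2 c hc'
      obtain ⟨a, ha, b, hb, rfl⟩ := Submodule.mem_sup.mp
        ((hc i).sup_eq_top ▸ Submodule.mem_top : v ∈ D i ⊔ D (Equiv.swap 0 1 i))
      have hab : B b a + B a b = 0 := by
        simpa [hsing i a ha a ha, hsing _ b hb b hb, add_comm] using hv
      rcases eq_or_ne a 0 with rfl | ha0
      · rw [zero_add]; exact hWj b hb
      have step : ∀ w, Centre B L' w → ∀ b ∈ D (Equiv.swap 0 1 i), B b w ≠ 0 →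
          B b w + B w b = 0 → Centre B L' (w + b) := by
        intro w hw b hb hwb htr
        have hh := (hWj b hb).2 (B b w)⁻¹ (tv_cond (hsing _ b hb b hb) (by
          rw [map_inv₀, hS.eq, eq_neg_of_add_eq_zero_right htr, inv_neg, add_neg_cancel]))
        have h := centre_invariant hL' hh hw
        rwa [qrefl_apply, inv_mul_cancel₀ hwb, one_smul] at h
      by_cases hab0 : B b a = 0
      · have hab' : B a b = 0 := hS.isRefl _ _ hab0
        obtain ⟨b₁, hb₁, hab₁⟩ : ∃ b₁ ∈ D (Equiv.swap 0 1 i), B b₁ a ≠ 0 := by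
          by_contra h
          push Not at h
          exact ha0 (pairing hS hB' (hc i).symm (hsing i) ha h)
        obtain ⟨r, hr⟩ : ∃ r : F, frob hF r = z / B b₁ a :=
          ⟨_, (Finite.injective_iff_surjective.mp (frob hF).injective (z / B b₁ a)).choose_spec⟩
        let b₂ := r • b₁
        have hb₂ : b₂ ∈ D (Equiv.swap 0 1 i) := (D _).smul_mem _ hb₁
        have e2 : B b₂ a = z := by simp [b₂, hr, div_mul_cancel₀ _ hab₁]
        have e3 : B a b₂ = -z := by rw [← hS.eq, e2, eq_neg_of_add_eq_zero_right hz]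
        have h := step _ (step a (hWi a ha) b₂ hb₂ (by rw [e2]; exact hz0)
          (by rw [e2, e3, add_neg_cancel])) (b - b₂) (sub_mem hb hb₂)
          (by simpa [hab0, e2, hsing _ b hb b₂ hb₂, hsing _ b₂ hb₂ b₂ hb₂] using hz0)
          (by simp [hab0, hab', e2, e3, hsing _ b hb b₂ hb₂, hsing _ b₂ hb₂ b₂ hb₂,
                hsing _ b₂ hb₂ b hb])
        rwa [add_assoc, add_sub_cancel] at h
      · exact step a (hWi a ha) b hb hab0 hab
    refine le_antisymm hLG fun x hx => ?_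
    have : e x ∈ L' := hall ((hsp x).mp hx)
    obtain ⟨y, hy, hyx⟩ := this
    exact e.injective hyx ▸ hy

end Cfsg.Lib.Linear.SUFour.Pair
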