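import Cfsg.Agent.Lib.Linear.UnitaryMax

/-!
# Stabilisers of non-degenerate points are maximal in four-dimensional special unitary groups
-/

set_option autoImplicit false

namespace Cfsg.Lib.Linear.Herm.UMax

open Module
open scoped Matrix

variable {F : Type*} [Field F] [Fintype F] {q : ℕ} (hF : Fintype.card F = q ^ 2) {n : ℕ}
  {L : Subgroup ((Fin n → F) ≃ₗ[F] (Fin n → F))}

/-- Overgroups of the stabiliser of an anisotropic subspace of small dimension. -/
theorem maximal_aniso (C : Big.Space (hB hF n)) {W : Submodule F (Fin n → F)}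
    (hWa : ∀ x ∈ W, x ≠ 0 → hB hF n x x ≠ 0) (hk : finrank F W + 3 ≤ n)
    (hWL : sStab hF W ≤ L) (hL : L ≤ tvGroup (hB hF n)) :
    L = sStab hF W ∨ L = tvGroup (hB hF n) := by
  classical
  have hW : W ⊓ perp hF W = ⊥ := (Submodule.eq_bot_iff _).2 fun x hx => by
    by_contra h0
    exact hWa x hx.1 h0 (hx.2 x hx.1)
  by_cases hle : L ≤ sStab hF W
  · exact Or.inl (le_antisymm hle hWL)
  refine Or.inr (eq_top_of_centres hF hL ?_)
  have hLi : L ≤ iso (hB hF n) := hL.trans (tvGroup_le_iso C.symm)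
  set U := perp hF W with hUdef
  have hUdim := finrank_perp hF W
  rw [← hUdef] at hUdim
  have hsum : W ⊔ U = ⊤ := Submodule.eq_top_of_disjoint _ _
    (by rw [finrank_fin_fun]; omega) (disjoint_iff.2 hW)
  obtain ⟨g, hgL, hgW⟩ := SetLike.not_le_iff_exists.1 hle
  have hgi := hLi hgL
  obtain ⟨u0, hu0, hu00, huu0⟩ := exists_iso_ne_zero C.ne_id C.invol C.symm U (by omega)
  obtain ⟨y, hy, huy⟩ : ∃ y ∈ U, hB hF n u0 y ≠ 0 := by
    by_contra h
    push Not at h
    have : u0 ∈ W ⊓ U := ⟨perp_perp hF W ▸ fun x hx => hB_symm_zero hF (h x hx), hu0⟩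
    rw [hW, Submodule.mem_bot] at this
    exact hu00 this
  obtain ⟨z, hz, hzz, hzW, hzU⟩ : ∃ z, Centre hF L z ∧ hB hF n z z = 0 ∧ z ∉ W ∧ z ∉ U := by
    by_contra hne
    push Not at hne
    have hgu : ∀ x ∈ U, hB hF n x x = 0 → g x ∈ U := fun x hx hxx => by
      by_cases hx0 : x = 0
      · rw [hx0, map_zero]; exact U.zero_mem
      refine hne _ (centre_map hF hLi hgL (centre_perp hF hWL hxx hx)) (by rw [hgi, hxx]) fun hW' => ?_
      exact hWa _ hW' (fun h => hx0 (g.injective (by rw [h, map_zero]))) (by rw [hgi, hxx])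
    have hp : g ∈ StabCard.stabW U := mem_stabW_of fun x hx => by
      have : Submodule.span F ({u0} ∪ {w | w ∈ U ∧ hB hF n w w = 0 ∧ hB hF n u0 w ≠ 0}) ≤
          U.comap (g : (Fin n → F) →ₗ[F] (Fin n → F)) := by
        rw [Submodule.span_le]
        rintro w (rfl | ⟨hw, hww, -⟩)
        · exact hgu w hu0 huu0
        · exact hgu w hw hww
      exact this (le_span_iso hF hu0 huu0 hy huy hx)
    have h := stab_perp hF hgi hp
    rw [hUdef, perp_perp] at h
    exact hgW ⟨hL hgL, h⟩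
  obtain ⟨a, ha, b, hb, rfl⟩ := Submodule.mem_sup.1 (show z ∈ W ⊔ U from hsum ▸ Submodule.mem_top)
  have ha0 : a ≠ 0 := fun h => hzU (by rw [h, zero_add]; exact hb)
  have hb0 : b ≠ 0 := fun h => hzW (by rw [h, add_zero]; exact ha)
  have hnorm : ∀ {a b : Fin n → F}, a ∈ W → b ∈ U →
      hB hF n (a + b) (a + b) = hB hF n a a + hB hF n b b := by
    intro a b ha hb
    simp only [map_add, LinearMap.add_apply, show hB hF n a b = 0 from hb a ha, hB_symm_zero hF (hb a ha)]
    ring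
  intro v hvv
  obtain ⟨a', ha', b', hb', rfl⟩ := Submodule.mem_sup.1 (show v ∈ W ⊔ U from hsum ▸ Submodule.mem_top)
  by_cases ha'0 : a' = 0
  · rw [ha'0, zero_add] at hvv ⊢
    exact centre_perp hF hWL hvv hb'
  by_cases hb'0 : b' = 0
  · rw [hb'0, add_zero] at hvv ⊢
    exact centre_mem hF hWL hvv ha'
  exact centre_mixed hF C hW (Or.inr ⟨hk, hWa⟩) hWL hLi ha ha0 hb hb0 ha' ha'0 hb' hb'0
    ((hnorm ha hb).symm.trans hzz) ((hnorm ha' hb').symm.trans hvv)
    (iff_of_false (hWa a ha ha0) (hWa a' ha' ha'0)) hz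

end Cfsg.Lib.Linear.Herm.UMax
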