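import Cfsg.Agent.Lib.Linear.SubfieldHerm

/-!
# Subfield groups in four-dimensional special unitary groups

Two cases: the index is two and the rational form is alternating, or the index is an odd prime.
-/

set_option autoImplicit false
set_option linter.unusedSectionVars false

namespace Cfsg.Lib.Linear.SubU

open scoped Matrix
open Cfsg.Lib.Linear.Rat0

variable {ι : Type} [Fintype ι] [DecidableEq ι] {F : Type*} [Field F] {σ : F →+* F}
  {F₀ : Subfield F} {J : Matrix ι ι F₀} {L : Subgroup (GL ι F)}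

local notation "M[" L ", " p ", " q ", " l "]" => Root σ F₀ J L p q l

variable (H : SubHyp σ F₀ J)

include H in
/-- A group with all rational vectors on few lines: multipliers agree. -/
theorem ratG_of_points {h : GL ι F}
    (hpts : ∀ c : ι → F₀, c ≠ 0 →
      ∃ (r : ι → F₀) (μ : F), (h : Matrix ι ι F) *ᵥ rv F₀ c = μ • rv F₀ r) :
    RatG F₀ h := by
  set A := (h : Matrix ι ι F)
  have hinj : Function.Injective (A *ᵥ ·) := Matrix.mulVec_injective_of_isUnit h.isUnit
  have hI : Nonempty ι := Fintype.card_pos_iff.mp (by have := H.card; omega)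
  obtain ⟨i₀⟩ := hI
  let e : ι → ι → F₀ := fun l => Pi.single l 1
  have he : ∀ l, e l ≠ 0 := fun l h => one_ne_zero (α := F₀) (by simpa [e] using congrFun h l)
  choose r μ hr using fun l => hpts (e l) (he l)
  have hμ : ∀ l, μ l ≠ 0 := fun l h0 => rv_ne_zero F₀ (he l) (hinj (by
    show A *ᵥ _ = A *ᵥ _
    rw [hr, h0, zero_smul, Matrix.mulVec_zero]))
  have hr0 : ∀ l, r l ≠ 0 := fun l h0 => rv_ne_zero F₀ (he l) (hinj (by
    show A *ᵥ _ = A *ᵥ _
    rw [hr, h0, rv_zero, smul_zero, Matrix.mulVec_zero]))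
  have hrat : ∀ l, μ l / μ i₀ ∈ F₀ := by
    intro l
    rcases eq_or_ne l i₀ with rfl | hl
    · rw [div_self (hμ _)]; exact F₀.one_mem
    obtain ⟨r', ν, hν⟩ := hpts (e l + e i₀) (fun h0 => one_ne_zero (α := F₀) (by
      simpa [e, hl] using congrFun h0 l))
    rw [rv_add, Matrix.mulVec_add, hr, hr] at hν
    have hne : ∀ a b : ι, a ≠ b → ∀ t : F₀, r a ≠ t • r b := by
      intro a b hab t ht
      have h1 : rv F₀ (e a) = (μ a * t / μ b) • rv F₀ (e b) := hinj (by
        show A *ᵥ _ = A *ᵥ _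
        rw [Matrix.mulVec_smul, hr, hr, ht, rv_smul, smul_smul, smul_smul,
          div_mul_cancel₀ _ (hμ b)])
      have h2 := congrFun h1 a
      simp [e, rv_single, hab] at h2
    have key : ∀ a b : ι, a ≠ b → μ a • rv F₀ (r a) + μ b • rv F₀ (r b) = ν • rv F₀ r' →
        ∃ t ∈ F₀, μ a = ν * t := by
      intro a b hab hs
      obtain ⟨p, -, hap, hpb⟩ := exists_iso_pair1 H (hne a b hab)
      have h1 := congrArg (fun v => frm σ F₀ J v (rv F₀ p)) hs
      simp only [frm_add_left, frm_smul_left, hap,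
        show frm σ F₀ J (rv F₀ (r b)) (rv F₀ p) = 0 from hpb.symm H, mul_one, mul_zero,
        add_zero] at h1
      exact ⟨_, frm_rv_mem H r' p, h1⟩
    obtain ⟨t, ht, e1⟩ := key l i₀ hl hν
    obtain ⟨t', ht', e2⟩ := key i₀ l hl.symm (by rwa [add_comm])
    have hν0 : ν ≠ 0 := fun h0 => hμ l (by rw [e1, h0, zero_mul])
    rw [e1, e2, mul_div_mul_left _ _ hν0]
    exact F₀.div_mem ht ht'
  refine ⟨(μ i₀)⁻¹, inv_ne_zero (hμ _), fun k l => ?_⟩
  have h1 := congrFun (hr l) k
  rw [rv_single, Matrix.mulVec_single_one] at h1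
  have h2 : A k l = μ l * (r l k : F) := h1
  show (μ i₀)⁻¹ * A k l ∈ F₀
  rw [h2, ← mul_assoc, inv_mul_eq_div]
  exact F₀.mul_mem (hrat l) (r l k).2

include H in
/-- The rational part is a proper subgroup. -/
theorem ratIso_lt [Finite F] {r : ℕ} (hr : r.Prime) (hcard : Nat.card F = Nat.card F₀ ^ r) :
    ratIso σ F₀ J < spIso σ F₀ J := by
  refine lt_of_le_of_ne inf_le_right fun e => ?_
  obtain ⟨s, hs⟩ : ∃ s : F, s ∉ F₀ := by
    by_contra hc
    push Not at hc
    have : Nat.card F₀ = Nat.card F := Nat.card_congr (Equiv.subtypeUnivEquiv hc)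
    rw [this] at hcard
    exact hr.ne_one (Nat.pow_right_injective (Finite.one_lt_card (α := F)) (a₁ := 1) (a₂ := r)
      (by simpa using hcard)).symm
  obtain ⟨y, hy0, hy, -, -⟩ := exists_iso_perp H 0 0
  obtain ⟨x, hx, hxy, hx'⟩ := exists_off1 H y
  have hx0 : x ≠ 0 := fun h => hx' 0 (by rw [h, zero_smul])
  have hyx : ∀ t : F₀, y ≠ t • x := fun t h => by
    rcases eq_or_ne t 0 with rfl | ht
    · exact hy0 (by rw [h, zero_smul])
    · exact hx' t⁻¹ (by rw [h, smul_smul, inv_mul_cancel₀ ht, one_smul])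
  obtain ⟨p, -, hyp, hpx⟩ := exists_iso_pair1 H hyx
  have hpy : frm σ F₀ J (rv F₀ p) (rv F₀ y) = -1 := by rw [H.skew, hyp, map_one]
  have h : frm σ F₀ J (s • rv F₀ x) (rv F₀ y) = 0 := by
    rw [frm_smul_left, show frm σ F₀ J (rv F₀ x) (rv F₀ y) = 0 from hxy, mul_zero]
  have hl : (0 : F) - σ 0 = frm σ F₀ J (s • rv F₀ x) (s • rv F₀ x) := by
    rw [map_zero, sub_zero, frm_smul_left, frm_smul_right,
      show frm σ F₀ J (rv F₀ x) (rv F₀ x) = 0 from hx, mul_zero, mul_zero]
  have hm : rootU H _ _ 0 h hy ∈ ratIso σ F₀ J := by rw [e]; exact rootU_mem H _ _ _ h hy hl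
  obtain ⟨c, hc, hrat⟩ := (mem_subfieldSubgroup_one F₀ _).mp hm.1
  have himg : ∀ z : ι → F₀, ∀ i,
      c * (rootMat σ F₀ J (s • rv F₀ x) (rv F₀ y) 0 *ᵥ rv F₀ z) i ∈ F₀ := fun z i => by
    rw [Matrix.mulVec, dotProduct, Finset.mul_sum]
    exact F₀.sum_mem fun j _ => by rw [← mul_assoc]; exact F₀.mul_mem (hrat i j) (z j).2
  obtain ⟨i, hi⟩ := Function.ne_iff.mp hx0
  have hxi : (x i : F) ≠ 0 := fun h => hi (Subtype.ext h)
  have hcm : c ∈ F₀ := by
    have h1 := himg x i
    rw [root_mulVec, show frm σ F₀ J (rv F₀ x) (rv F₀ y) = 0 from hxy, frm_smul_right,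
      show frm σ F₀ J (rv F₀ x) (rv F₀ x) = 0 from hx] at h1
    simp only [zero_smul, mul_zero, add_zero] at h1
    have h2 := F₀.div_mem h1 (x i).2
    rwa [show (rv F₀ x) i = (x i : F) from rfl, mul_div_cancel_right₀ _ hxi] at h2
  have h1 := himg p i
  rw [root_mulVec, hpy, frm_smul_right,
    show frm σ F₀ J (rv F₀ p) (rv F₀ x) = 0 from hpx] at h1
  simp only [zero_smul, mul_zero, zero_mul, add_zero, Pi.add_apply, Pi.smul_apply, smul_eq_mul,
    Pi.zero_apply, rv] at h1
  apply hs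
  have h2 := F₀.div_mem (F₀.sub_mem (F₀.mul_mem hcm (p i).2) h1) (F₀.mul_mem hcm (x i).2)
  convert h2 using 1
  field_simp
  ring

variable (hN : ratIso σ F₀ J ≤ L) (hLG : L ≤ spIso σ F₀ J)

/-! ### Index two, alternating rational form -/

section Alt

variable (hfix : ∀ z ∈ F₀, σ z = z) (hmem : ∀ z, σ z = z → z ∈ F₀) (hiso : ∀ x, IsoR σ F₀ J x)

include H hN hLG hfix hmem hiso in
/-- Short root elements spread along the perpendicular space of their centre. -/
theorem alt_spread {s l : F} {a b : ι → F₀} (hb : ∀ t : F₀, b ≠ t • a)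
    (hab : M[L, s • rv F₀ b, rv F₀ a, l]) {w : ι → F₀} (hw : PerpR σ F₀ J w a) :
    M[L, s • rv F₀ w, rv F₀ a, 0] := by
  let K : AddSubgroup (ι → F₀) :=
    { carrier := {w | ∃ l, M[L, s • rv F₀ w, rv F₀ a, l]}
      add_mem' := by
        rintro u v ⟨x, hx⟩ ⟨y, hy⟩
        exact ⟨_, by simpa [rv_add, smul_add] using hx.mul H hy⟩
      zero_mem' := ⟨0, by rw [rv_zero, smul_zero]; exact root_one_zero (hiso a)⟩
      neg_mem' := by
        rintro u ⟨x, hx⟩
        exact ⟨_, by simpa [rv_neg, smul_neg] using hx.inv' H⟩ }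
  have hstep : ∀ e : ι → F₀, PerpR σ F₀ J e a → frm σ F₀ J (rv F₀ b) (rv F₀ e) ≠ 0 → e ∈ K := by
    intro e hea hbe
    set γ := frm σ F₀ J (rv F₀ b) (rv F₀ e) with hγ
    have hγm : γ⁻¹ ∈ F₀ := F₀.inv_mem (frm_rv_mem H b e)
    have hr := rat H hN 0 e ⟨_, hγm⟩ (frm_zero_left _) (hiso e)
      (by rw [rv_zero, frm_zero_left]; show γ⁻¹ - σ γ⁻¹ = 0; rw [hfix _ hγm, sub_self])
    rw [rv_zero] at hr
    have h1 := Root.conj' hLG hr hab
    simp only [smul_zero, frm_zero_right, frm_smul_left, zero_smul, add_zero, zero_add,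
      show frm σ F₀ J (rv F₀ a) (rv F₀ e) = 0 from hea.symm H, mul_zero] at h1
    rw [← hγ, show γ⁻¹ * (s * γ) = s by field_simp] at h1
    have h2 := (hab.inv' H).mul H h1
    rw [neg_add_cancel_left] at h2
    exact ⟨_, h2⟩
  have hwK : w ∈ K := by
    by_cases h : frm σ F₀ J (rv F₀ b) (rv F₀ w) = 0
    · obtain ⟨p, -, hbp, hpa⟩ := exists_iso_pair1 H hb
      have h1 : frm σ F₀ J (rv F₀ b) (rv F₀ (w + p)) ≠ 0 := by
        rw [rv_add, frm_add_right, h, hbp, zero_add]; exact one_ne_zero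
      have h2 := K.sub_mem (hstep (w + p) (PerpR.add_left hw hpa) h1)
        (hstep p hpa (by rw [hbp]; exact one_ne_zero))
      rwa [add_sub_cancel_right] at h2
    · exact hstep w hw h
  obtain ⟨l', hl'⟩ := hwK
  have hσl : σ l' = l' := by
    have := hl'.2.2.1
    rw [frm_smul_left, frm_smul_right, show frm σ F₀ J (rv F₀ w) (rv F₀ w) = 0 from hiso w,
      mul_zero, mul_zero, sub_eq_zero] at this
    exact this.symm
  have h3 := rat H hN 0 a ⟨-l', F₀.neg_mem (hmem _ hσl)⟩ (frm_zero_left _) (hiso a)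
    (by rw [rv_zero, frm_zero_left]; show -l' - σ (-l') = 0; rw [map_neg, hσl, sub_self])
  rw [rv_zero] at h3
  have h4 := hl'.mul H h3
  simp only [add_zero, frm_zero_left, add_neg_cancel] at h4
  exact h4

include H hN hLG hfix hmem hiso in
/-- One irrational short root element gives all of them. -/
theorem alt_good {s l : F} {a b : ι → F₀} (ha : a ≠ 0) (hb : ∀ t : F₀, b ≠ t • a)
    (hab : M[L, s • rv F₀ b, rv F₀ a, l]) : Good σ F₀ J L s := by
  intro p q _ _ hpq
  by_cases hq0 : q = 0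
  · rw [hq0, rv_zero]
    refine root_zero_center ?_
    rw [frm_smul_left, frm_smul_right, show frm σ F₀ J (rv F₀ p) (rv F₀ p) = 0 from hiso p,
      mul_zero, mul_zero]
  obtain ⟨z, hza, hzq, hza', hzq'⟩ : ∃ z : ι → F₀, PerpR σ F₀ J z a ∧ PerpR σ F₀ J z q ∧
      (∀ t : F₀, z ≠ t • a) ∧ ∀ t : F₀, z ≠ t • q := by
    by_cases hdep : ∃ t : F₀, q = t • a
    · obtain ⟨t, rfl⟩ := hdep
      obtain ⟨z, -, hz, hz'⟩ := exists_off1 H a
      exact ⟨z, hz, (hz.symm H).smul_left t |>.symm H, hz', fun u e => hz' (u * t) (by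
        rw [e, smul_smul])⟩
    push Not at hdep
    by_cases haq : PerpR σ F₀ J q a
    · refine ⟨q + a, PerpR.add_left haq (hiso a), PerpR.add_left (hiso q) (haq.symm H),
        fun t e => hdep (t - 1) ?_, fun t e => ?_⟩
      · rw [sub_smul, one_smul, ← e, add_sub_cancel_right]
      · rcases eq_or_ne (t - 1) 0 with h0 | h0
        · rw [sub_eq_zero] at h0
          rw [h0, one_smul] at e
          exact ha (add_eq_left.mp e)
        · refine hdep (t - 1)⁻¹ ?_
          rw [show a = (t - 1) • q by rw [sub_smul, one_smul, ← e, add_sub_cancel_left], smul_smul,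
            inv_mul_cancel₀ h0, one_smul]
    · obtain ⟨z, hz0, -, hza, hzq⟩ := exists_iso_perp H a q
      refine ⟨z, hza, hzq, fun t e => haq (PerpR.symm H ?_), fun t e => haq ?_⟩
      · rcases eq_or_ne t 0 with rfl | ht
        · exact absurd (by rw [e, zero_smul]) hz0
        · have := hzq.smul_left t⁻¹
          rwa [e, smul_smul, inv_mul_cancel₀ ht, one_smul] at this
      · rcases eq_or_ne t 0 with rfl | ht
        · exact absurd (by rw [e, zero_smul]) hz0
        · have := hza.smul_left t⁻¹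
          rwa [e, smul_smul, inv_mul_cancel₀ ht, one_smul] at this
  have hz0 : z ≠ 0 := fun e => hza' 0 (by rw [e, zero_smul])
  have haz : ∀ t : F₀, a ≠ t • z := fun t e => by
    rcases eq_or_ne t 0 with rfl | ht
    · exact ha (by rw [e, zero_smul])
    · exact hza' t⁻¹ (by rw [e, smul_smul, inv_mul_cancel₀ ht, one_smul])
  have h1 := (alt_spread H hN hLG hfix hmem hiso hb hab hza).flip H (hiso z)
  have h2 := (alt_spread H hN hLG hfix hmem hiso haz h1 (hzq.symm H)).flip H (hiso q)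
  rw [H.inv] at h2
  exact alt_spread H hN hLG hfix hmem hiso hzq' h2 hpq

include H hN hLG hfix hmem hiso in
/-- Overgroups of the symplectic group. -/
theorem alt_overgroup [Finite F] {r : ℕ} (hr : r.Prime) (hcard : Nat.card F = Nat.card F₀ ^ r) :
    L = ratIso σ F₀ J ∨ L = spIso σ F₀ J := by
  by_cases hall : ∀ h ∈ L, ∀ c : ι → F₀, c ≠ 0 →
      ∃ (r : ι → F₀) (μ : F), (h : Matrix ι ι F) *ᵥ rv F₀ c = μ • rv F₀ r
  · exact Or.inl (le_antisymm (fun h hh => Subgroup.mem_inf.mpr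
      ⟨(mem_subfieldSubgroup_one F₀ h).mpr (ratG_of_points H (hall h hh)), hLG hh⟩) hN)
  push Not at hall
  obtain ⟨h, hh, c, hc0, hirr⟩ := hall
  refine Or.inr (le_antisymm hLG (full_of_good H hN hLG ?_))
  obtain ⟨ω, hω⟩ : ∃ ω : F, σ ω ≠ ω := by
    by_contra hn
    push Not at hn
    exact H.ne (RingHom.ext hn)
  have hω' : ω - σ ω ≠ 0 := sub_ne_zero.mpr (Ne.symm hω)
  set u := (h : Matrix ι ι F) *ᵥ rv F₀ c with hu
  let b : ι → F₀ := fun i => ⟨(u i - σ (u i)) / (ω - σ ω), hmem _ (by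
    rw [map_div₀, map_sub, map_sub, H.inv, H.inv, ← neg_sub (u i), ← neg_sub ω, neg_div_neg_eq])⟩
  let a : ι → F₀ := fun i => ⟨u i - ω * b i, hmem _ (by
    rw [map_sub, map_mul, hfix _ (b i).2]
    have : (b i : F) * (ω - σ ω) = u i - σ (u i) := div_mul_cancel₀ _ hω'
    linear_combination this)⟩
  have hab : u = rv F₀ a + ω • rv F₀ b := funext fun i => by
    simp [rv, a]
  have hb : ∀ t : F₀, b ≠ t • a := fun t e => hirr a (1 + ω * t) (by
    rw [hab, e, rv_smul, smul_smul, add_smul, one_smul])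
  have ha : a ≠ 0 := fun e => hirr b ω (by rw [hab, e, rv_zero, zero_add])
  have huu : frm σ F₀ J u u = 0 := by rw [hu, (mem_spIso.mp (hLG hh)).1]; exact hiso c
  have hgab : frm σ F₀ J (rv F₀ b) (rv F₀ a) = 0 := by
    rw [hab] at huu
    simp only [frm_add_left, frm_add_right, frm_smul_left, frm_smul_right,
      show frm σ F₀ J (rv F₀ a) (rv F₀ a) = 0 from hiso a,
      show frm σ F₀ J (rv F₀ b) (rv F₀ b) = 0 from hiso b,
      H.skew (rv F₀ b) (rv F₀ a), hfix _ (frm_rv_mem H b a)] at huu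
    refine (mul_eq_zero.mp (show (ω - σ ω) * frm σ F₀ J (rv F₀ b) (rv F₀ a) = 0 from ?_)).resolve_left
      hω'
    linear_combination huu
  have hgba : frm σ F₀ J (rv F₀ a) (rv F₀ b) = 0 := frm_perp H hgab
  have hlu := Root.conj hLG hh (rat_long H hN c (hiso c))
  rw [Matrix.mulVec_zero, ← hu] at hlu
  obtain ⟨-, -, -, g, hg, hge⟩ := hlu
  obtain ⟨-, -, -, ga, hga, hgae⟩ := rat H hN 0 a (-1) (frm_zero_left _) (hiso a)
    (by rw [rv_zero, frm_zero_left]; simp)
  have hN' : -(ω * σ ω) ∈ F₀ := hmem _ (by rw [map_neg, map_mul, H.inv, mul_comm])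
  obtain ⟨-, -, -, gb, hgb, hgbe⟩ := rat H hN 0 b ⟨_, hN'⟩ (frm_zero_left _) (hiso b)
    (by rw [rv_zero, frm_zero_left]; show -(ω * σ ω) - σ _ = 0; rw [map_neg, map_mul, H.inv]; ring)
  have hshort : M[L, ω • rv F₀ b, rv F₀ a, 0] := by
    refine ⟨by rw [frm_smul_left, hgab, mul_zero], hiso a, ?_, g * ga * gb,
      L.mul_mem (L.mul_mem hg hga) hgb, ?_⟩
    · rw [map_zero, sub_zero, frm_smul_left, frm_smul_right,
        show frm σ F₀ J (rv F₀ b) (rv F₀ b) = 0 from hiso b, mul_zero, mul_zero]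
    · rw [Units.val_mul, Units.val_mul, hge, hgae, hgbe]
      simp only [rootMat, emat_zero_left, emat_zero_right, rv_zero, add_zero, hab, emat_add_left,
        emat_add_right, emat_smul_left, emat_smul_right, smul_add, smul_smul, add_mul, mul_add,
        one_mul, mul_one, smul_mul_assoc, mul_smul_comm, emat_mul,
        show frm σ F₀ J (rv F₀ a) (rv F₀ a) = 0 from hiso a,
        show frm σ F₀ J (rv F₀ b) (rv F₀ b) = 0 from hiso b, hgab, hgba, zero_smul, smul_zero,
        OneMemClass.coe_one, NegMemClass.coe_neg]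
      module
  have hgood := alt_good H hN hLG hfix hmem hiso ha hb hshort
  intro s x y hx hy hxy
  set t₁ := (s - σ s) / (ω - σ ω) with ht₁
  have ht₁m : t₁ ∈ F₀ := hmem _ (by
    rw [ht₁, map_div₀, map_sub, map_sub, H.inv, H.inv, ← neg_sub s, ← neg_sub ω, neg_div_neg_eq])
  have ht₀m : s - t₁ * ω ∈ F₀ := hmem _ (by
    rw [map_sub, map_mul, hfix _ ht₁m]
    have : t₁ * (ω - σ ω) = s - σ s := div_mul_cancel₀ _ hω'
    linear_combination this)
  have h1 := rat_short H hN ((⟨_, ht₀m⟩ : F₀) • x) y (hxy.smul_left _) (hx.smul _) hy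
  have h2 := hgood ((⟨_, ht₁m⟩ : F₀) • x) y (hx.smul _) hy (hxy.smul_left _)
  have h3 := h1.mul H h2
  simp only [rv_smul, smul_smul, frm_smul_left, frm_smul_right,
    show frm σ F₀ J (rv F₀ x) (rv F₀ x) = 0 from hx, mul_zero, add_zero, ← add_smul] at h3
  convert h3 using 2
  ring

end Alt

/-! ### Odd prime index -/

section Odd

/-- All long root elements of coefficient `c` with rational centre. -/
def LongAll (σ : F →+* F) (F₀ : Subfield F) (J : Matrix ι ι F₀) (L : Subgroup (GL ι F)) (c : F) :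
    Prop :=
  ∀ y : ι → F₀, IsoR σ F₀ J y → y ≠ 0 → Root σ F₀ J L 0 (rv F₀ y) c

include H hN in
/-- A short root element and rational ones give a long one. -/
theorem long_of_short {y w : ι → F₀} {s l : F} (hw : IsoR σ F₀ J w) (hyw : ∀ t : F₀, y ≠ t • w)
    (h : M[L, s • rv F₀ y, rv F₀ w, l]) {κ : F} (hκ : κ ∈ F₀) :
    M[L, 0, rv F₀ w, s * κ + σ (s * κ)] := by
  obtain ⟨p, hp, hyp, hpw⟩ := exists_iso_pair1 H hyw
  have hκ' : σ (-κ) ∈ F₀ := H.mem _ (F₀.neg_mem hκ)
  have h2 := rat_short H hN ((⟨_, hκ'⟩ : F₀) • p) w (hpw.smul_left _) (hp.smul _) hw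
  have h3 := (h.mul H h2).mul H ((h2.mul H h).inv' H)
  rw [add_comm (rv F₀ ((⟨_, hκ'⟩ : F₀) • p)) (s • rv F₀ y), add_neg_cancel] at h3
  convert h3 using 1
  rw [rv_smul]
  simp only [frm_add_left, frm_add_right, frm_neg_left, frm_smul_left, frm_smul_right, hyp,
    H.skew (rv F₀ y) (rv F₀ p), show frm σ F₀ J (rv F₀ p) (rv F₀ p) = 0 from hp, map_neg, map_one,
    map_mul, H.inv]
  ring

include H hN hLG in
/-- A long root element gives short ones. -/
theorem short_of_long {y w : ι → F₀} {c : F} (hw : IsoR σ F₀ J w) (hy : IsoR σ F₀ J y)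
    (hyw : ∀ t : F₀, y ≠ t • w) (hwy : PerpR σ F₀ J w y) (h : M[L, 0, rv F₀ y, c]) :
    M[L, c • rv F₀ y, rv F₀ w, c] := by
  obtain ⟨p, hp, hyp, hpw⟩ := exists_iso_pair1 H hyw
  have h1 := Root.conj' hLG (rat_short H hN w p (hpw.symm H) hw hp) h
  simp only [frm_zero_left, hyp, show frm σ F₀ J (rv F₀ y) (rv F₀ w) = 0 from hwy.symm H,
    zero_smul, one_smul, zero_mul, add_zero] at h1
  exact root_of_long H (hwy.symm H) h1 h

variable {r : ℕ} (hro : Odd r) (hcard : Nat.card F = Nat.card F₀ ^ r)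

include H hro hcard in
theorem exists_trace_one [Finite F] : ∃ κ ∈ F₀, κ + σ κ = (1 : F) := by
  obtain ⟨s, hs⟩ := exists_moved_scalar H hro hcard
  obtain ⟨x, hxm, hx⟩ : ∃ x ∈ F₀, x + σ x ≠ (0 : F) := by
    by_contra hn
    push Not at hn
    have h1 := hn 1 F₀.one_mem
    rw [map_one] at h1
    exact hs (by linear_combination hn s s.2 - (s : F) * h1)
  refine ⟨x / (x + σ x), F₀.div_mem hxm (F₀.add_mem hxm (H.mem _ hxm)), ?_⟩
  rw [map_div₀, map_add, H.inv, add_comm (σ x) x, ← add_div, div_self hx]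

include H hN hLG hro hcard in
/-- One long root element spreads to all rational centres. -/
theorem longAll_of [Finite F] {c : F} {y : ι → F₀} (hy : IsoR σ F₀ J y) (hy0 : y ≠ 0)
    (h : M[L, 0, rv F₀ y, c]) : LongAll σ F₀ J L c := by
  obtain ⟨κ, hκ, hκ1⟩ := exists_trace_one H hro hcard
  have hσc : σ c = c := by
    have := h.2.2.1
    rw [frm_zero_left, sub_eq_zero] at this
    exact this.symm
  have step : ∀ y w : ι → F₀, IsoR σ F₀ J y → IsoR σ F₀ J w → PerpR σ F₀ J w y →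
      (∀ t : F₀, y ≠ t • w) → M[L, 0, rv F₀ y, c] → M[L, 0, rv F₀ w, c] := by
    intro y w hy hw hwy hyw h
    have h1 := long_of_short H hN hw hyw (short_of_long H hN hLG hw hy hyw hwy h) hκ
    convert h1 using 1
    rw [map_mul, hσc, ← mul_add, hκ1, mul_one]
  have ne_of : ∀ {a b : ι → F₀}, a ≠ 0 → (∀ t : F₀, b ≠ t • a) → ∀ t : F₀, a ≠ t • b := by
    intro a b ha hb t e
    rcases eq_or_ne t 0 with rfl | ht
    · exact ha (by rw [e, zero_smul])
    · exact hb t⁻¹ (by rw [e, smul_smul, inv_mul_cancel₀ ht, one_smul])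
  intro z hz hz0
  by_cases hdep : ∃ t : F₀, z = t • y
  · obtain ⟨t, rfl⟩ := hdep
    obtain ⟨w, hw, hwy, hwy'⟩ := exists_off1 H y
    refine step w _ hw hz ((hwy.symm H).smul_left t) (fun u e => hwy' (u * t) (by rw [e, smul_smul]))
      (step y w hy hw hwy (ne_of hy0 hwy') h)
  push Not at hdep
  by_cases hperp : PerpR σ F₀ J z y
  · exact step y z hy hz hperp (ne_of hy0 hdep) h
  obtain ⟨w, hw0, hw, hwy, hwz⟩ := exists_iso_perp H y z
  have hwy' : ∀ t : F₀, w ≠ t • y := fun t e => by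
    rcases eq_or_ne t 0 with rfl | ht
    · exact hw0 (by rw [e, zero_smul])
    · have := hwz.smul_left t⁻¹
      rw [e, smul_smul, inv_mul_cancel₀ ht, one_smul] at this
      exact hperp (this.symm H)
  have hzw : ∀ t : F₀, z ≠ t • w := fun t e => hperp (by rw [e]; exact hwy.smul_left t)
  exact step w z hw hz (hwz.symm H) (ne_of hw0 hzw) (step y w hy hw hwy (ne_of hy0 hwy') h)

include H hN hLG hro hcard in
/-- An irrational long root element with rational centre gives everything. -/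
theorem full_of_long [Finite F] (hr : r.Prime) {c : F} (hc : c ∉ F₀) {y : ι → F₀}
    (hy : IsoR σ F₀ J y) (hy0 : y ≠ 0) (h : M[L, 0, rv F₀ y, c]) : spIso σ F₀ J ≤ L := by
  have hA := longAll_of H hN hLG hro hcard hy hy0 h
  have hσc : σ c = c := by
    have := h.2.2.1
    rw [frm_zero_left, sub_eq_zero] at this
    exact this.symm
  have good_of_longAll : ∀ {d : F}, LongAll σ F₀ J L d → Good σ F₀ J L d := by
    intro d hd x w hx hw hxw
    by_cases hw0 : w = 0
    · rw [hw0, rv_zero]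
      refine root_zero_center ?_
      rw [frm_smul_left, frm_smul_right, show frm σ F₀ J (rv F₀ x) (rv F₀ x) = 0 from hx,
        mul_zero, mul_zero]
    by_cases hx0 : x = 0
    · rw [hx0, rv_zero, smul_zero]; exact root_one_zero hw
    by_cases hdep : ∃ t : F₀, x = t • w
    · obtain ⟨t, rfl⟩ := hdep
      -- a long root element written as a short one
      have hσd : σ d = d := by
        have := (hd w hw hw0).2.2.1
        rw [frm_zero_left, sub_eq_zero] at this
        exact this.symm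
      have htm : (t : F) + σ t ∈ F₀ := F₀.add_mem t.2 (H.mem _ t.2)
      obtain ⟨e, he, hew⟩ := exists_off1 H w |>.imp fun e he => (⟨he.1, he.2⟩ : _ ∧ _)
      have hwe : ∀ u : F₀, w ≠ u • e := fun u hu => by
        rcases eq_or_ne u 0 with rfl | hu0
        · exact hw0 (by rw [hu, zero_smul])
        · exact hew.2 u⁻¹ (by rw [hu, smul_smul, inv_mul_cancel₀ hu0, one_smul])
      have h1 := long_of_short H hN hw hew.2
        (short_of_long H hN hLG hw he hew.2 (hew.1.symm H) (hd e he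
          (fun h0 => hew.2 0 (by rw [h0, zero_smul])))) t.2
      obtain ⟨-, -, -, g, hg, hge⟩ := h1
      refine ⟨by rw [rv_smul, frm_smul_left, frm_smul_left, hw, mul_zero, mul_zero], hw, ?_, g, hg, ?_⟩
      · rw [map_zero, sub_zero, rv_smul, frm_smul_left, frm_smul_left, frm_smul_right,
          frm_smul_right, hw]
        ring
      · rw [hge]
        simp only [rootMat, emat_zero_left, emat_zero_right, rv_smul, emat_smul_left,
          emat_smul_right, smul_smul, map_mul, hσd]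
        module
    push Not at hdep
    have h1 := short_of_long H hN hLG hw hx hdep (hxw.symm H) (hd x hx hx0)
    have h2 := (hd w hw hw0).inv' H
    rw [neg_zero, frm_zero_left, add_zero] at h2
    have h3 := h1.mul H h2
    simpa [frm_zero_left] using h3
  -- powers of `c`
  have hpow : ∀ k : ℕ, LongAll σ F₀ J L (c ^ (k + 1)) := by
    intro k
    induction k with
    | zero => simpa using hA
    | succ k ih =>
      intro w hw hw0
      -- from the short root elements of coefficient `c ^ (k + 1)` conjugate a long one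
      obtain ⟨v, hv, hvw, hvw'⟩ := exists_off1 H w
      obtain ⟨w', hw', hvw1, hw'w⟩ := exists_iso_pair1 H hvw'
      have hww : ∀ t : F₀, w ≠ t • w' := fun t e => by
        have h0 : frm σ F₀ J (rv F₀ v) (rv F₀ w) = 0 := hvw
        rw [e, rv_smul, frm_smul_right, hvw1, mul_one] at h0
        exact hw0 (by rw [e, show t = 0 from Subtype.ext ((map_eq_zero σ).mp h0), zero_smul])
      have hg := good_of_longAll ih w w' hw hw' (hw'w.symm H)
      have hv0 : v ≠ 0 := fun e => hvw' 0 (by rw [e, zero_smul])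
      have h1 := Root.conj' hLG hg (hA v hv hv0)
      simp only [frm_zero_left, hvw1, frm_smul_right,
        show frm σ F₀ J (rv F₀ v) (rv F₀ w) = 0 from hvw, mul_zero, zero_smul, one_smul,
        zero_mul, add_zero] at h1
      have h2 := root_of_long H (by rw [frm_smul_right, hvw, mul_zero]) h1 (hA v hv hv0)
      have hs0 : c ^ (k + 1) ≠ 0 := pow_ne_zero _ fun e => hc (e ▸ F₀.zero_mem)
      have h3 := h2.smul H hs0
      rw [smul_smul, map_pow, hσc, ← pow_succ] at h3
      obtain ⟨κ, hκ, hκ1⟩ := exists_trace_one H hro hcard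
      have h4 := long_of_short H hN hw hvw' h3 hκ
      convert h4 using 1
      rw [map_mul, map_pow, hσc, ← mul_add, hκ1, mul_one]
  refine full_of_good H hN hLG fun s => ?_
  let S : Submodule F₀ F :=
    { carrier := {x | Good σ F₀ J L x}
      zero_mem' := fun x y hx hy hxy => by rw [zero_smul]; exact root_one_zero hy
      add_mem' := by
        intro s t hs ht x y hx hy hxy
        have h := (hs x y hx hy hxy).mul H (ht x y hx hy hxy)
        rw [frm_smul_left, frm_smul_right, show frm σ F₀ J (rv F₀ x) (rv F₀ x) = 0 from hx,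
          mul_zero, mul_zero, add_zero, add_zero, ← add_smul] at h
        exact h
      smul_mem' := by
        intro t s hs x y hx hy hxy
        have h := hs (t • x) y (hx.smul t) hy (hxy.smul_left t)
        rwa [rv_smul, smul_smul, mul_comm] at h }
  have hfr : (Module.finrank F₀ F).Prime := by
    have h1 := Module.natCard_eq_pow_finrank (K := F₀) (V := F)
    rw [hcard] at h1
    rwa [← Nat.pow_right_injective Finite.one_lt_card h1]
  haveI := Subalgebra.isSimpleOrder_of_finrank_prime F₀ F hfr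
  have htop : Algebra.adjoin F₀ {c} = ⊤ := (eq_bot_or_eq_top _).resolve_left fun hb => hc (by
    have hm := Algebra.self_mem_adjoin_singleton F₀ c
    rw [hb, Algebra.mem_bot] at hm
    obtain ⟨t, ht⟩ := hm
    exact ht ▸ t.2)
  have hle : Subalgebra.toSubmodule (Algebra.adjoin F₀ {c}) ≤ S := by
    rw [Algebra.adjoin_eq_span, Submodule.span_le, ← Submonoid.powers_eq_closure]
    rintro _ ⟨k, rfl⟩
    rcases k with _ | k
    · intro x y hx hy hxy
      show M[L, c ^ 0 • rv F₀ x, rv F₀ y, 0]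
      rw [pow_zero, one_smul]
      exact rat_short H hN x y hxy hx hy
    · exact good_of_longAll (hpow k)
  exact hle (by rw [htop]; trivial)

include H hN hLG hro hcard in
/-- Without irrational long root elements the products of coordinates are rational. -/
theorem prod_rat [Finite F]
    (hA : ∀ (x : ι → F₀) (c : F), IsoR σ F₀ J x → x ≠ 0 → M[L, 0, rv F₀ x, c] → c ∈ F₀)
    (u : ι → F) (x : ι → F₀) (hu : M[L, 0, u, 1]) (hx : IsoR σ F₀ J x) (hx0 : x ≠ 0)
    (hxu : frm σ F₀ J u (rv F₀ x) = 0) (i k : ι) : σ (u i) * u k ∈ F₀ := by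
  obtain ⟨s₀, hs₀⟩ := exists_moved_scalar H hro hcard
  have two : ∀ A : F, (∀ κ ∈ F₀, A * κ + σ (A * κ) ∈ F₀) → A ∈ F₀ := by
    intro A hA'
    have h1 := hA' 1 F₀.one_mem
    rw [mul_one] at h1
    have h2 := F₀.sub_mem (hA' s₀ s₀.2) (F₀.mul_mem (H.mem _ s₀.2) h1)
    have h3 := F₀.div_mem h2 (F₀.sub_mem s₀.2 (H.mem _ s₀.2))
    convert h3 using 1
    rw [eq_div_iff (sub_ne_zero.mpr (Ne.symm hs₀)), map_mul]
    ring
  have main : ∀ x : ι → F₀, IsoR σ F₀ J x → x ≠ 0 → frm σ F₀ J u (rv F₀ x) = 0 →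
      ∀ y₀ y, PerpR σ F₀ J y₀ x → PerpR σ F₀ J y x →
      σ (frm σ F₀ J u (rv F₀ y₀)) * frm σ F₀ J u (rv F₀ y) ∈ F₀ := by
    intro x hx hx0 hxu y₀ y' hy₀ hy'
    set β := frm σ F₀ J u (rv F₀ y₀) with hβdef
    rcases eq_or_ne β 0 with hβ | hβ
    · rw [hβ, map_zero, zero_mul]; exact F₀.zero_mem
    let K : AddSubgroup (ι → F₀) :=
      { carrier := {y | σ β * frm σ F₀ J u (rv F₀ y) ∈ F₀}
        add_mem' := fun {a b} ha hb => by
          simp only [Set.mem_ofPred_eq] at ha hb ⊢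
          rw [rv_add, frm_add_right, mul_add]; exact F₀.add_mem ha hb
        zero_mem' := by
          simp only [Set.mem_ofPred_eq]
          rw [rv_zero, frm_zero_right, mul_zero]; exact F₀.zero_mem
        neg_mem' := fun {a} ha => by
          simp only [Set.mem_ofPred_eq] at ha ⊢
          rw [rv_neg, frm_neg_right, mul_neg]; exact F₀.neg_mem ha }
    refine (AddSubgroup.closure_le K).mpr ?_ (H.span1 y' x hy')
    rintro y ⟨hy, hyx⟩
    show σ β * frm σ F₀ J u (rv F₀ y) ∈ F₀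
    by_cases hsp : ∃ t : F₀, y = t • x
    · obtain ⟨t, rfl⟩ := hsp
      rw [rv_smul, frm_smul_right, hxu, mul_zero, mul_zero]
      exact F₀.zero_mem
    push Not at hsp
    obtain ⟨l₀, hl₀⟩ := H.htr y₀
    have h1 := Root.conj' hLG (rat H hN y₀ x l₀ hy₀ hx hl₀) hu
    simp only [frm_zero_left, hxu, mul_zero, zero_smul, add_zero, zero_add] at h1
    rw [← hβdef] at h1
    have h2 := root_of_long H (by rw [frm_smul_right, hxu, mul_zero]) h1 hu
    rw [one_smul] at h2
    have hU := h2.smul H hβ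
    have h3 := Root.conj' hLG (rat_long H hN y hy) hU
    simp only [frm_zero_right, smul_zero, zero_smul, zero_add, frm_smul_left, one_mul, add_zero,
      show frm σ F₀ J (rv F₀ x) (rv F₀ y) = 0 from (PerpR.symm H hyx)] at h3
    rw [← one_mul (β * σ β)] at h3
    have h4 := (hU.inv' H).mul H h3
    rw [neg_add_cancel_left] at h4
    exact two _ fun κ hκ => hA x _ hx hx0 (long_of_short H hN hx hsp h4 hκ)
  have hγ : ∀ y y' : ι → F₀,
      σ (frm σ F₀ J u (rv F₀ y')) * frm σ F₀ J u (rv F₀ y) ∈ F₀ := by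
    intro y y'
    obtain ⟨p, -, hp, -⟩ := exists_iso_pair1 H (x := x) (y := 0) (fun a e => hx0 (by rw [e]; simp))
    have hproj : ∀ z : ι → F₀, ∃ z' : ι → F₀, PerpR σ F₀ J z' x ∧
        frm σ F₀ J u (rv F₀ z') = frm σ F₀ J u (rv F₀ z) -
          frm σ F₀ J (rv F₀ x) (rv F₀ z) * frm σ F₀ J u (rv F₀ p) := by
      intro z
      refine ⟨z - (⟨_, H.mem _ (frm_rv_mem H x z)⟩ : F₀) • p, frm_perp H ?_, ?_⟩ <;>
        rw [rv_sub, rv_smul, frm_sub_right, frm_smul_right, H.inv]
      rw [hp, mul_one, sub_self]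
    by_cases h0 : ∀ z : ι → F₀, PerpR σ F₀ J z x → frm σ F₀ J u (rv F₀ z) = 0
    · set μ := frm σ F₀ J u (rv F₀ p)
      have hu' : u = μ • rv F₀ x := by
        rw [← sub_eq_zero]
        refine eq_zero_of_perp H fun z => ?_
        obtain ⟨z', hz', e⟩ := hproj z
        rw [h0 z' hz'] at e
        rw [frm_sub_left, frm_smul_left]
        linear_combination -e
      have hμμ : μ * σ μ ∈ F₀ := by
        rcases eq_or_ne μ 0 with e | hμ0
        · rw [e, zero_mul]; exact F₀.zero_mem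
        have hu2 := hu
        rw [hu'] at hu2
        have h := hu2.smul H hμ0
        rw [smul_zero, one_mul] at h
        exact hA x _ hx hx0 h
      rw [hu', frm_smul_left, frm_smul_left, map_mul, mul_mul_mul_comm, mul_comm (σ μ)]
      exact F₀.mul_mem hμμ (F₀.mul_mem (H.mem _ (frm_rv_mem H x y')) (frm_rv_mem H x y))
    push Not at h0
    obtain ⟨y₀, hy₀, hβ⟩ := h0
    set β := frm σ F₀ J u (rv F₀ y₀) with hβdef
    set τ := σ β * frm σ F₀ J u (rv F₀ p) with hτ
    set D := σ β • u - τ • rv F₀ x with hD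
    have hDmem : ∀ l, D l ∈ F₀ := by
      intro l
      obtain ⟨q, hq⟩ := exists_rv_cov H (Pi.single l 1)
      have e : D l = frm σ F₀ J D (rv F₀ q) := by
        rw [frm, hq, rv_single, dotProduct_single, mul_one]
      obtain ⟨z', hz', e'⟩ := hproj q
      rw [e, hD, frm_sub_left, frm_smul_left, frm_smul_left, hτ, mul_assoc, ← mul_sub]
      have h := main x hx hx0 hxu y₀ z' hy₀ hz'
      rw [e', ← hβdef] at h
      convert h using 2
      ring
    let d : ι → F₀ := fun l => ⟨D l, hDmem l⟩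
    have hd : rv F₀ d = σ β • u - τ • rv F₀ x := rfl
    have hσβ : σ β ≠ 0 := by simpa using hβ
    have hxx : frm σ F₀ J (rv F₀ x) (rv F₀ x) = 0 := hx
    have hxu' : frm σ F₀ J (rv F₀ x) u = 0 := frm_perp H hxu
    have hdx : PerpR σ F₀ J d x := by
      rw [PerpR, hd, frm_sub_left, frm_smul_left, frm_smul_left, hxu, hxx, mul_zero, mul_zero,
        sub_zero]
    have hdd : IsoR σ F₀ J d := by
      rw [IsoR, hd]
      simp only [frm_sub_left, frm_sub_right, frm_smul_left, frm_smul_right, hxu, hxu', hxx,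
        hu.2.1, mul_zero, sub_zero]
    have hNβ : β * σ β ∈ F₀ := by rw [mul_comm]; exact main x hx hx0 hxu y₀ y₀ hy₀ hy₀
    have hdt : ∀ s t : F₀, d + t • x ≠ 0 ∧ x ≠ s • (d + t • x) := by
      have hy₀x : frm σ F₀ J (rv F₀ x) (rv F₀ y₀) = 0 := hy₀.symm H
      have hdy : frm σ F₀ J (rv F₀ d) (rv F₀ y₀) = σ β * β := by
        rw [hd, frm_sub_left, frm_smul_left, frm_smul_left, hy₀x, mul_zero, sub_zero, hβdef]
      intro s t
      refine ⟨fun e => mul_ne_zero hσβ hβ ?_, fun e => ?_⟩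
      · rw [← hdy, eq_neg_of_add_eq_zero_left e, rv_neg, rv_smul, frm_neg_left, frm_smul_left,
          hy₀x, mul_zero, neg_zero]
      · have h1 := congrArg (fun v => frm σ F₀ J (rv F₀ v) (rv F₀ y₀)) e
        simp only [rv_smul, rv_add, frm_smul_left, frm_add_left, hy₀x, hdy, mul_zero,
          add_zero] at h1
        rcases mul_eq_zero.mp h1.symm with hs | hs
        · exact hx0 (by rw [e, show s = 0 from Subtype.ext hs, zero_smul])
        · exact mul_ne_zero hσβ hβ hs
    have hNt : ∀ t : F₀, (τ - t) * σ (τ - t) ∈ F₀ := by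
      intro t
      obtain ⟨hne, -⟩ := hdt 0 t
      have hx'' : IsoR σ F₀ J (d + t • x) := by
        rw [IsoR, rv_add, rv_smul]
        simp only [frm_add_left, frm_add_right, frm_smul_left, frm_smul_right, hxx,
          show frm σ F₀ J (rv F₀ d) (rv F₀ d) = 0 from hdd,
          show frm σ F₀ J (rv F₀ d) (rv F₀ x) = 0 from hdx,
          show frm σ F₀ J (rv F₀ x) (rv F₀ d) = 0 from hdx.symm H, mul_zero, add_zero]
      have hu'' : frm σ F₀ J u (rv F₀ (d + t • x)) = 0 := by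
        rw [rv_add, rv_smul, hd]
        simp only [frm_add_right, frm_sub_right, frm_smul_right, hu.2.1, hxu, mul_zero, sub_zero,
          add_zero]
      obtain ⟨q, -, hxq, hqd⟩ := exists_iso_pair1 H (x := x) (y := d + t • x) fun s => (hdt s t).2
      have hm := main _ hx'' hne hu'' q q hqd hqd
      have hdq : frm σ F₀ J (rv F₀ d) (rv F₀ q) = -(t : F) := by
        have h1 : frm σ F₀ J (rv F₀ (d + t • x)) (rv F₀ q) = 0 := hqd.symm H
        rw [rv_add, rv_smul, frm_add_left, frm_smul_left, hxq, mul_one] at h1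
        exact eq_neg_of_add_eq_zero_left h1
      have huq : frm σ F₀ J u (rv F₀ q) = (τ - t) / σ β := by
        rw [eq_div_iff hσβ]
        rw [hd, frm_sub_left, frm_smul_left, frm_smul_left, hxq] at hdq
        linear_combination hdq
      rw [huq] at hm
      have h2 := F₀.mul_mem hNβ hm
      convert h2 using 1
      rw [map_div₀, H.inv]
      field_simp
    have hτm : τ ∈ F₀ := by
      have hK : ∀ t : F₀, τ * σ t + σ τ * t ∈ F₀ := fun t => by
        have h0 := hNt 0
        rw [ZeroMemClass.coe_zero, sub_zero] at h0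
        have h1 := F₀.sub_mem (F₀.add_mem h0 (F₀.mul_mem t.2 (H.mem _ t.2))) (hNt t)
        convert h1 using 1
        rw [map_sub]
        ring
      refine two τ fun κ hκ => ?_
      have h1 := hK ⟨σ κ, H.mem _ hκ⟩
      rw [H.inv] at h1
      rwa [map_mul]
    have hu2 : ∀ l, σ β * u l ∈ F₀ := fun l => by
      have h1 := F₀.add_mem (hDmem l) (F₀.mul_mem hτm (x l).2)
      convert h1 using 1
      simp [hD, rv]
    have hue : ∀ z : ι → F₀, σ β * frm σ F₀ J u (rv F₀ z) ∈ F₀ := fun z => by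
      rw [← frm_smul_left, frm, dotProduct]
      exact F₀.sum_mem fun j _ => F₀.mul_mem (hu2 j) (cov_rv_mem H z j)
    have h1 := F₀.div_mem (F₀.mul_mem (H.mem _ (hue y')) (hue y)) hNβ
    convert h1 using 1
    rw [map_mul, H.inv]
    field_simp
  have hcoord : ∀ l, ∃ q : ι → F₀, frm σ F₀ J u (rv F₀ q) = u l := fun l => by
    obtain ⟨q, hq⟩ := exists_rv_cov H (Pi.single l 1)
    exact ⟨q, by rw [frm, hq, rv_single, dotProduct_single, mul_one]⟩
  obtain ⟨q, hq⟩ := hcoord i
  obtain ⟨q', hq'⟩ := hcoord k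
  have := hγ q' q
  rwa [hq, hq'] at this

include H hN hLG hro hcard in
/-- Odd characteristic: an image of a rational singular point meets a rational perp. -/
theorem perp_odd [Finite F] (h2 : (2 : F) ≠ 0)
    (hA : ∀ (x : ι → F₀) (c : F), IsoR σ F₀ J x → x ≠ 0 → M[L, 0, rv F₀ x, c] → c ∈ F₀)
    {g : GL ι F} (hg : g ∈ L) {c : ι → F₀} (hc : IsoR σ F₀ J c) :
    ∃ x : ι → F₀, x ≠ 0 ∧ IsoR σ F₀ J x ∧
      frm σ F₀ J ((g : Matrix ι ι F) *ᵥ rv F₀ c) (rv F₀ x) = 0 := by
  set u := (g : Matrix ι ι F) *ᵥ rv F₀ c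
  by_contra hne
  push Not at hne
  have hroot : M[L, 0, u, 1] := by
    have h := Root.conj hLG hg (rat_long H hN c hc)
    rwa [Matrix.mulVec_zero] at h
  have hN' : ∀ x : ι → F₀, IsoR σ F₀ J x →
      frm σ F₀ J u (rv F₀ x) * σ (frm σ F₀ J u (rv F₀ x)) ∈ F₀ :=
    fun x hx => norm_coeff_mem H hN hLG hro hcard h2 hA hroot hx
  obtain ⟨x, hx0, hx, -, -⟩ := exists_iso_perp H 0 0
  obtain ⟨y, hy, hyx, hy'⟩ := exists_off1 H x
  set β := frm σ F₀ J u (rv F₀ x) with hβ
  set γ := frm σ F₀ J u (rv F₀ y) with hγ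
  have hxx : frm σ F₀ J (rv F₀ x) (rv F₀ x) = 0 := hx
  have hyy : frm σ F₀ J (rv F₀ y) (rv F₀ y) = 0 := hy
  have hyx1 : frm σ F₀ J (rv F₀ y) (rv F₀ x) = 0 := hyx
  have hyx2 : frm σ F₀ J (rv F₀ x) (rv F₀ y) = 0 := hyx.symm H
  have hpoly : ∀ s : F₀, σ s * (γ * σ β) + s * (β * σ γ) ∈ F₀ := by
    intro s
    have hi : IsoR σ F₀ J (x + s • y) := by
      rw [IsoR, rv_add, rv_smul]
      simp only [frm_add_left, frm_add_right, frm_smul_left, frm_smul_right, hxx, hyy, hyx1, hyx2,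
        mul_zero, add_zero]
    have h := hN' _ hi
    rw [rv_add, rv_smul, frm_add_right, frm_smul_right, ← hβ, ← hγ, map_add, map_mul, H.inv] at h
    have h' := F₀.sub_mem (F₀.sub_mem h (hN' x hx))
      (F₀.mul_mem (F₀.mul_mem s.2 (H.mem _ s.2)) (hN' y hy))
    rw [← hβ, ← hγ] at h'
    convert h' using 1
    ring
  obtain ⟨s₀, hs₀⟩ := exists_moved_scalar H hro hcard
  have hAm : γ * σ β ∈ F₀ := by
    have h0 := hpoly 1
    rw [OneMemClass.coe_one, map_one, one_mul, one_mul] at h0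
    have h1 := F₀.div_mem (F₀.sub_mem (hpoly s₀) (F₀.mul_mem s₀.2 h0))
      (F₀.sub_mem (H.mem _ s₀.2) s₀.2)
    convert h1 using 1
    rw [eq_div_iff (sub_ne_zero.mpr hs₀)]
    ring
  have hβ0 : β ≠ 0 := hne x hx0 hx
  let ρ : F₀ := ⟨γ * σ β / (β * σ β), F₀.div_mem hAm (hN' x hx)⟩
  let t : F₀ := ⟨σ ρ, H.mem _ ρ.2⟩
  refine hne (y - t • x) (fun e => hy' t (sub_eq_zero.mp e)) ?_ ?_
  · rw [IsoR, rv_sub, rv_smul]
    simp only [frm_sub_left, frm_sub_right, frm_smul_left, frm_smul_right, hxx, hyy, hyx1, hyx2,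
      mul_zero, sub_zero]
  · rw [rv_sub, rv_smul, frm_sub_right, frm_smul_right, ← hβ, ← hγ]
    have hσβ : σ β ≠ 0 := by simpa using hβ0
    simp only [t, ρ, H.inv]
    field_simp
    ring

include H hN hLG in
/-- Characteristic two: by a central involution of a dihedral group. -/
theorem perp_two [Finite F] (h2 : (2 : F) = 0)
    (hP : ∀ (u : ι → F) (x : ι → F₀), M[L, 0, u, 1] → IsoR σ F₀ J x → x ≠ 0 →
      frm σ F₀ J u (rv F₀ x) = 0 → ∀ i k : ι, σ (u i) * u k ∈ F₀)
    {g : GL ι F} (hg : g ∈ L) {c : ι → F₀} (hc : IsoR σ F₀ J c) (hc0 : c ≠ 0) :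
    ∃ x : ι → F₀, x ≠ 0 ∧ IsoR σ F₀ J x ∧
      frm σ F₀ J ((g : Matrix ι ι F) *ᵥ rv F₀ c) (rv F₀ x) = 0 := by
  set u := (g : Matrix ι ι F) *ᵥ rv F₀ c with hudef
  by_contra hne
  push Not at hne
  have hu0 : u ≠ 0 := fun e => rv_ne_zero F₀ hc0
    (Matrix.mulVec_injective_of_isUnit g.isUnit (e.trans (Matrix.mulVec_zero _).symm))
  obtain ⟨x, hx0, hx, -, -⟩ := exists_iso_perp H 0 0
  obtain ⟨x', hx', hx'x, hx'd⟩ := exists_off1 H x
  have hxd : ∀ t : F₀, x ≠ t • x' := fun t e => by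
    rcases eq_or_ne t 0 with rfl | ht
    · exact hx0 (by rw [e, zero_smul])
    · exact hx'd t⁻¹ (by rw [e, smul_smul, inv_mul_cancel₀ ht, one_smul])
  obtain ⟨p, -, hx'p, hpx⟩ := exists_iso_pair1 H hx'd
  obtain ⟨p', -, hxp, hpx'⟩ := exists_iso_pair1 H hxd
  have hxx : frm σ F₀ J (rv F₀ x) (rv F₀ x) = 0 := hx
  have hxx' : frm σ F₀ J (rv F₀ x') (rv F₀ x') = 0 := hx'
  have h21 : frm σ F₀ J (rv F₀ x') (rv F₀ x) = 0 := hx'x
  have h12 : frm σ F₀ J (rv F₀ x) (rv F₀ x') = 0 := hx'x.symm H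
  have htwo : ∀ M : Matrix ι ι F, M + M = 0 := fun M => by
    rw [← two_smul F M, h2, zero_smul]
  obtain ⟨-, huu, -, a, ha, hae⟩ : M[L, 0, u, 1] := by
    have h := Root.conj hLG hg (rat_long H hN c hc)
    rwa [Matrix.mulVec_zero] at h
  obtain ⟨-, -, -, e, he, hee⟩ := rat_short H hN x' x hx'x hx' hx
  have ha2 : a * a = 1 := Units.ext (by
    rw [Units.val_mul, hae, root_mul H huu (frm_zero_left _) (frm_zero_left _), frm_zero_left,
      add_zero, add_zero, one_add_one_eq_two, h2, root_zero, Units.val_one])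
  have he2 : e * e = 1 := Units.ext (by
    rw [Units.val_mul, hee, root_mul H hxx h21 h21, hxx', add_zero, add_zero, Units.val_one,
      rootMat, emat_add_left, emat_add_right, zero_smul, add_zero, htwo, htwo, add_zero, add_zero])
  have hev : ∀ v, (e : Matrix ι ι F) *ᵥ v =
      v + (frm σ F₀ J v (rv F₀ x) • rv F₀ x' + frm σ F₀ J v (rv F₀ x') • rv F₀ x) := fun v => by
    rw [hee, root_mulVec]; simp
  have hav : ∀ v, (a : Matrix ι ι F) *ᵥ v = v + frm σ F₀ J v u • u := fun v => by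
    rw [hae, root_mulVec]; simp [frm_zero_right]
  have hep : (e : Matrix ι ι F) *ᵥ rv F₀ p' = rv F₀ p' + rv F₀ x' := by
    rw [hev, show frm σ F₀ J (rv F₀ p') (rv F₀ x) = 1 by
      rw [H.skew, hxp, map_one]; linear_combination (-(1 : F)) * h2,
      show frm σ F₀ J (rv F₀ p') (rv F₀ x') = 0 from hpx', one_smul, zero_smul, add_zero]
  have hep' : (e : Matrix ι ι F) *ᵥ rv F₀ p = rv F₀ p + rv F₀ x := by
    rw [hev, show frm σ F₀ J (rv F₀ p) (rv F₀ x) = 0 from hpx,
      show frm σ F₀ J (rv F₀ p) (rv F₀ x') = 1 by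
      rw [H.skew, hx'p, map_one]; linear_combination (-(1 : F)) * h2, one_smul, zero_smul,
      zero_add]
  -- the two involutions are not conjugate
  have hconj : ∀ C : GL ι F, e ≠ C * a * C⁻¹ := by
    intro C hC
    set v := (C : Matrix ι ι F) *ᵥ u
    have hr : ∀ w, ∃ t : F, (e : Matrix ι ι F) *ᵥ w = w + t • v := fun w => by
      refine ⟨frm σ F₀ J (((C⁻¹ : GL ι F) : Matrix ι ι F) *ᵥ w) u, ?_⟩
      rw [hC, Units.val_mul, Units.val_mul, ← Matrix.mulVec_mulVec, ← Matrix.mulVec_mulVec, hav,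
        Matrix.mulVec_add, Matrix.mulVec_mulVec, ← Units.val_mul, mul_inv_cancel, Units.val_one,
        Matrix.one_mulVec, Matrix.mulVec_smul]
    obtain ⟨t, ht⟩ := hr (rv F₀ p)
    obtain ⟨t', ht'⟩ := hr (rv F₀ p')
    rw [hep'] at ht
    rw [hep] at ht'
    have e1 := add_left_cancel ht
    have e2 := add_left_cancel ht'
    have h0 := congrArg (fun z => frm σ F₀ J z (rv F₀ p)) e1
    have h0' := congrArg (fun z => frm σ F₀ J z (rv F₀ p)) e2
    simp only [frm_smul_left, show frm σ F₀ J (rv F₀ x) (rv F₀ p) = 0 from hpx.symm H, hx'p] at h0 h0'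
    rcases mul_eq_zero.mp h0.symm with h | h
    · exact rv_ne_zero F₀ hx0 (by rw [e1, h, zero_smul])
    · rw [h, mul_zero] at h0'
      exact one_ne_zero h0'
  set d := a * e with hd
  have hai : a⁻¹ = a := inv_eq_of_mul_eq_one_right ha2
  have hei : e⁻¹ = e := inv_eq_of_mul_eq_one_right he2
  have hdi : d⁻¹ = e * a := by rw [hd, mul_inv_rev, hai, hei]
  have hag : SemiconjBy a d d⁻¹ := by
    show a * d = d⁻¹ * a
    rw [hdi, hd, ← mul_assoc, ha2, one_mul, mul_assoc, ha2, mul_one]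
  have heg : SemiconjBy e d d⁻¹ := by
    show e * d = d⁻¹ * e
    rw [hdi, hd]
    exact (mul_assoc e a e).symm
  have hdo := pow_orderOf_eq_one d
  have hdL : d ∈ L := L.mul_mem ha he
  rcases Nat.even_or_odd' (orderOf d) with ⟨t, ht | ht⟩
  rotate_left
  · refine hconj (d ^ t) ?_
    have e1 : d ^ t * a = a * (d⁻¹) ^ t := by
      have := ((show SemiconjBy a d⁻¹ d by simpa using hag.inv_right).pow_right t).eq
      exact this.symm
    have e3 : a * (d ^ t)⁻¹ = d ^ t * a := by rw [e1, inv_pow]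
    rw [mul_assoc, e3, ← mul_assoc, ← pow_add]
    have : d ^ (t + t) = d⁻¹ := by
      rw [← two_mul, eq_inv_iff_mul_eq_one, ← pow_succ, ← ht, hdo]
    rw [this, hdi, mul_assoc, ha2, mul_one]
  set w := d ^ t with hw
  have hpos : 0 < orderOf d := orderOf_pos d
  have hw1 : w ≠ 1 := fun e => by
    have := orderOf_le_of_pow_eq_one (n := t) (by omega) e
    omega
  have hw2 : w * w = 1 := by rw [hw, ← pow_add, ← two_mul, ← ht, hdo]
  have hwi : (d⁻¹) ^ t = w := by rw [inv_pow]; exact inv_eq_of_mul_eq_one_right hw2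
  have hwa : w * a = a * w := by
    have := (hag.pow_right t).eq
    rw [hwi] at this
    exact this.symm
  have hwe : w * e = e * w := by
    have := (heg.pow_right t).eq
    rw [hwi] at this
    exact this.symm
  have hwL : w ∈ L := L.pow_mem hdL t
  obtain ⟨hwf, -⟩ := mem_spIso.mp (hLG hwL)
  -- the central involution is rational
  have hwx : frm σ F₀ J ((w : Matrix ι ι F) *ᵥ rv F₀ x) (rv F₀ x) = 0 := by
    have h1 : (w : Matrix ι ι F) *ᵥ ((e : Matrix ι ι F) *ᵥ rv F₀ p) =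
        (e : Matrix ι ι F) *ᵥ ((w : Matrix ι ι F) *ᵥ rv F₀ p) := by
      rw [Matrix.mulVec_mulVec, Matrix.mulVec_mulVec, ← Units.val_mul, hwe, Units.val_mul]
    rw [hep', hev, Matrix.mulVec_add] at h1
    rw [add_left_cancel h1]
    simp only [frm_add_left, frm_smul_left, hxx, h21, mul_zero, add_zero]
  have : Nonempty ι := Fintype.card_pos_iff.mp (by have := H.card; omega)
  have hwE := entries_of_ratG_two (ι := ι) h2 hw2
    (ratG_of' H hN hLG hP hwL hx hx0 hx hx0 hwx)
  obtain ⟨m, hm0, z, hmz⟩ := exists_rat_moved hwE hw1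
  -- it fixes `u`
  have hwu : (w : Matrix ι ι F) *ᵥ u = u := by
    obtain ⟨v, hv⟩ : ∃ v, frm σ F₀ J v u ≠ 0 := ⟨rv F₀ x, fun h => hne x hx0 hx (frm_perp H h)⟩
    have h1 : (w : Matrix ι ι F) *ᵥ ((a : Matrix ι ι F) *ᵥ v) =
        (a : Matrix ι ι F) *ᵥ ((w : Matrix ι ι F) *ᵥ v) := by
      rw [Matrix.mulVec_mulVec, Matrix.mulVec_mulVec, ← Units.val_mul, hwa, Units.val_mul]
    rw [hav, hav, Matrix.mulVec_add, Matrix.mulVec_smul] at h1
    have h3 := add_left_cancel h1
    set l := frm σ F₀ J ((w : Matrix ι ι F) *ᵥ v) u / frm σ F₀ J v u with hl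
    have h4 : (w : Matrix ι ι F) *ᵥ u = l • u := by
      rw [hl, div_eq_inv_mul, ← smul_smul, ← h3, smul_smul, inv_mul_cancel₀ hv, one_smul]
    have h5 : (l * l) • u = u := by
      rw [← smul_smul, ← h4, ← Matrix.mulVec_smul, ← h4, Matrix.mulVec_mulVec, ← Units.val_mul,
        hw2, Units.val_one, Matrix.one_mulVec]
    have h6 : l * l = 1 := by
      by_contra hne'
      refine hu0 ((smul_eq_zero.mp (show (l * l - 1) • u = 0 by
        rw [sub_smul, one_smul, h5, sub_self])).resolve_left (sub_ne_zero.mpr hne'))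
    have h7 : l = 1 := by
      have : (l - 1) * (l - 1) = 0 := by linear_combination h6 - (l - 1) * h2
      exact sub_eq_zero.mp (mul_self_eq_zero.mp this)
    rw [h4, h7, one_smul]
  have hmm : IsoR σ F₀ J m := by
    rw [IsoR, hmz]
    set W := (w : Matrix ι ι F) *ᵥ z
    have h1 : frm σ F₀ J W W = frm σ F₀ J z z := hwf z z
    have h3 : frm σ F₀ J W z = frm σ F₀ J z W := by
      have h := hwf z W
      rwa [Matrix.mulVec_mulVec, ← Units.val_mul, hw2, Units.val_one, Matrix.one_mulVec] at h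
    simp only [frm_sub_left, frm_sub_right, h1, h3]
    linear_combination (frm σ F₀ J z z - frm σ F₀ J z W) * h2
  refine hne m hm0 hmm (frm_perp H ?_)
  rw [hmz, frm_sub_left]
  nth_rw 1 [← hwu]
  rw [hwf, sub_self]

include H hN hLG hro hcard in
/-- Overgroups for odd prime index. -/
theorem odd_overgroup [Finite F] (hr : r.Prime) :
    L = ratIso σ F₀ J ∨ L = spIso σ F₀ J := by
  by_cases hA : ∀ (x : ι → F₀) (c : F), IsoR σ F₀ J x → x ≠ 0 → M[L, 0, rv F₀ x, c] → c ∈ F₀
  swap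
  · push Not at hA
    obtain ⟨x, c, hx, hx0, h, hc⟩ := hA
    exact Or.inr (le_antisymm hLG (full_of_long H hN hLG hro hcard hr hc hx hx0 h))
  have hP := prod_rat H hN hLG hro hcard hA
  refine Or.inl (le_antisymm (fun g hg => Subgroup.mem_inf.mpr
    ⟨(mem_subfieldSubgroup_one F₀ g).mpr ?_, hLG hg⟩) hN)
  obtain ⟨c, hc0, hc, -, -⟩ := exists_iso_perp H 0 0
  obtain ⟨x, hx0, hx, hgx⟩ : ∃ x : ι → F₀, x ≠ 0 ∧ IsoR σ F₀ J x ∧
      frm σ F₀ J ((g : Matrix ι ι F) *ᵥ rv F₀ c) (rv F₀ x) = 0 := by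
    by_cases h2 : (2 : F) = 0
    · exact perp_two H hN hLG h2 hP hg hc hc0
    · exact perp_odd H hN hLG hro hcard h2 hA hg hc
  exact ratG_of' H hN hLG hP hg hc hc0 hx hx0 hgx

end Odd

end Cfsg.Lib.Linear.SubU
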