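import Cfsg.Agent.Lib.Linear.SUFour.Subfield
import Cfsg.Agent.S5658

/-!
# Subfield groups of `SU_4(q)`

Odd prime index and the symplectic type, for the standard form.
-/

set_option autoImplicit false

namespace Cfsg.Lib.Linear.SUFour

open scoped Matrix
open Cfsg.Lib.Linear Cfsg.Lib.Linear.SubU Cfsg.Lib.Linear.Rat0

variable {F : Type*} [Field F] [Fintype F] {q : ℕ} (hF : Fintype.card F = q ^ 2) {F₀ : Subfield F}

include hF in
/-- Subfield groups of odd prime index. -/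
theorem subfield_odd_maximal {r : ℕ} (hr : r.Prime) (hro : Odd r)
    (hcard : Fintype.card F = Nat.card F₀ ^ r) {P : GL (Fin 4) F}
    (hP : Cfsg.Geo.IsFormRationalStructure (Cfsg.hermForm 4 F q) F₀ 1 P) :
    Cfsg.Geo.IsMaximalIn (Cfsg.GU 4 F q ⊓ Cfsg.Geo.specialLinear (Fin 4) F)
      (Cfsg.Geo.subfieldSubgroup F₀ P ⊓
        (Cfsg.GU 4 F q ⊓ Cfsg.Geo.specialLinear (Fin 4) F)) := by
  obtain ⟨x, hx⟩ := Cfsg.Agent.S5658.exists_rat_conj_ne hF hro hcard
  have hz : ((x : F) - (x : F) ^ q) + ((x : F) - (x : F) ^ q) ^ q = 0 := by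
    rw [← Herm.frob_apply hF, ← Herm.frob_apply hF, map_sub, Herm.frob_frob]
    ring
  have hz0 : (x : F) - (x : F) ^ q ≠ 0 := sub_ne_zero.mpr hx.symm
  have hzF : (x : F) - (x : F) ^ q ∈ F₀ := F₀.sub_mem x.2 (F₀.pow_mem x.2 q)
  have hP' : Cfsg.Geo.IsFormRationalStructure (Cfsg.hermForm 4 F q) F₀
      ((x : F) - (x : F) ^ q) P := fun u v hu hv => by
    have := hP u v hu hv
    rw [one_mul] at this
    exact F₀.mul_mem hzF this
  have H := Cfsg.Agent.S5658.subHyp hF hP' hz hz0 hzF hx le_rfl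
  rw [Fintype.card_eq_nat_card] at hcard
  exact maximal_transfer hF hP' hz0
    ⟨ratIso_lt H hr hcard, fun L hN hLG => odd_overgroup H hN hLG hro hcard hr⟩

include hF in
/-- Subfield groups of symplectic type. -/
theorem subfield_alt_maximal (hcard : Fintype.card F = Nat.card F₀ ^ 2) {ζ : F} (hζ0 : ζ ≠ 0)
    (hζ : ζ + ζ ^ q = 0) {P : GL (Fin 4) F}
    (hP : Cfsg.Geo.IsFormRationalStructure (Cfsg.hermForm 4 F q) F₀ ζ P)
    (halt : ∀ u : Fin 4 → F, (∀ i, u i ∈ F₀) → Cfsg.hermForm 4 F q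
      ((P : Matrix (Fin 4) (Fin 4) F) *ᵥ u) ((P : Matrix (Fin 4) (Fin 4) F) *ᵥ u) = 0) :
    Cfsg.Geo.IsMaximalIn (Cfsg.GU 4 F q ⊓ Cfsg.Geo.specialLinear (Fin 4) F)
      (Cfsg.Geo.subfieldSubgroup F₀ P ⊓
        (Cfsg.GU 4 F q ⊓ Cfsg.Geo.specialLinear (Fin 4) F)) := by
  have hiso : ∀ x : Fin 4 → F₀, IsoR (Herm.frob hF) F₀ (gram hP) x := fun x => by
    rw [IsoR, frm_gram, halt (rv F₀ x) (fun i => (x i).2), mul_zero]
  have H : SubHyp (Herm.frob hF) F₀ (gram hP) :=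
    { inv := Herm.frob_frob hF
      ne := Herm.frob_ne_id hF
      mem := fun x hx => by rw [Herm.frob_apply]; exact F₀.pow_mem hx q
      det := det_gram hF hP hζ0
      skew := skew_gram hF hP hζ
      htr := fun x => ⟨0, by rw [ZeroMemClass.coe_zero, map_zero, sub_zero]; exact (hiso x).symm⟩
      span1 := fun x a ha => AddSubgroup.subset_closure ⟨hiso x, ha⟩
      span2 := fun _ x a b ha hb => AddSubgroup.subset_closure ⟨hiso x, ha, hb⟩
      iso2 := fun c w hc _ => ⟨1, 0, by simpa using hc, hiso _⟩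
      card := by rw [Fintype.card_fin] }
  have hq : Nat.card F₀ = q := Nat.pow_left_injective two_ne_zero (hcard.symm.trans hF)
  have hfrob : ∀ x : F, Herm.frob hF x = frobRel F₀ x := fun x => by
    letI := Fintype.ofFinite F₀
    show _ = x ^ Fintype.card F₀
    rw [Herm.frob_apply, ← Nat.card_eq_fintype_card, hq]
  rw [Fintype.card_eq_nat_card] at hcard
  exact maximal_transfer hF hP hζ0 ⟨ratIso_lt H Nat.prime_two hcard, fun L hN hLG =>
    alt_overgroup H hN hLG (fun x hx => by rw [hfrob]; exact frobRel_mem F₀ ⟨x, hx⟩)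
      (fun x hx => mem_of_frobRel_eq F₀ (by rw [← hfrob]; exact hx)) hiso Nat.prime_two hcard⟩

end Cfsg.Lib.Linear.SUFour
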