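import Cfsg.Agent.Lib.Linear.SUFour.Point

/-!
# Subspace stabilisers in four-dimensional special unitary groups
-/

set_option autoImplicit false

namespace Cfsg.Lib.Linear.SUFour

open Module
open Cfsg.Lib.Linear Cfsg.Lib.Linear.Herm

variable {F : Type*} [Field F] [Fintype F] {q : ℕ} (hF : Fintype.card F = q ^ 2)

include hF in
/-- The form of `SU₄` is a space. -/
theorem space : Big.Space (hB hF 4) :=
  ⟨frob_ne_id hF, frob_frob hF, hB_isSymm hF 4, hB_nondegenerate hF 4, by rw [finrank_fin_fun]⟩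

include hF in
/-- Stabilisers of totally singular subspaces. -/
theorem singular_maximal (W : Submodule F (Fin 4 → F)) (hW0 : W ≠ ⊥)
    (hW : Cfsg.Geo.IsTotallySingularFor (Cfsg.hermForm 4 F q) W) :
    Cfsg.Geo.IsMaximalIn (Cfsg.GU 4 F q ⊓ Cfsg.Geo.specialLinear (Fin 4) F)
      (Cfsg.Geo.subspaceStabilizer W ⊓ (Cfsg.GU 4 F q ⊓ Cfsg.Geo.specialLinear (Fin 4) F)) := by
  have C := space hF
  have hWi : ∀ u ∈ W, ∀ v ∈ W, hB hF 4 u v = 0 := fun u hu v hv => hW v hv u hu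
  obtain ⟨w, hw, hw0⟩ := Submodule.exists_mem_ne_zero_of_ne_bot hW0
  obtain ⟨f, hf, hwf, -⟩ := Big.exists_partner_perp C (hWi w hw w hw) ⊥ (by simpa using hw0)
    (fun x hx => by rw [(Submodule.mem_bot F).1 hx]; simp)
  refine UMax.isMaximalIn_su hF C W (UMax.sStab_ne_of hF hw hf (fun h => ?_) ?_)
    fun L h1 h2 => UMax.maximal_singular hF C hWi h1 h2
  · rw [hWi w hw f h] at hwf; exact zero_ne_one hwf
  · rw [Big.swap_one C hwf]; exact one_ne_zero

include hF in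
/-- Stabilisers of non-degenerate points. -/
theorem point_maximal (W : Submodule F (Fin 4 → F)) (hW0 : W ≠ ⊥)
    (hW : Cfsg.Geo.IsNondegenerateOn (Cfsg.hermForm 4 F q) W) (hdim : 2 * finrank F W < 4) :
    Cfsg.Geo.IsMaximalIn (Cfsg.GU 4 F q ⊓ Cfsg.Geo.specialLinear (Fin 4) F)
      (Cfsg.Geo.subspaceStabilizer W ⊓ (Cfsg.GU 4 F q ⊓ Cfsg.Geo.specialLinear (Fin 4) F)) := by
  have C := space hF
  have hWa : ∀ x ∈ W, x ≠ 0 → hB hF 4 x x ≠ 0 := by
    intro x hx hx0 hxx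
    obtain ⟨-, y, hy, hxy⟩ := hW x hx hx0
    obtain ⟨c, rfl⟩ : ∃ c : F, y = c • x := by
      have h1 := Submodule.eq_of_le_of_finrank_le
        ((Submodule.span_singleton_le_iff_mem x W).2 hx) (by rw [finrank_span_singleton hx0]; omega)
      obtain ⟨c, hc⟩ := Submodule.mem_span_singleton.1 (h1.ge hy)
      exact ⟨c, hc.symm⟩
    apply hxy
    show hB hF 4 (c • x) x = 0
    rw [LinearMap.map_smulₛₗ, LinearMap.smul_apply, hxx, smul_zero]
  obtain ⟨x, hx, hx0⟩ := Submodule.exists_mem_ne_zero_of_ne_bot hW0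
  have hWn : W ⊓ perp hF W = ⊥ := (Submodule.eq_bot_iff _).2 fun v hv => by
    by_contra h0
    exact hWa v hv.1 h0 (hv.2 v hv.1)
  have hUdim := finrank_perp hF W
  obtain ⟨b, hb, hbb⟩ : ∃ b ∈ perp hF W, hB hF 4 b b = -(hB hF 4 x x) := by
    obtain ⟨u, hu, hu0, huu⟩ := exists_iso_ne_zero C.ne_id C.invol C.symm (perp hF W) (by omega)
    obtain ⟨y, hy, huy⟩ : ∃ y ∈ perp hF W, hB hF 4 u y ≠ 0 := by
      by_contra h
      push Not at h
      have : u ∈ W ⊓ perp hF W :=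
        ⟨UMax.perp_perp hF W ▸ fun z hz => hB_symm_zero hF (h z hz), hu⟩
      rw [hWn, Submodule.mem_bot] at this
      exact hu0 this
    have h1 : hB hF 4 u ((hB hF 4 u y)⁻¹ • y) = 1 := by
      rw [map_smul, smul_eq_mul, inv_mul_cancel₀ huy]
    obtain ⟨t, ht⟩ := exists_trace_eq C.ne_id C.invol
      (a := -(hB hF 4 x x) - hB hF 4 ((hB hF 4 u y)⁻¹ • y) ((hB hF 4 u y)⁻¹ • y))
      (by rw [map_sub, map_neg, (hB_isSymm hF 4).eq, (hB_isSymm hF 4).eq])
    refine ⟨(hB hF 4 u y)⁻¹ • y + t • u, add_mem (Submodule.smul_mem _ _ hy)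
      (Submodule.smul_mem _ _ hu), ?_⟩
    have h2 := Big.swap_one C h1
    simp only [map_add, map_smul, LinearMap.map_smulₛₗ, LinearMap.add_apply, LinearMap.smul_apply,
      smul_eq_mul, huu] at h1 h2 ht ⊢
    linear_combination ht + t * h2 + frob hF t * h1
  refine UMax.isMaximalIn_su hF C W (UMax.sStab_ne_of hF hx (v := x + b) ?_ (fun h => ?_) ?_)
    fun L h1 h2 => UMax.maximal_aniso hF C hWa (by omega) h1 h2
  · simp only [map_add, LinearMap.add_apply, show hB hF 4 x b = 0 from hb x hx,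
      hB_symm_zero hF (hb x hx), hbb]
    ring
  · have : b ∈ W ⊓ perp hF W := ⟨(W.add_mem_iff_right hx).1 h, hb⟩
    rw [hWn, Submodule.mem_bot] at this
    rw [this, map_zero] at hbb
    exact hWa x hx hx0 (by simpa using hbb.symm)
  · rw [map_add, LinearMap.add_apply, hB_symm_zero hF (hb x hx), add_zero]
    exact hWa x hx hx0

end Cfsg.Lib.Linear.SUFour
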